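import Cfsg.Agent.Lib.Quadratic.Consequences
import Cfsg.Agent.Lib.Quadratic.Stable
import Cfsg.Agent.Lib.PLocal.SolvableSeparable
import Cfsg.Agent.Lib.PLocal.ConstrainedLocal
import Cfsg.Agent.Lib.PLocal.StableNormal
import Cfsg.Agent.Lib.Signalizer.OmegaInvariant
import Cfsg.Agent.Lib.ZJ.Theorem
import Cfsg.Agent.Lib.ZJ.Center
import Cfsg.Agent.Lib.Products
import Cfsg.Agent.Lib.OddLocal.PStructure
import Cfsg.Agent.Lib.PGroup.RankTwoAut
import Cfsg.Agent.Lib.PGroup.Uniserial
import Cfsg.Agent.Lib.Blocks.Orth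

/-!
Solvable groups and a prime `p ≥ 5`: quadratic elements, `Z(J)`, balance and `p`-length one in rank two.
-/

set_option autoImplicit false
set_option linter.unusedSectionVars false
set_option linter.style.haveILetI false

namespace CfsgLib.PairSol

open Cfsg Subgroup
open scoped commutatorElement

universe u

variable {X : Type u} [Group X] [Finite X] {p : ℕ} [Fact p.Prime]

theorem quadStable [Group.IsSolvable X] (hp : 5 ≤ p) : ZJ.QuadStable p X := by
  have hp2 : p ≠ 2 := by omega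
  refine Quadratic.quadStable_of_isNormalizerPStable (fun P hP g hg hq => ?_)
  by_contra hout
  obtain ⟨K, -, f, hf⟩ := Quadratic.exists_sl2_section hp2 hP le_rfl hg (Quadratic.quad_pointwise hq) hout
  have h3 := Quadratic.eq_three_of_isPSolvable hp2
    (CfsgLib.PLocal.isPSolvable_of_isSolvable _ K rfl inferInstance) le_rfl f hf
  omega

theorem isPConstrained [Group.IsSolvable X] : IsPConstrained p X :=
  CfsgLib.PLocal.isPConstrained_of_quotient
    (CfsgLib.centralizer_pCore_le Fact.out (CfsgLib.pPrimeCore_quotient_eq_bot p))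

theorem core_le_pPrimePCore : pPrimeCore p X ≤ pPrimePCore p X := by
  intro x hx
  have h1 : QuotientGroup.mk' (pPrimeCore p X) x = 1 := (QuotientGroup.eq_one_iff x).2 hx
  show QuotientGroup.mk' (pPrimeCore p X) x ∈ pCore p (X ⧸ pPrimeCore p X)
  rw [h1]
  exact one_mem _

/-- A `p'`-element of `O_{p',p}` lies in `O_{p'}`. -/
theorem mem_core_of_mem_pPrimePCore {x : X} (hx : x ∈ pPrimePCore p X) (ho : (orderOf x).Coprime p) :
    x ∈ pPrimeCore p X := by
  refine (QuotientGroup.eq_one_iff x).1 ?_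
  obtain ⟨k, hk⟩ := CfsgLib.isPGroup_pCore (G := X ⧸ pPrimeCore p X) p ⟨_, hx⟩
  exact orderOf_eq_one_iff.1 (Nat.eq_one_of_dvd_coprimes (ho.pow_right k)
    (orderOf_map_dvd (QuotientGroup.mk' (pPrimeCore p X)) x)
    (orderOf_dvd_of_pow_eq_one (congrArg Subtype.val hk)))

/-- An element acting quadratically on a Sylow subgroup containing it lies in `O_{p',p}`. -/
theorem mem_pPrimePCore_of_quad [Group.IsSolvable X] (hp : 5 ≤ p) (S : Sylow p X) {x : X}
    (hx : x ∈ (S : Subgroup X)) (hq : ⁅⁅(S : Subgroup X), zpowers x⁆, zpowers x⁆ = ⊥) :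
    x ∈ pPrimePCore p X := by
  set π := QuotientGroup.mk' (pPrimeCore p X) with hπ
  have hπs : Function.Surjective π := QuotientGroup.mk'_surjective _
  haveI : Group.IsSolvable (X ⧸ pPrimeCore p X) := Group.isSolvable_of_surjective hπs
  set R := pCore p (X ⧸ pPrimeCore p X) with hR
  have hRS : R ≤ (S : Subgroup X).map π := CfsgLib.pCore_le_sylow (S.mapSurjective hπs)
  have hq' : ⁅⁅R, zpowers (π x)⁆, zpowers (π x)⁆ = ⊥ := by
    refine le_bot_iff.1 ((commutator_mono (commutator_mono hRS le_rfl) le_rfl).trans (le_of_eq ?_))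
    rw [← MonoidHom.map_zpowers, ← map_commutator, ← map_commutator, hq, Subgroup.map_bot]
  have ha : ∃ k, (π x) ^ p ^ k = 1 := by
    obtain ⟨k, hk⟩ := S.2 ⟨x, hx⟩
    exact ⟨k, by rw [← map_pow, show x ^ p ^ k = 1 from congrArg Subtype.val hk, map_one]⟩
  have h := quadStable (X := X ⧸ pPrimeCore p X) hp R (CfsgLib.isPGroup_pCore p) (π x) ha hq'
  set C := centralizer (R : Set (X ⧸ pPrimeCore p X)) with hC
  have hD : IsPGroup p ((pCore p ((X ⧸ pPrimeCore p X) ⧸ C)).comap (QuotientGroup.mk' C)) :=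
    (CfsgLib.isPGroup_pCore p).comap_of_ker_isPGroup _ (by
      rw [QuotientGroup.ker_mk']
      exact (CfsgLib.isPGroup_pCore p).to_le
        (CfsgLib.centralizer_pCore_le Fact.out (CfsgLib.pPrimeCore_quotient_eq_bot p)))
  exact CfsgLib.le_pCore hD h

/-- An element of `S` central in a normal subgroup of `S` containing it is quadratic on `S`. -/
theorem quad_of_central {S C : Subgroup X} {x : X} (hSC : S ≤ normalizer (C : Set X)) (hx : x ∈ C)
    (hc : ∀ c ∈ C, x * c = c * x) : ⁅⁅S, zpowers x⁆, zpowers x⁆ = ⊥ := by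
  rw [commutator_eq_bot_iff_le_centralizer]
  refine le_trans ?_ (show C ≤ centralizer (zpowers x : Set X) from fun c hc' y hy => ?_)
  · rw [Subgroup.commutator_le]
    intro s hs y hy
    have hyC : y ∈ C := Subgroup.zpowers_le.2 hx hy
    rw [commutatorElement_def]
    exact mul_mem ((mem_normalizer_iff.1 (hSC hs) _).1 hyC) (inv_mem hyC)
  · obtain ⟨i, rfl⟩ := mem_zpowers_iff.1 hy
    exact ((show Commute x c from hc c hc').zpow_left i).eq

/-- `X = O_{p'}(X) N(Z(J(S)))`. -/
theorem zj_frattini [Group.IsSolvable X] (hp : 5 ≤ p) (S : Sylow p X) (g : X) :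
    ∃ o ∈ pPrimeCore p X, ∃ n ∈ normalizer (ZJ.zj p (S : Subgroup X) : Set X), g = o * n := by
  set K := pPrimeCore p X with hK
  set π := QuotientGroup.mk' K with hπ
  have hπs : Function.Surjective π := QuotientGroup.mk'_surjective K
  have hdis : Disjoint (S : Subgroup X) K := by
    obtain ⟨k, hk⟩ := IsPGroup.iff_card.1 S.2
    exact disjoint_of_coprime_natCard (by rw [hk]; exact ((CfsgLib.card_pPrimeCore_coprime p).pow_right k).symm)
  have hinj : Set.InjOn π ((S : Subgroup X) : Set X) := fun x hx y hy hxy =>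
    inv_mul_eq_one.1 (disjoint_def.1 hdis (mul_mem (inv_mem hx) hy) (QuotientGroup.eq.1 hxy))
  haveI : Group.IsSolvable (X ⧸ K) := Group.isSolvable_of_surjective hπs
  have hZ := CfsgLib.ZJ.zj_normal (by omega) (Or.inr rfl)
    (CfsgLib.centralizer_pCore_le Fact.out (CfsgLib.pPrimeCore_quotient_eq_bot p))
    (quadStable hp) (S.mapSurjective hπs)
  rw [show ((S.mapSurjective hπs : Sylow p (X ⧸ K)) : Subgroup (X ⧸ K)) = (S : Subgroup X).map π from rfl,
    CfsgLib.ZJ.zj_map_of_injOn p π _ hinj] at hZ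
  haveI := hZ
  set Z := ZJ.zj p (S : Subgroup X) with hZdef
  haveI hN : (Z ⊔ K).Normal := by
    have h2 : (Z.map π).comap π = Z ⊔ K := by rw [comap_map_eq, hπ, QuotientGroup.ker_mk']
    rw [← h2]
    exact normal_comap π
  set N := Z ⊔ K with hNdef
  have hZN : Z ≤ N := le_sup_left
  have hidx : ¬ p ∣ (Z.subgroupOf N).index := by
    intro hd
    change p ∣ Z.relIndex N at hd
    have h1 : Nat.card Z * Z.relIndex N ∣ Nat.card Z * Nat.card K := by
      rw [CfsgLib.Products.card_mul_relIndex_of_le hZN]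
      exact CfsgLib.card_sup_dvd_mul Z K
    exact CfsgLib.not_dvd_card_pPrimeCore Fact.out (hd.trans (Nat.dvd_of_mul_dvd_mul_left Nat.card_pos h1))
  set T : Sylow p N := ((S.2.to_le (ZJ.zj_le p _)).comap_subtype (K := N)).toSylow hidx with hT
  have hfr := T.normalizer_sup_eq_top
  rw [show (T : Subgroup N).map N.subtype = Z from map_subgroupOf_eq_of_le hZN] at hfr
  have hg : g ∈ K ⊔ normalizer (Z : Set X) :=
    (show (⊤ : Subgroup X) ≤ _ from
      hfr ▸ sup_le le_sup_right (sup_le (le_normalizer.trans le_sup_right) le_sup_left)) (mem_top g)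
  obtain ⟨o, ho, n, hn, h⟩ := mem_sup_of_normal_left.1 hg
  exact ⟨o, ho, n, hn, h.symm⟩

/-- `X = O_{p'}(X) N(R)` for `R = S ∩ O_{p',p}(X)`. -/
theorem core_frattini (S : Sylow p X) (g : X) :
    ∃ o ∈ pPrimeCore p X,
      ∃ n ∈ normalizer (((S : Subgroup X) ⊓ pPrimePCore p X : Subgroup X) : Set X), g = o * n := by
  haveI : (pPrimePCore p X).Normal := normal_comap _
  obtain ⟨T, hT⟩ := CfsgLib.PLocal.exists_sylow_inf S (pPrimePCore p X)
  set R := (S : Subgroup X) ⊓ pPrimePCore p X with hR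
  have hle : pPrimePCore p X ≤ R ⊔ pPrimeCore p X := by
    intro y hy
    have h1 := CfsgLib.PLocal.map_sylow_pPrimePCore T
    rw [hT] at h1
    have h2 : y ∈ (R.map (QuotientGroup.mk' (pPrimeCore p X))).comap (QuotientGroup.mk' (pPrimeCore p X)) := by
      rw [mem_comap, h1]; exact hy
    rwa [comap_map_eq, QuotientGroup.ker_mk'] at h2
  have hfr := T.normalizer_sup_eq_top
  rw [hT] at hfr
  have hg : g ∈ pPrimeCore p X ⊔ normalizer (R : Set X) :=
    (show (⊤ : Subgroup X) ≤ _ from
      hfr ▸ sup_le le_sup_right (hle.trans (sup_le (le_normalizer.trans le_sup_right) le_sup_left))) (mem_top g)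
  obtain ⟨o, ho, n, hn, h⟩ := mem_sup_of_normal_left.1 hg
  exact ⟨o, ho, n, hn, h.symm⟩

/-- `O_{p'}(C(D)) ≤ O_{p'}(X)` for a `p`-subgroup `D` of a solvable group. -/
theorem core_centralizer_le [Group.IsSolvable X] {D : Subgroup X} (hD : IsPGroup p D) :
    (pPrimeCore p ↥(centralizer (D : Set X))).map (centralizer (D : Set X)).subtype ≤ pPrimeCore p X := by
  have hc := CfsgLib.centralizer_pCore_le (G := X ⧸ pPrimeCore p X) (p := p) Fact.out
    (CfsgLib.pPrimeCore_quotient_eq_bot p)
  have h0 := CfsgLib.PLocal.pPrimeCore_normalizer hc hD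
  set N := normalizer (D : Set X) with hN
  set C := centralizer (D : Set X) with hC
  have hCN : C ≤ N := fun c hc' => mem_normalizer_iff.2 fun t => ⟨fun ht => by
    rwa [← hc' t ht, mul_inv_cancel_right], fun ht => by
    have h := hc' _ ht
    have h' : c * t * c⁻¹ = t := by
      have := congrArg (fun z => c⁻¹ * z) h
      simpa [mul_assoc] using this.symm
    rwa [h'] at ht⟩
  haveI : (C.subgroupOf N).Normal := by
    rw [hC, hN]; infer_instance
  set C' := C.subgroupOf N with hC'
  haveI : ((pPrimeCore p C').map C'.subtype).Normal := ConjAct.normal_of_characteristic_of_normal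
  have h1 : (pPrimeCore p C').map C'.subtype ≤ pPrimeCore p N := CfsgLib.le_pPrimeCore (by
    rw [card_map_of_injective C'.subtype_injective]; exact CfsgLib.card_pPrimeCore_coprime p)
  rintro _ ⟨c, hc1, rfl⟩
  have h2 : (⟨⟨(c : X), hCN c.2⟩, c.2⟩ : C') ∈ pPrimeCore p C' := by
    rw [← CfsgLib.pPrimeCore_map_equiv p (subgroupOfEquivOfLe hCN).symm]
    exact ⟨c, hc1, rfl⟩
  exact (h0.le ⟨_, h1 ⟨_, h2, rfl⟩, rfl⟩).1

/-- A maximal elementary abelian subgroup normalises only `p'`-subgroups inside `O_{p'}`. -/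
theorem le_core_of_maximal [Group.IsSolvable X] (hp2 : p ≠ 2) (E : Subgroup X) (hE : IsElementaryAbelian p E)
    (hmax : ∀ B : Subgroup X, IsElementaryAbelian p B → E ≤ B → B ≤ E) (Y : Subgroup X)
    (hY : (Nat.card Y).Coprime p) (hEY : E ≤ normalizer (Y : Set X)) : Y ≤ pPrimeCore p X := by
  have hEp : IsPGroup p E := fun v => ⟨1, Subtype.ext (by simpa using hE.2 v v.2)⟩
  refine CfsgLib.Signalizer.le_pPrimeCore_of_omega hp2 isPConstrained E hEp (fun x hx hxo => ?_) Y hY hEY
  have hgen : ∀ a ∈ insert x (E : Set X), ∀ b ∈ insert x (E : Set X), a * b = b * a := by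
    rintro a (rfl | ha) b (rfl | hb)
    · rfl
    · exact (hx b hb).symm
    · exact hx a ha
    · exact congrArg Subtype.val (hE.1.is_comm.comm (⟨a, ha⟩ : E) ⟨b, hb⟩)
  let B : Subgroup X := closure (insert x (E : Set X))
  have hBc : IsMulCommutative B := Subgroup.isMulCommutative_closure hgen
  have hBe : ∀ a ∈ B, a ^ p = 1 := by
    intro a ha
    induction ha using Subgroup.closure_induction with
    | mem y hy =>
      rcases hy with rfl | hy
      · rw [← hxo]; exact pow_orderOf_eq_one y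
      · exact hE.2 y hy
    | one => exact one_pow p
    | mul y z hy hz h1 h2 =>
      rw [(show Commute y z from congrArg Subtype.val (hBc.is_comm.comm (⟨y, hy⟩ : B) ⟨z, hz⟩)).mul_pow,
        h1, h2, one_mul]
    | inv y _ h1 => rw [inv_pow, h1, inv_one]
  exact hmax B ⟨hBc, hBe⟩ (fun e he => subset_closure (Or.inr he)) (subset_closure (Or.inl rfl))

/-- The detecting data of a `p`-group of rank at most two. -/
theorem exists_detect {R : Type u} [Group R] [Finite R] (hp2 : p ≠ 2) (hR : IsPGroup p R)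
    (hrk : PRankLE p 2 R) : ∃ D : Subgroup R, D.Characteristic ∧ (∀ d ∈ D, d ^ p = 1) ∧ Nat.card D ≤ p ^ 3 ∧
      Nat.card D ≤ p ^ 2 * Nat.card (⁅D, D⁆ : Subgroup R) ∧
      ∀ α : MulAut R, (orderOf α).Coprime p → (∀ d ∈ D, d⁻¹ * α d ∈ ⁅D, D⁆) → α = 1 := by
  have hp : p.Prime := Fact.out
  obtain ⟨C, hch, hcom, hpow, hcen⟩ := CfsgLib.Small.exists_critical hR
  haveI := hch
  have hs : CfsgLib.Small.smallExp p = p := by simp [CfsgLib.Small.smallExp, hp2]
  let D : Subgroup R :=
    { carrier := {x | x ∈ C ∧ x ^ p = 1}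
      one_mem' := ⟨one_mem _, one_pow _⟩
      mul_mem' := fun {a b} ha hb => ⟨mul_mem ha.1 hb.1, by
        rw [CfsgLib.Small.mul_pow_of_central ha.1 hb.1
          (fun u _ v hv w hw => (mem_centralizer_iff.mp (hcom u v hv).2 w hw).symm)
          (fun u hu w hw => (mem_centralizer_iff.mp (hpow u hu).2 w hw).symm)
          (hp.dvd_choose_self two_ne_zero (by have := hp.two_le; omega)), ha.2, hb.2, one_mul]⟩
      inv_mem' := fun {a} ha => ⟨inv_mem ha.1, by rw [inv_pow, ha.2, inv_one]⟩ }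
  have hD2 : ∀ a ∈ D, ∀ b ∈ D, ∀ c ∈ D, Commute ⁅a, b⁆ c := fun a _ b hb c hc =>
    (mem_centralizer_iff.mp (hcom a b hb.1).2 c hc.1).symm
  have h3 : Nat.card D ≤ p ^ 3 := CfsgLib.PGroupRankTwo.card_exp_class_two_le hR hrk (fun d hd => hd.2) hD2
  refine ⟨D, ?_, fun d hd => hd.2, h3, ?_, fun α hα h => ?_⟩
  · rw [characteristic_iff_map_le]
    rintro e _ ⟨x, ⟨hx, hx'⟩, rfl⟩
    exact ⟨CfsgLib.Small.apply_mem_of_char e hx, by show (e x) ^ p = 1; rw [← map_pow, hx', map_one]⟩
  · by_cases hab : ⁅D, D⁆ = ⊥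
    · have hc : IsMulCommutative D := ⟨⟨fun a b => Subtype.ext (by
        have h := commutator_mem_commutator a.2 b.2
        rw [hab, mem_bot, commutatorElement_eq_one_iff_mul_comm] at h
        exact h)⟩⟩
      exact (hrk D hc fun d hd => hd.2).trans (Nat.le_mul_of_pos_right _ Nat.card_pos)
    · have hW : p ≤ Nat.card (⁅D, D⁆ : Subgroup R) := by
        obtain ⟨k, hk⟩ := IsPGroup.iff_card.1 (hR.to_subgroup ⁅D, D⁆)
        rcases k with _ | k
        · exact absurd (eq_bot_of_card_eq _ (by simpa using hk)) hab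
        · rw [hk]; exact Nat.le_self_pow (by omega) p
      calc Nat.card D ≤ p ^ 2 * p := by rw [← pow_succ]; exact h3
        _ ≤ _ := Nat.mul_le_mul_left _ hW
  · have hfix : ∀ w ∈ ⁅D, D⁆, α w = w := by
      have hle : ⁅D, D⁆ ≤ α.toMonoidHom.eqLocus (MonoidHom.id R) := by
        rw [Subgroup.commutator_le]
        intro a ha b hb
        show α ⁅a, b⁆ = ⁅a, b⁆
        have hw : ∀ d ∈ D, ∀ w ∈ ⁅D, D⁆, Commute w d := by
          intro d hd w hw
          have hle' : ⁅D, D⁆ ≤ centralizer ({d} : Set R) := by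
            rw [Subgroup.commutator_le]
            exact fun a ha b hb => mem_centralizer_singleton_iff.2 (hD2 a ha b hb d hd).eq
          exact mem_centralizer_singleton_iff.1 (hle' hw)
        have hwD : ∀ d ∈ D, d⁻¹ * α d ∈ D := fun d hd => mul_mem (inv_mem hd)
          ⟨CfsgLib.Small.apply_mem_of_char α hd.1, by rw [← map_pow, hd.2, map_one]⟩
        set za := a⁻¹ * α a with hza
        set zb := b⁻¹ * α b with hzb
        have ea : α a = a * za := by rw [hza]; group
        have eb : α b = b * zb := by rw [hzb]; group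
        have c1 : za * b = b * za := (hw b hb za (h a ha)).eq
        have c2 : zb * a = a * zb := (hw a ha zb (h b hb)).eq
        have c3 : za * zb = zb * za := (hw zb (hwD b hb) za (h a ha)).eq
        rw [map_commutatorElement, ea, eb, commutatorElement_def, commutatorElement_def]
        have c1' : za * b * za⁻¹ = b := by rw [c1, mul_inv_cancel_right]
        have c2' : zb * a⁻¹ * zb⁻¹ = a⁻¹ := by
          rw [((show Commute zb a from c2).inv_right).eq, mul_inv_cancel_right]
        have c3' : za * zb * za⁻¹ = zb := by rw [c3, mul_inv_cancel_right]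
        calc a * za * (b * zb) * (a * za)⁻¹ * (b * zb)⁻¹
            = a * (za * b * za⁻¹) * (za * zb * za⁻¹) * a⁻¹ * zb⁻¹ * b⁻¹ := by group
          _ = a * b * (zb * a⁻¹ * zb⁻¹) * b⁻¹ := by rw [c1', c3']; group
          _ = a * b * a⁻¹ * b⁻¹ := by rw [c2']
      exact fun w hw => hle hw
    refine CfsgLib.Small.eq_one_of_fixes_critical hR hcom hpow hcen hα fun c hc hce => ?_
    exact CfsgLib.Small.apply_eq_self_of_step hR hα (hfix _ (h c ⟨hc, hs ▸ hce⟩))

/-- A `p'`-element normalising a `p`-group of rank at most two and trivial on its detecting section centralises it. -/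
theorem mem_centralizer_of_detect {R : Subgroup X} (hR : IsPGroup p R) {D : Subgroup R}
    (hdet : ∀ α : MulAut R, (orderOf α).Coprime p → (∀ d ∈ D, d⁻¹ * α d ∈ ⁅D, D⁆) → α = 1) {g : X}
    (hg : g ∈ normalizer (R : Set X)) (ho : (orderOf g).Coprime p)
    (h : ∀ d ∈ D.map R.subtype, d⁻¹ * (g * d * g⁻¹) ∈ ⁅D.map R.subtype, D.map R.subtype⁆) :
    g ∈ centralizer (R : Set X) := by
  set α := normalizerMonoidHom R ⟨g, hg⟩ with hα
  have h1 : α = 1 := by
    refine hdet α (ho.coprime_dvd_left ((orderOf_map_dvd _ _).trans (orderOf_mk g hg).dvd)) fun d hd => ?_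
    have h2 := h d ⟨d, hd, rfl⟩
    rw [← map_commutator] at h2
    obtain ⟨w, hw, hw'⟩ := h2
    have e : d⁻¹ * α d = w := Subtype.ext (by rw [hα]; exact hw'.symm)
    rw [e]; exact hw
  intro r hr
  have h2 : g * r * g⁻¹ = r := congrArg Subtype.val (DFunLike.congr_fun h1 (⟨r, hr⟩ : R))
  exact (mul_inv_eq_iff_eq_mul.1 h2).symm

/-- In a solvable group of `p`-rank at most two every `p`-element lies in `O_{p',p}`. -/
theorem mem_pPrimePCore_of_rank [Group.IsSolvable X] (hp : 5 ≤ p) (hrk : PRankLE p 2 X) {x : X}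
    (hx : ∃ k, x ^ p ^ k = 1) : x ∈ pPrimePCore p X := by
  have hp' : p.Prime := Fact.out
  let S : Sylow p X := default
  have hrkS : PRankLE p 2 ↥(S : Subgroup X) := by
    intro E hEc hEe
    rw [← card_map_of_injective (S : Subgroup X).subtype_injective]
    refine hrk _ (haveI := hEc; inferInstance) ?_
    rintro _ ⟨a, ha, rfl⟩
    exact congrArg Subtype.val (hEe a ha)
  set π := QuotientGroup.mk' (pPrimeCore p X) with hπ
  haveI : Group.IsSolvable (X ⧸ pPrimeCore p X) :=
    Group.isSolvable_of_surjective (QuotientGroup.mk'_surjective (pPrimeCore p X))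
  set Q := X ⧸ pPrimeCore p X with hQ
  set R := pCore p Q with hR
  have hrkR : PRankLE p 2 R :=
    CfsgLib.PStructure.pRank_pCore_quotient S (pPrimeCore p X) (CfsgLib.card_pPrimeCore_coprime p) hrkS
  obtain ⟨D₀, hch, -, -, hcard, hdet⟩ := exists_detect (by omega) (CfsgLib.isPGroup_pCore (G := Q) p) hrkR
  haveI := hch
  set D := D₀.map R.subtype with hD
  haveI : D.Normal := ConjAct.normal_of_characteristic_of_normal
  set W := ⁅D, D⁆ with hW
  have hWle : W ≤ D := commutator_le_self D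
  set ρ := QuotientGroup.mk' W with hρ
  haveI : Group.IsSolvable (Q ⧸ W) := Group.isSolvable_of_surjective (QuotientGroup.mk'_surjective W)
  set V := D.map ρ with hV
  haveI : V.Normal := Subgroup.Normal.map inferInstance _ (QuotientGroup.mk'_surjective W)
  have hDp : IsPGroup p D := ((CfsgLib.isPGroup_pCore p).to_subgroup D₀).map _
  have hVp : IsPGroup p V := hDp.map ρ
  have hVc : Nat.card V ≤ p ^ 2 := by
    have h1 : Nat.card V * Nat.card W = Nat.card D := by
      have e : V = D.map ρ := rfl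
      have h2 := Subgroup.relIndex_mul_relIndex ⊥ W D bot_le hWle
      rw [relIndex_bot_left, relIndex_bot_left] at h2
      have h3 : Nat.card V = W.relIndex D := by
        have h4 := Subgroup.relIndex_ker (f := ρ) (K := D)
        rw [QuotientGroup.ker_mk'] at h4
        rw [e, h4]
      rw [h3, mul_comm]; exact h2
    have h2 : Nat.card W = Nat.card (⁅D₀, D₀⁆ : Subgroup R) := by
      rw [hW, hD, ← map_commutator, card_map_of_injective R.subtype_injective]
    have h3 : Nat.card D = Nat.card D₀ := card_map_of_injective R.subtype_injective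
    have : Nat.card V * Nat.card W ≤ p ^ 2 * Nat.card W := by rw [h1, h3, h2]; exact hcard
    exact Nat.le_of_mul_le_mul_right this Nat.card_pos
  set a := π x with ha
  obtain ⟨k, hk⟩ := hx
  have hak : a ^ p ^ k = 1 := by rw [ha, ← map_pow, hk, map_one]
  have hT : IsPGroup p (zpowers (ρ a)) := by
    obtain ⟨j, -, hj⟩ := (Nat.dvd_prime_pow hp').1
      (orderOf_dvd_of_pow_eq_one (show (ρ a) ^ p ^ k = 1 by rw [← map_pow, hak, map_one]))
    exact IsPGroup.iff_card.2 ⟨j, by rw [Nat.card_zpowers, hj]⟩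
  have hTn : ∀ H : Subgroup (Q ⧸ W), H.Normal → zpowers (ρ a) ≤ normalizer (H : Set (Q ⧸ W)) := fun H hH => by
    rw [normalizer_eq_top]; exact le_top
  have hq : ⁅⁅V, zpowers (ρ a)⁆, zpowers (ρ a)⁆ = ⊥ := by
    by_contra hne
    set V1 := ⁅V, zpowers (ρ a)⁆ with hV1
    have hVne : V ≠ ⊥ := fun e => hne (by rw [hV1, e]; simp)
    have h1 := CfsgLib.Uniserial.commutator_lt hT hVp (hTn V inferInstance) hVne
    have hV1p : IsPGroup p V1 := hVp.to_le h1.le
    have hV1n : zpowers (ρ a) ≤ normalizer (V1 : Set (Q ⧸ W)) := normalizer_commutator_ge_right _ _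
    have hV1ne : V1 ≠ ⊥ := fun e => hne (by rw [e]; simp)
    have h2 := CfsgLib.Uniserial.commutator_lt hT hV1p hV1n hV1ne
    have k1 := CfsgLib.Uniserial.dvd_relIndex hVp h1
    have k2 := CfsgLib.Uniserial.dvd_relIndex hV1p h2
    have k3 := CfsgLib.Uniserial.dvd_relIndex (hV1p.to_le h2.le) (bot_lt_iff_ne_bot.2 hne)
    rw [relIndex_bot_left] at k3
    have e1 := Subgroup.relIndex_mul_relIndex ⊥ _ V1 bot_le h2.le
    have e2 := Subgroup.relIndex_mul_relIndex ⊥ _ V bot_le h1.le
    rw [relIndex_bot_left, relIndex_bot_left] at e1 e2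
    rw [← e2, ← e1] at hVc
    have : p * p * p ≤ p ^ 2 := (Nat.mul_le_mul (Nat.mul_le_mul k3 k2) k1).trans hVc
    have := hp'.two_le
    nlinarith
  have h := quadStable (X := Q ⧸ W) hp V hVp (ρ a) ⟨k, by rw [← map_pow, hak, map_one]⟩ hq
  set C := centralizer (V : Set (Q ⧸ W)) with hC
  have hCp : IsPGroup p (C.comap ρ) := by
    intro ⟨c, hc⟩
    obtain ⟨z, w, hzw, hcm, ⟨j, hj⟩, hw, -, hwz⟩ := CfsgLib.Blocks.exists_pPart (Fact.out : p.Prime) c
    have hwC : w ∈ C.comap ρ := zpowers_le.2 hc hwz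
    have hwcop : (orderOf w).Coprime p := ((hp'.coprime_iff_not_dvd).2 hw).symm
    have hwR : w ∈ centralizer (R : Set Q) := by
      refine mem_centralizer_of_detect (CfsgLib.isPGroup_pCore p) hdet ?_ hwcop fun d hd => ?_
      · rw [normalizer_eq_top]; trivial
      · have h1 : ρ d * ρ w = ρ w * ρ d := hwC (ρ d) ⟨d, hd, rfl⟩
        refine (QuotientGroup.eq_one_iff (N := W) _).1 ?_
        show ρ _ = 1
        rw [map_mul, map_mul, map_mul, map_inv, map_inv, ← h1, mul_inv_cancel_right, inv_mul_cancel]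
    have hwR' : w ∈ R := CfsgLib.centralizer_pCore_le (G := Q) hp' (CfsgLib.pPrimeCore_quotient_eq_bot p) hwR
    obtain ⟨i, hi⟩ := CfsgLib.isPGroup_pCore (G := Q) p ⟨w, hwR'⟩
    have hw1 : w = 1 := orderOf_eq_one_iff.1 (Nat.eq_one_of_dvd_coprimes (hwcop.pow_right i) dvd_rfl
      (orderOf_dvd_of_pow_eq_one (congrArg Subtype.val hi)))
    refine ⟨j, Subtype.ext ?_⟩
    show c ^ p ^ j = 1
    rw [← hzw, hw1, mul_one, ← hj, pow_orderOf_eq_one]
  have hN : IsPGroup p (((pCore p ((Q ⧸ W) ⧸ C)).comap (QuotientGroup.mk' C)).comap ρ) := by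
    rw [Subgroup.comap_comap]
    refine (CfsgLib.isPGroup_pCore p).comap_of_ker_isPGroup _ ?_
    rw [← MonoidHom.comap_ker, QuotientGroup.ker_mk']
    exact hCp
  exact CfsgLib.le_pCore hN h

end CfsgLib.PairSol
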