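import Cfsg.Agent.Lib.PairSol.Local
import Cfsg.Agent.Lib.SolvSF.Apply
import Cfsg.Agent.Lib.Signalizer.Functor
import Cfsg.Agent.S0100

/-!
A minimal counterexample has `p`-rank at most two for every prime `p ≥ 5`.
-/

set_option autoImplicit false
set_option linter.unusedSectionVars false
set_option linter.style.haveILetI false

namespace CfsgLib.PairSol

open Cfsg Subgroup
open scoped Pointwise commutatorElement

universe u

variable {G : Type u} [Group G] [Finite G] {p : ℕ} [Fact p.Prime]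

theorem normalizer_grows {U T : Subgroup G} (hT : IsPGroup p T) (hlt : U < T) :
    U < T ⊓ normalizer (U : Set G) := by
  haveI := hT.isNilpotent
  have h1 : U.subgroupOf T < normalizer ((U.subgroupOf T : Subgroup T) : Set T) :=
    Group.normalizerCondition_of_isNilpotent (U.subgroupOf T)
      (lt_top_iff_ne_top.2 fun e => hlt.not_ge (subgroupOf_eq_top.1 e))
  obtain ⟨a, ha, ha'⟩ := SetLike.exists_of_lt h1
  refine lt_of_le_not_ge (le_inf hlt.le le_normalizer) fun hle => ha' (hle ⟨a.2, mem_normalizer_iff.2 fun y =>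
    ⟨fun hy => (mem_normalizer_iff.1 ha ⟨y, hlt.le hy⟩).1 hy, fun hy => ?_⟩⟩)
  have hyT : y ∈ T := by
    have h2 : (a : G)⁻¹ * ((a : G) * y * (a : G)⁻¹) * (a : G) ∈ T :=
      T.mul_mem (T.mul_mem (T.inv_mem a.2) (hlt.le hy)) a.2
    rwa [show (a : G)⁻¹ * ((a : G) * y * (a : G)⁻¹) * (a : G) = y by group] at h2
  exact (mem_normalizer_iff.1 ha ⟨y, hyT⟩).2 hy

/-- A `p`-subgroup of `M` lies in an `M`-conjugate of a Sylow subgroup contained in `M`. -/
theorem exists_conj_sylow {M S : Subgroup G} (P : Sylow p G) (hPM : (P : Subgroup G) ≤ M) (hS : IsPGroup p S)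
    (hSM : S ≤ M) : ∃ m ∈ M, S ≤ (P : Subgroup G).map (MulAut.conj m).toMonoidHom := by
  obtain ⟨T, hT⟩ := exists_max_pGroup hS hSM
  obtain ⟨m, hm⟩ := MulAction.exists_smul_eq M (P.subtype hPM) T
  refine ⟨m, m.2, fun s hs => ?_⟩
  obtain ⟨t, ht, rfl⟩ := hT hs
  rw [← hm] at ht
  change t ∈ ((m • (P.subtype hPM) : Sylow p M) : Subgroup M) at ht
  rw [Sylow.coe_subgroup_smul, Sylow.coe_subtype] at ht
  obtain ⟨y, hy, hyt⟩ := (Subgroup.mem_smul_pointwise_iff_exists _ _ _).1 ht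
  exact ⟨(y : G), hy, congrArg Subtype.val hyt⟩

/-- The uniqueness lemma: all proper subgroups over `Q₀` lie in `M`. -/
theorem le_of_core_le (h : Cex G) (hp : 5 ≤ p) (P : Sylow p G) {M Q₀ : Subgroup G}
    (hPM : (P : Subgroup G) ≤ M) (hZ : normalizer (ZJ.zj p (P : Subgroup G) : Set G) ≤ M)
    (hQp : IsPGroup p Q₀) (hQ : Q₀ ≠ ⊥) (hQM : Q₀ ≤ M)
    (hcore : ∀ H : Subgroup G, H ≠ ⊤ → Q₀ ≤ H → coreIn p H ≤ M) {H : Subgroup G} (hH : H ≠ ⊤)
    (hQH : Q₀ ≤ H) : H ≤ M := by
  have hne : ∀ S : Subgroup G, Q₀ ≤ S → S ≠ ⊥ := fun S hS e => hQ (le_bot_iff.1 (e ▸ hS))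
  have hgrow : ∀ S : Subgroup G, IsPGroup p S → S ≤ M →
      (∃ m ∈ M, S = (P : Subgroup G).map (MulAut.conj m).toMonoidHom) ∨
        ∃ S' : Subgroup G, IsPGroup p S' ∧ S < S' ∧ S' ≤ M ∧ S' ≤ normalizer (S : Set G) := by
    intro S hS hSM
    obtain ⟨m, hm, hle⟩ := exists_conj_sylow P hPM hS hSM
    rcases hle.eq_or_lt with e | hlt
    · exact Or.inl ⟨m, hm, e⟩
    refine Or.inr ⟨_, (P.2.map _).to_le inf_le_left, normalizer_grows (P.2.map _) hlt,
      inf_le_left.trans ?_, inf_le_right⟩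
    rintro _ ⟨y, hy, rfl⟩
    exact M.mul_mem (M.mul_mem hm (hPM hy)) (M.inv_mem hm)
  have hloc : ∀ (H S : Subgroup G), H ≠ ⊤ → Q₀ ≤ H → IsPGroup p S → S ≤ H →
      (∀ T : Subgroup G, IsPGroup p T → S ≤ T → T ≤ H →
        T ≤ M ∧ normalizer (ZJ.zj p T : Set G) ≤ M) → H ≤ M := by
    intro H S hH hQH hS hSH hT g hg
    obtain ⟨T, hST⟩ := exists_max_pGroup hS hSH
    obtain ⟨o, ho, n, -, hn, rfl⟩ := zj_frattini_in (h.sol H hH) hp T hg
    exact M.mul_mem (hcore H hH hQH ho) ((hT _ (T.2.map _) hST (map_subtype_le _)).2 hn)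
  have L : ∀ (k : ℕ) (S : Subgroup G), Nat.card G - Nat.card S = k → IsPGroup p S → Q₀ ≤ S → S ≤ M →
      (∀ T : Subgroup G, IsPGroup p T → Q₀ ≤ T → Nat.card S ≤ Nat.card ↥(T ⊓ M) → T ≤ M) →
      normalizer (ZJ.zj p S : Set G) ≤ M := by
    intro k
    induction k using Nat.strong_induction_on with
    | _ k ih =>
      intro S hk hS hQS hSM hgood
      rcases hgrow S hS hSM with ⟨m, hm, rfl⟩ | ⟨S', hS', hlt, hS'M, hS'N⟩
      · intro g hg
        rw [ZJ.zj_map p (MulAut.conj m).injective] at hg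
        have hg' : m⁻¹ * g * m ∈ normalizer (ZJ.zj p (P : Subgroup G) : Set G) := by
          rw [mem_normalizer_iff] at hg ⊢
          intro y
          have h1 := hg (m * y * m⁻¹)
          simp only [mem_map, MulEquiv.coe_toMonoidHom, MulAut.conj_apply] at h1
          constructor
          · intro hy
            obtain ⟨w, hw, e⟩ := h1.1 ⟨y, hy, rfl⟩
            have : w = m⁻¹ * g * m * y * (m⁻¹ * g * m)⁻¹ := by
              calc w = m⁻¹ * (m * w * m⁻¹) * m := by group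
                _ = _ := by rw [e]; group
            exact this ▸ hw
          · intro hy
            obtain ⟨w, hw, e⟩ := h1.2 ⟨_, hy, by group⟩
            have : w = y := by simpa using e
            exact this ▸ hw
        have h2 := M.mul_mem (M.mul_mem hm (hZ hg')) (M.inv_mem hm)
        rwa [show m * (m⁻¹ * g * m) * m⁻¹ = g by group] at h2
      · set Y := normalizer (ZJ.zj p S : Set G) with hY
        have hS'Y : S' ≤ Y := hS'N.trans (ZJ.normalizer_le_normalizer_zj p S)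
        refine hloc Y S' (normalizer_ne_top h (hS.to_le (ZJ.zj_le p S))
          (ZJ.zj_ne_bot (Or.inr rfl) hS (hne S hQS))) (hQS.trans (hlt.le.trans hS'Y)) hS' hS'Y
          fun T hT hS'T _ => ?_
        have hTM : T ≤ M :=
          hgood T hT (hQS.trans (hlt.le.trans hS'T)) (card_le_of_le (le_inf (hlt.le.trans hS'T) hSM))
        have hcard : Nat.card S < Nat.card T := lt_of_lt_of_le
          (lt_of_le_of_ne (card_le_of_le hlt.le) fun e => hlt.ne (eq_of_le_of_card_ge hlt.le e.ge))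
          (card_le_of_le hS'T)
        refine ⟨hTM, ih _ ?_ T rfl hT (hQS.trans (hlt.le.trans hS'T)) hTM fun R hR hQR hle =>
          hgood R hR hQR (hcard.le.trans hle)⟩
        have := card_le_card_group T
        omega
  have hall : ∀ S : Subgroup G, IsPGroup p S → Q₀ ≤ S → S ≤ M := by
    by_contra hne'
    simp only [not_forall] at hne'
    obtain ⟨S0, hS0, hQS0, hS0M⟩ := hne'
    obtain ⟨S, ⟨hS, hQS, hSM⟩, hmax⟩ := Set.Finite.exists_maximalFor
      (fun S : Subgroup G => Nat.card ↥(S ⊓ M)) {S : Subgroup G | IsPGroup p S ∧ Q₀ ≤ S ∧ ¬ S ≤ M}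
      (Set.toFinite _) ⟨S0, hS0, hQS0, hS0M⟩
    set T := S ⊓ M with hT
    have hTp : IsPGroup p T := hS.to_le inf_le_left
    have hTS : T < S := lt_of_le_of_ne inf_le_left fun e => hSM (e ▸ inf_le_right)
    have hbig : ∀ R : Subgroup G, IsPGroup p R → Q₀ ≤ R → Nat.card T < Nat.card ↥(R ⊓ M) → R ≤ M := by
      intro R hR hQR hlt
      by_contra hRM
      exact absurd (hmax ⟨hR, hQR, hRM⟩ hlt.le) (not_le.2 hlt)
    rcases hgrow T hTp inf_le_right with ⟨m, hm, e⟩ | ⟨S', hS', hlt, hS'M, hS'N⟩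
    · have h1 : Nat.card S ≤ Nat.card T := by
        obtain ⟨g, hg⟩ := hS.exists_le_sylow
        rw [e, card_map_of_injective (MulAut.conj m).injective]
        exact (card_le_of_le hg).trans_eq (g.card_eq_multiplicity.trans P.card_eq_multiplicity.symm)
      exact hTS.ne (eq_of_le_of_card_ge hTS.le h1)
    have hTlt : Nat.card T < Nat.card S' :=
      lt_of_le_of_ne (card_le_of_le hlt.le) fun e => hlt.ne (eq_of_le_of_card_ge hlt.le e.ge)
    have hQT : Q₀ ≤ T := le_inf hQS hQM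
    have hN : normalizer (T : Set G) ≤ M := by
      refine hloc _ S' (normalizer_ne_top h hTp (hne T hQT)) (hQT.trans le_normalizer) hS' hS'N
        fun R hR hS'R _ => ?_
      have hQR : Q₀ ≤ R := hQT.trans (hlt.le.trans hS'R)
      have hRM : R ≤ M := hbig R hR hQR (hTlt.trans_le (card_le_of_le (le_inf hS'R hS'M)))
      exact ⟨hRM, L _ R rfl hR hQR hRM fun U hU hQU hle =>
        hbig U hU hQU ((hTlt.trans_le (card_le_of_le hS'R)).trans_le hle)⟩
    have hlt' := normalizer_grows hS hTS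
    exact hlt'.not_ge (le_inf inf_le_left (inf_le_right.trans hN))
  refine hloc H Q₀ hH hQH hQp hQH fun T hT hQT _ => ⟨hall T hT hQT, ?_⟩
  exact L _ T rfl hT hQT (hall T hT hQT) fun U hU hQU _ => hall U hU hQU

/-- A minimal counterexample has `p`-rank at most two for `p ≥ 5`. -/
theorem rank_le_two (h : Cex G) (hp : 5 ≤ p) : PRankLE p 2 G := by
  classical
  by_contra hrk
  have hp' : p.Prime := Fact.out
  simp only [PRankLE, not_forall, not_le] at hrk
  obtain ⟨E₀, hE₀c, hE₀e, hE₀⟩ := hrk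
  have hE₀p : IsPGroup p E₀ := fun v => ⟨1, Subtype.ext (by simpa using hE₀e v v.2)⟩
  obtain ⟨P, hEP⟩ := hE₀p.exists_le_sylow
  -- a normal elementary subgroup of order `p ^ 3`
  obtain ⟨U, hU, hUP, hUn, hU3⟩ : ∃ U : Subgroup G, IsElementaryAbelian p U ∧ U ≤ (P : Subgroup G) ∧
      (P : Subgroup G) ≤ normalizer (U : Set G) ∧ Nat.card U = p ^ 3 := by
    by_contra hno
    have hb := Cfsg.Agent.S0100.result (by omega : p ≠ 2) P.2 (fun A hAn hAc hAe hA3 => hno
      ⟨A.map (P : Subgroup G).subtype, ⟨inferInstance, ?_⟩, map_subtype_le _, ?_,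
        by rw [card_map_of_injective (P : Subgroup G).subtype_injective]; exact hA3⟩)
      (E₀.subgroupOf (P : Subgroup G))
      ⟨⟨fun a b => Subtype.ext (Subtype.ext (by
        have hab := congrArg (Subtype.val : E₀ → G)
          (hE₀c.is_comm.comm ⟨((a : P) : G), a.2⟩ ⟨((b : P) : G), b.2⟩)
        exact hab))⟩⟩
      fun e he => Subtype.ext (by simpa using hE₀e (e : G) he)
    · rw [Nat.card_congr (subgroupOfEquivOfLe hEP).toEquiv] at hb
      omega
    · rintro _ ⟨a, ha, rfl⟩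
      exact congrArg Subtype.val (hAe a ha)
    · haveI := hAn
      intro g hg
      rw [mem_normalizer_iff]
      have key : ∀ g ∈ (P : Subgroup G), ∀ y ∈ A.map (P : Subgroup G).subtype,
          g * y * g⁻¹ ∈ A.map (P : Subgroup G).subtype := by
        rintro g hg _ ⟨y, hy, rfl⟩
        exact ⟨⟨g, hg⟩ * y * ⟨g, hg⟩⁻¹, hAn.conj_mem y hy _, rfl⟩
      exact fun y => ⟨key g hg y, fun hy => by simpa [mul_assoc] using key g⁻¹ (inv_mem hg) _ hy⟩
  have hPne : (P : Subgroup G) ≠ ⊥ := fun e => by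
    have : U = ⊥ := le_bot_iff.1 (e ▸ hUP)
    rw [this, card_bot] at hU3
    exact (Nat.one_lt_pow (by norm_num) hp'.one_lt).ne hU3
  have hdvd : p ∣ Nat.card G :=
    (dvd_pow_self p (by norm_num : 3 ≠ 0)).trans (hU3 ▸ card_subgroup_dvd_card U)
  -- `Z` and its first omega subgroup
  set Z := ZJ.zj p (P : Subgroup G) with hZ
  have hZP : Z ≤ (P : Subgroup G) := ZJ.zj_le p _
  have hZne : Z ≠ ⊥ := ZJ.zj_ne_bot (Or.inr rfl) P.2 hPne
  have hPZ : (P : Subgroup G) ≤ normalizer (Z : Set G) :=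
    le_normalizer.trans (ZJ.normalizer_le_normalizer_zj p _)
  let V : Subgroup G :=
    { carrier := {z | z ∈ Z ∧ z ^ p = 1}
      one_mem' := ⟨one_mem _, one_pow _⟩
      mul_mem' := fun {a b} ha hb => ⟨mul_mem ha.1 hb.1, by
        rw [(show Commute a b from ZJ.zj_comm ha.1 hb.1).mul_pow, ha.2, hb.2, one_mul]⟩
      inv_mem' := fun {a} ha => ⟨inv_mem ha.1, by rw [inv_pow, ha.2, inv_one]⟩ }
  have hVZ : V ≤ Z := fun z hz => hz.1
  have hVe : IsElementaryAbelian p V :=
    SolvSF.ea_of_comm (fun a ha b hb => ZJ.zj_comm ha.1 hb.1) fun a ha => ha.2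
  have hVn : ∀ g ∈ normalizer (Z : Set G), ∀ v ∈ V, g * v * g⁻¹ ∈ V := fun g hg v hv =>
    ⟨(mem_normalizer_iff.1 hg v).1 hv.1, by rw [conj_pow, hv.2, mul_one, mul_inv_cancel]⟩
  have hnZV : normalizer (Z : Set G) ≤ normalizer (V : Set G) := fun g hg => mem_normalizer_iff.2 fun v =>
    ⟨hVn g hg v, fun hv => by simpa [mul_assoc] using hVn g⁻¹ (inv_mem hg) _ hv⟩
  have hVne : V ≠ ⊥ := by
    obtain ⟨⟨z, hz⟩, hz1'⟩ := ne_bot_iff_exists_ne_one.1 hZne
    have hz1 : z ≠ 1 := fun e => hz1' (Subtype.ext e)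
    obtain ⟨k, hk⟩ := IsPGroup.iff_orderOf.1 P.2 ⟨z, hZP hz⟩
    rw [orderOf_mk] at hk
    have hk0 : k ≠ 0 := fun e => hz1 (orderOf_eq_one_iff.1 (by rw [hk, e, pow_zero]))
    intro e
    have h1 : z ^ p ^ (k - 1) ∈ V := ⟨pow_mem hz _, by
      rw [← pow_mul, ← pow_succ, Nat.sub_add_cancel (Nat.pos_of_ne_zero hk0), ← hk, pow_orderOf_eq_one]⟩
    rw [e, mem_bot, ← orderOf_dvd_iff_pow_eq_one, hk, Nat.pow_dvd_pow_iff_le_right hp'.one_lt] at h1
    omega
  -- the elementary subgroup `N`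
  obtain ⟨x, hxV, hx1, hxP⟩ : ∃ x ∈ V, x ≠ 1 ∧ ∀ g ∈ (P : Subgroup G), g * x = x * g := by
    haveI : (V.subgroupOf (P : Subgroup G)).Normal :=
      (normal_subgroupOf_iff_le_normalizer (hVZ.trans hZP)).2 (hPZ.trans hnZV)
    have hne : V.subgroupOf (P : Subgroup G) ≠ ⊥ := by
      rw [Ne, subgroupOf_eq_bot]
      exact fun hd => hVne (le_bot_iff.1 (hd le_rfl (hVZ.trans hZP)))
    haveI := P.2.isNilpotent
    obtain ⟨⟨a, ha, hac⟩, ha1⟩ := ne_bot_iff_exists_ne_one.1
      (CfsgLib.inf_center_ne_bot_of_nilpotent (N := V.subgroupOf (P : Subgroup G)) hne)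
    exact ⟨a, ha, fun e => ha1 (Subtype.ext (Subtype.ext e)),
      fun g hg => congrArg Subtype.val (mem_center_iff.1 hac ⟨g, hg⟩)⟩
  have hxo : orderOf x = p := Signalizer.orderOf_eq_prime_of_ea hVe hxV hx1
  have hxPm : x ∈ (P : Subgroup G) := hZP (hVZ hxV)
  set X := zpowers x with hX
  have hXc : Nat.card X = p := by rw [hX, Nat.card_zpowers, hxo]
  have hXP : X ≤ (P : Subgroup G) := zpowers_le.2 hxPm
  have hPX : (P : Subgroup G) ≤ normalizer (X : Set G) := fun g hg => mem_normalizer_iff.2 fun y => by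
    have hg' : ∀ y ∈ X, g * y * g⁻¹ = y := by
      rintro _ ⟨i, rfl⟩
      rw [((show Commute g x from hxP g hg).zpow_right i).eq, mul_inv_cancel_right]
    exact ⟨fun hy => by rwa [hg' y hy], fun hy => by
      have h1 := hg' _ hy
      have h2 : g * y * g⁻¹ = y := by simpa using h1
      rwa [h2] at hy⟩
  obtain ⟨N, hN, hNP, hPN, hN2, hxN, hNV⟩ : ∃ N : Subgroup G, IsElementaryAbelian p N ∧
      N ≤ (P : Subgroup G) ∧ (P : Subgroup G) ≤ normalizer (N : Set G) ∧ p ^ 2 ≤ Nat.card N ∧ X ≤ N ∧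
      (N ≤ V ∨ V = X) := by
    by_cases hV2 : p ^ 2 ≤ Nat.card V
    · exact ⟨V, hVe, hVZ.trans hZP, hPZ.trans hnZV, hV2, zpowers_le.2 hxV, Or.inl le_rfl⟩
    have hVX : V = X := by
      obtain ⟨k, hk⟩ := IsPGroup.iff_card.1 (Signalizer.isPGroup_ea hVe)
      rw [hk] at hV2
      have hk2 : k < 2 := by
        by_contra hk2
        exact hV2 (Nat.pow_le_pow_right hp'.pos (by omega))
      refine (eq_of_le_of_card_ge (zpowers_le.2 hxV) ?_).symm
      rw [hk, hXc]
      exact (Nat.pow_le_pow_right hp'.pos (by omega : k ≤ 1)).trans_eq (pow_one p)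
    refine ⟨U ⊔ X, ?_, sup_le hUP hXP, fun g hg => Subgroup.normalizer_inf_normalizer_le_normalizer_sup U X (mem_inf.2 ⟨hUn hg, hPX hg⟩),
      ?_, le_sup_right, Or.inr hVX⟩
    · have hdec : ∀ z ∈ U ⊔ X, ∃ a ∈ U, ∃ b ∈ X, z = a * b := fun z hz =>
        Comp.mem_sup_of_commutator_eq_bot (commutator_eq_bot_iff_le_centralizer.mpr fun a ha y hy => by
          obtain ⟨i, rfl⟩ := mem_zpowers_iff.1 hy
          exact ((show Commute a x from hxP a (hUP ha)).zpow_right i).eq.symm) hz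
      have hXx : ∀ b ∈ X, b ^ p = 1 := fun b hb => hVe.2 b (zpowers_le.2 hxV hb)
      have hXU : ∀ a ∈ U, ∀ b ∈ X, Commute a b := by
        rintro a ha _ ⟨i, rfl⟩
        exact (show Commute a x from hxP a (hUP ha)).zpow_right i
      refine SolvSF.ea_of_comm ?_ ?_
      · intro z hz w hw
        obtain ⟨a, ha, b, hb, rfl⟩ := hdec z hz
        obtain ⟨a', ha', b', hb', rfl⟩ := hdec w hw
        exact ((show Commute a a' from Signalizer.ea_comm hU ha ha').mul_right (hXU a ha b' hb')).mul_left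
          ((hXU a' ha' b hb).symm.mul_right (Signalizer.ea_comm hVe (zpowers_le.2 hxV hb) (zpowers_le.2 hxV hb')))
      · intro z hz
        obtain ⟨a, ha, b, hb, rfl⟩ := hdec z hz
        rw [(hXU a ha b hb).mul_pow, hU.2 a ha, hXx b hb, one_mul]
    · exact (Nat.pow_le_pow_right hp'.pos (by norm_num)).trans (hU3.ge.trans (card_le_of_le le_sup_left))
  -- `E`
  obtain ⟨e₀, he₀N, he₀X, he₀⟩ : ∃ e ∈ N, e ∉ X ∧ ∀ g ∈ (P : Subgroup G), g * e * g⁻¹ * e⁻¹ ∈ X := by
    obtain ⟨K, ⟨hKN, hKn, hKX⟩, hmin⟩ := Set.Finite.exists_minimal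
      (Set.toFinite {K : Subgroup G | K ≤ N ∧ (P : Subgroup G) ≤ normalizer (K : Set G) ∧ ¬ K ≤ X})
      ⟨N, le_rfl, hPN, fun hle => by
        have := hN2.trans ((card_le_of_le hle).trans_eq hXc)
        nlinarith [hp'.one_lt]⟩
    obtain ⟨e, he, heX⟩ := SetLike.not_le_iff_exists.1 hKX
    have hKne : K ≠ ⊥ := fun e' => hKX (e' ▸ bot_le)
    have hlt := Uniserial.commutator_lt P.2 (P.2.to_le (hKN.trans hNP)) hKn hKne
    have hle : ⁅K, (P : Subgroup G)⁆ ≤ X := by
      by_contra hnot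
      exact hlt.not_ge (hmin ⟨hlt.le.trans hKN, normalizer_commutator_ge_right _ _, hnot⟩ hlt.le)
    refine ⟨e, hKN he, heX, fun g hg => ?_⟩
    have h1 := X.inv_mem (hle (commutator_mem_commutator he hg))
    rwa [commutatorElement_def, show (e * g * e⁻¹ * g⁻¹)⁻¹ = g * e * g⁻¹ * e⁻¹ by group] at h1
  set E := X ⊔ zpowers e₀ with hE
  have hEN : E ≤ N := sup_le hxN (zpowers_le.2 he₀N)
  have hEe : IsElementaryAbelian p E := Signalizer.ea_le hN hEN
  have hEP' : E ≤ (P : Subgroup G) := hEN.trans hNP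
  have hE2 : p ^ 2 ≤ Nat.card E := by
    obtain ⟨k, hk⟩ := IsPGroup.iff_card.1 (Signalizer.isPGroup_ea hEe)
    rw [hk]
    refine Nat.pow_le_pow_right hp'.pos ?_
    have hlt : X < E := lt_of_le_not_ge le_sup_left fun hle =>
      he₀X (hle (mem_sup_right (mem_zpowers e₀)))
    have := lt_of_le_of_ne (card_le_of_le hlt.le) fun e => hlt.ne (eq_of_le_of_card_ge hlt.le e.ge)
    rw [hk, hXc] at this
    by_contra hk2
    have := (Nat.pow_le_pow_right hp'.pos (by omega : k ≤ 1)).trans_eq (pow_one p)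
    omega
  have hxE : x ∈ E := mem_sup_left (mem_zpowers x)
  have hEcomm : ∀ e ∈ E, ∀ g ∈ (P : Subgroup G), g * e * g⁻¹ * e⁻¹ ∈ X := by
    intro e he g hg
    obtain ⟨a, ha, b, ⟨i, rfl⟩, rfl⟩ := Signalizer.mem_sup_of_ea hEe le_sup_left le_sup_right he
    have hga : g * a * g⁻¹ = a := by
      obtain ⟨j, rfl⟩ := mem_zpowers_iff.1 ha
      rw [((show Commute g x from hxP g hg).zpow_right j).eq, mul_inv_cancel_right]
    set c := g * e₀ * g⁻¹ * e₀⁻¹ with hc
    have hce : Commute c e₀ := Signalizer.ea_comm hN (hxN (he₀ g hg)) he₀N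
    have h1 : g * (a * e₀ ^ i) * g⁻¹ * (a * e₀ ^ i)⁻¹ = a * c ^ i * a⁻¹ := by
      have h2 : g * e₀ ^ i * g⁻¹ = c ^ i * e₀ ^ i := by
        rw [← conj_zpow, show g * e₀ * g⁻¹ = c * e₀ by rw [hc]; group, hce.mul_zpow]
      calc g * (a * e₀ ^ i) * g⁻¹ * (a * e₀ ^ i)⁻¹
          = (g * a * g⁻¹) * (g * e₀ ^ i * g⁻¹) * (a * e₀ ^ i)⁻¹ := by group
        _ = _ := by rw [hga, h2]; group
    rw [h1]
    exact X.mul_mem (X.mul_mem ha (X.zpow_mem (he₀ g hg) i)) (X.inv_mem ha)
  have hEn : (P : Subgroup G) ≤ normalizer (E : Set G) := by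
    intro g hg
    have key : ∀ g ∈ (P : Subgroup G), ∀ e ∈ E, g * e * g⁻¹ ∈ E := fun g hg e he => by
      have h1 := E.mul_mem ((le_sup_left : X ≤ E) (hEcomm e he g hg)) he
      rwa [inv_mul_cancel_right] at h1
    exact mem_normalizer_iff.2 fun y => ⟨key g hg y, fun hy => by
      simpa [mul_assoc] using key g⁻¹ (inv_mem hg) _ hy⟩
  have hindex : ∀ (Y : Subgroup G), Y ≤ (P : Subgroup G) → ∀ f : G, (∀ u ∈ Y, u * f * u⁻¹ * f⁻¹ ∈ X) →
      Nat.card Y ≤ p * Nat.card ↥(Y ⊓ centralizer ({f} : Set G)) := by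
    intro Y hY f hf
    rw [← Products.card_mul_relIndex_of_le (inf_le_left : Y ⊓ centralizer ({f} : Set G) ≤ Y), mul_comm p]
    refine Nat.mul_le_mul_left _ ?_
    rw [← hXc]
    refine Nat.card_le_card_of_injective (Quotient.lift (fun u : Y => (⟨_, hf u u.2⟩ : X)) fun u v huv => ?_) ?_
    · have h1 : ((u : G)⁻¹ * v) * f = f * ((u : G)⁻¹ * v) :=
        mem_centralizer_singleton_iff.1 (QuotientGroup.leftRel_apply.1 huv).2
      refine Subtype.ext ?_
      show (u : G) * f * (u : G)⁻¹ * f⁻¹ = (v : G) * f * (v : G)⁻¹ * f⁻¹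
      calc (u : G) * f * (u : G)⁻¹ * f⁻¹ = (u : G) * (f * ((u : G)⁻¹ * v)) * (v : G)⁻¹ * f⁻¹ := by group
        _ = _ := by rw [← h1]; group
    · intro a b
      induction a using Quotient.inductionOn with | h u => ?_
      induction b using Quotient.inductionOn with | h v => ?_
      intro hab
      have hab' : (u : G) * f * (u : G)⁻¹ * f⁻¹ = (v : G) * f * (v : G)⁻¹ * f⁻¹ := congrArg Subtype.val hab
      refine Quotient.sound (QuotientGroup.leftRel_apply.2 ⟨(u⁻¹ * v).2, mem_centralizer_singleton_iff.2 ?_⟩)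
      have h1 := mul_right_cancel hab'
      calc (u : G)⁻¹ * v * f = (u : G)⁻¹ * ((v : G) * f * (v : G)⁻¹) * v := by group
        _ = (u : G)⁻¹ * ((u : G) * f * (u : G)⁻¹) * v := by rw [h1]
        _ = f * ((u : G)⁻¹ * v) := by group
  -- the signalizer
  set θ : G → Subgroup G := fun a => centralizerPPrimeCore p a with hθ
  let W : Subgroup G → Subgroup G := fun B => ⨆ b : {b : G // b ∈ B ∧ b ≠ 1}, θ b
  have hfun : ∀ A : Subgroup G, IsElementaryAbelian p A → IsSolvableSignalizerFunctor p A θ :=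
    fun A hA => Signalizer.pPrime_functor hA fun a _ ha => sol_centralizer h ha
  have hsame : ∀ A B : Subgroup G, IsElementaryAbelian p A → p ^ 3 ≤ Nat.card A → B ≤ A →
      p ^ 2 ≤ Nat.card B → W B = W A := by
    intro A B hA hA3 hBA hB
    obtain ⟨hW, hc⟩ := SolvSF.closure_spec hA hA3 (hfun A hA)
    refine le_antisymm (iSup_le fun b => le_iSup_of_le (⟨b, hBA b.2.1, b.2.2⟩ : {b : G // b ∈ A ∧ b ≠ 1}) le_rfl)
      (SolvSF.gen_le (Signalizer.ea_le hA hBA) (SolvSF.lt_card_of_sq_le hB) hW.2.1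
        (hBA.trans (SolvSF.mem_normalizes hW)) fun b hb hb1 => ?_)
    exact (hc b (hBA hb) hb1).le.trans (le_iSup (fun b : {b : G // b ∈ B ∧ b ≠ 1} => θ b) ⟨b, hb, hb1⟩)
  have hjoin : ∀ B C : Subgroup G, IsElementaryAbelian p B → IsElementaryAbelian p C →
      p ^ 2 ≤ Nat.card B → p ^ 2 ≤ Nat.card C → (∀ b ∈ B, ∀ c ∈ C, b * c = c * b) → W B = W C := by
    intro B C hB hC hB2 hC2 hBC
    have hdec : ∀ z ∈ B ⊔ C, ∃ b ∈ B, ∃ c ∈ C, z = b * c := fun z hz =>
      Comp.mem_sup_of_commutator_eq_bot (commutator_eq_bot_iff_le_centralizer.mpr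
        fun b hb c hc => (hBC b hb c hc).symm) hz
    have hJ : IsElementaryAbelian p (B ⊔ C : Subgroup G) := by
      refine SolvSF.ea_of_comm ?_ ?_
      · intro z hz w hw
        obtain ⟨b, hb, c, hc, rfl⟩ := hdec z hz
        obtain ⟨b', hb', c', hc', rfl⟩ := hdec w hw
        exact (((show Commute b b' from Signalizer.ea_comm hB hb hb').mul_right (hBC b hb c' hc')).mul_left
          ((show Commute c b' from (hBC b' hb' c hc).symm).mul_right (Signalizer.ea_comm hC hc hc'))).eq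
      · intro z hz
        obtain ⟨b, hb, c, hc, rfl⟩ := hdec z hz
        rw [(show Commute b c from hBC b hb c hc).mul_pow, hB.2 b hb, hC.2 c hc, one_mul]
    by_cases h3 : p ^ 3 ≤ Nat.card ↥(B ⊔ C)
    · exact (hsame _ B hJ h3 le_sup_left hB2).trans (hsame _ C hJ h3 le_sup_right hC2).symm
    obtain ⟨i, hi⟩ := IsPGroup.iff_card.mp (Signalizer.isPGroup_ea hJ)
    rw [hi] at h3
    have hi2 : i ≤ 2 := by
      have := mt (Nat.pow_le_pow_right hp'.pos) h3
      omega
    have hle : Nat.card ↥(B ⊔ C) ≤ p ^ 2 := hi ▸ Nat.pow_le_pow_right hp'.pos hi2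
    rw [eq_of_le_of_card_ge (le_sup_left : B ≤ B ⊔ C) (hle.trans hB2),
      ← eq_of_le_of_card_ge (le_sup_right : C ≤ B ⊔ C) (hle.trans hC2)]
  have hWU : ∀ (B : Subgroup G) (f : G), IsElementaryAbelian p B → p ^ 2 ≤ Nat.card B → f ∈ B →
      B ≤ X ⊔ zpowers f → (∀ u ∈ U, u * f * u⁻¹ * f⁻¹ ∈ X) → W B = W U := by
    intro B f hB hB2 hfB hBle hf
    set C := U ⊓ centralizer ({f} : Set G) with hC
    have hC2 : p ^ 2 ≤ Nat.card C := by
      have h1 := hindex U hUP f hf
      rw [hU3] at h1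
      exact Nat.le_of_mul_le_mul_left (by linarith [h1, pow_succ' p 2]) hp'.pos
    refine (hjoin B C hB (Signalizer.ea_le hU inf_le_left) hB2 hC2 fun b hb c hc => ?_).trans
      (hsame U C hU hU3.ge inf_le_left hC2)
    have hle : X ⊔ zpowers f ≤ centralizer ({c} : Set G) := by
      refine sup_le (zpowers_le.2 (mem_centralizer_singleton_iff.2 ?_))
        (zpowers_le.2 (mem_centralizer_singleton_iff.2 ?_))
      · exact (hxP c (hUP hc.1)).symm
      · exact (mem_centralizer_singleton_iff.1 hc.2).symm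
    exact mem_centralizer_singleton_iff.1 (hle (hBle hb))
  have hWE : W E = W U := hWU E e₀ hEe hE2 (mem_sup_right (mem_zpowers e₀)) le_rfl fun u hu => he₀ u (hUP hu)
  have hWp : ¬ p ∣ Nat.card (W E) := hWE ▸ (SolvSF.closure_spec hU hU3.ge (hfun U hU)).1.2.1
  have hWmap : ∀ (g : G) (B : Subgroup G),
      (W B).map (MulAut.conj g).toMonoidHom = W (B.map (MulAut.conj g).toMonoidHom) := by
    intro g B
    refine le_antisymm ?_ (iSup_le fun b => ?_)
    · rw [Subgroup.map_iSup]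
      refine iSup_le fun b => ?_
      rw [hθ, SolvSF.map_centralizerPPrimeCore']
      exact le_iSup (fun b : {b : G // b ∈ B.map (MulAut.conj g).toMonoidHom ∧ b ≠ 1} => θ b)
        ⟨g * b * g⁻¹, ⟨b, b.2.1, rfl⟩, fun e => b.2.2 (conj_eq_one_iff.mp e)⟩
    · obtain ⟨_, ⟨a, ha, rfl⟩, hb⟩ := b
      have h1 : θ a ≤ W B := le_iSup (fun b : {b : G // b ∈ B ∧ b ≠ 1} => θ b)
        ⟨a, ha, fun e => hb (by rw [e, map_one])⟩
      refine le_trans ?_ (map_mono h1)
      rw [hθ, SolvSF.map_centralizerPPrimeCore']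
      exact le_rfl
  have hnorm : ∀ g : G, W (E.map (MulAut.conj g).toMonoidHom) = W E → g ∈ normalizer (W E : Set G) := by
    intro g hg
    rw [← hWmap] at hg
    refine mem_normalizer_iff.2 fun y => ⟨fun hy => hg.le ⟨y, hy, rfl⟩, fun hy => ?_⟩
    obtain ⟨w, hw, e⟩ := hg.ge hy
    have : w = y := by simpa using e
    exact this ▸ hw
  set M : Subgroup G := if W E = ⊥ then normalizer (Z : Set G) else normalizer (W E : Set G) with hM
  have hPM : (P : Subgroup G) ≤ M := by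
    rw [hM]
    split_ifs
    · exact hPZ
    · intro g hg
      refine hnorm g ?_
      congr 1
      refine eq_of_le_of_card_ge ?_ (card_map_of_injective (MulAut.conj g).injective).ge
      rintro _ ⟨e, he, rfl⟩
      exact (mem_normalizer_iff.1 (hEn hg) e).1 he
  have hMtop : M ≠ ⊤ := by
    rw [hM]
    split_ifs with hW
    · exact normalizer_ne_top h (P.2.to_le hZP) hZne
    · intro e
      haveI := h.simple
      rcases (normalizer_eq_top_iff.1 e).eq_bot_or_eq_top with h1 | h1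
      · exact hW h1
      · exact hWp (by rw [h1, card_top]; exact hdvd)
  have hθM : ∀ e ∈ E, e ≠ 1 → θ e ≤ M := by
    intro e he he1
    have h1 : θ e ≤ W E := le_iSup (fun b : {b : G // b ∈ E ∧ b ≠ 1} => θ b) ⟨e, he, he1⟩
    rw [hM]
    split_ifs with hW
    · exact (h1.trans hW.le).trans bot_le
    · exact h1.trans le_normalizer
  have hXtop : normalizer (X : Set G) ≠ ⊤ := normalizer_ne_top h (P.2.to_le hXP) (zpowers_ne_bot.2 hx1)
  have hcoreX : coreIn p (normalizer (X : Set G)) ≤ θ x := by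
    set H := normalizer (X : Set G) with hH
    have hcH : centralizer ({x} : Set G) ≤ H := fun g hg => mem_normalizer_iff.2 fun y => by
      have hg' : ∀ y ∈ X, g * y * g⁻¹ = y := by
        rintro _ ⟨i, rfl⟩
        rw [((show Commute g x from mem_centralizer_singleton_iff.1 hg).zpow_right i).eq, mul_inv_cancel_right]
      exact ⟨fun hy => by rwa [hg' y hy], fun hy => by
        have h2 : g * y * g⁻¹ = y := by simpa using hg' _ hy
        rwa [h2] at hy⟩
    have hcomm : ∀ o ∈ coreIn p H, o * x = x * o := by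
      intro o ho
      have hxH : x ∈ H := le_normalizer (mem_zpowers x)
      have h1 : o * x * o⁻¹ * x⁻¹ ∈ coreIn p H := by
        have h2 := (mem_normalizer_iff.1 (le_normalizer_coreIn H hxH) o⁻¹).1 (inv_mem ho)
        simpa [mul_assoc] using (coreIn p H).mul_mem ho h2
      have h2 : o * x * o⁻¹ * x⁻¹ ∈ X := X.mul_mem
        ((mem_normalizer_iff.1 (coreIn_le H ho) x).1 (mem_zpowers x)) (X.inv_mem (mem_zpowers x))
      have h3 := disjoint_def.1 (disjoint_of_coprime_natCard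
        (pGroup_coprime (P.2.to_le hXP) (card_coreIn (p := p) H))) h2 h1
      exact mul_inv_eq_iff_eq_mul.1 (mul_inv_eq_one.1 h3)
    exact le_coreIn (fun o ho => mem_centralizer_singleton_iff.2 (hcomm o ho))
      (hcH.trans (le_normalizer_coreIn H)) (card_coreIn H)
  have hXM : normalizer (X : Set G) ≤ M := by
    set H := normalizer (X : Set G) with hH
    intro g hg
    by_cases hW : W E = ⊥
    · obtain ⟨o, ho, n, -, hn, rfl⟩ := zj_frattini_in (h.sol H hXtop) hp (P.subtype hPX) hg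
      rw [Sylow.coe_subtype, map_subgroupOf_eq_of_le hPX] at hn
      refine M.mul_mem (hθM x hxE hx1 (hcoreX ho)) ?_
      rw [hM, if_pos hW]
      exact hn
    obtain ⟨o, ho, n, hnH, hn, rfl⟩ := core_frattini_in P hPX hg
    refine M.mul_mem (hθM x hxE hx1 (hcoreX ho)) ?_
    rw [hM, if_neg hW]
    set R := (P : Subgroup G) ⊓ ppIn p H with hR
    have hin : ∀ B : Subgroup G, IsElementaryAbelian p B → B ≤ (P : Subgroup G) →
        (P : Subgroup G) ≤ normalizer (B : Set G) → B ≤ R := fun B hB hBP hPB b hb =>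
      ⟨hBP hb, mem_ppIn_of_quad (h.sol H hXtop) hp hPX P.2
        (fun T hT _ hPT => (P.is_maximal' hT hPT).le) (hBP hb)
        (quad_of_central hPB hb fun c hc => Signalizer.ea_comm hB hb hc)⟩
    have hER : E ≤ R := hin E hEe hEP' hEn
    have hUR : U ≤ R := hin U hU hUP hUn
    refine hnorm n ?_
    rw [hWE]
    set f := n * e₀ * n⁻¹ with hf
    refine hWU _ f ?_ (hE2.trans_eq (card_map_of_injective (MulAut.conj n).injective).symm)
      ⟨e₀, mem_sup_right (mem_zpowers e₀), rfl⟩ ?_ fun u hu => ?_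
    · refine SolvSF.ea_of_comm ?_ ?_
      · rintro _ ⟨a, ha, rfl⟩ _ ⟨b, hb, rfl⟩
        rw [← map_mul, ← map_mul, Signalizer.ea_comm hEe ha hb]
      · rintro _ ⟨a, ha, rfl⟩
        rw [← map_pow, hEe.2 a ha, map_one]
    · rw [hE, Subgroup.map_sup, MonoidHom.map_zpowers (MulAut.conj n).toMonoidHom e₀]
      refine sup_le_sup ?_ le_rfl
      rintro _ ⟨y, hy, rfl⟩
      exact (mem_normalizer_iff.1 hnH y).1 hy
    · have h1 : n⁻¹ * u * n ∈ R := by
        simpa using (mem_normalizer_iff.1 (inv_mem hn) u).1 (hUR hu)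
      have h2 := (mem_normalizer_iff.1 hnH _).1 (he₀ _ h1.1)
      rwa [show n * (n⁻¹ * u * n * e₀ * (n⁻¹ * u * n)⁻¹ * e₀⁻¹) * n⁻¹ = u * f * u⁻¹ * f⁻¹ by
        rw [hf]; group] at h2
  have hZM : normalizer (Z : Set G) ≤ M := by
    intro g hg
    rcases hNV with hle | hVX
    · rw [hM]
      split_ifs with hW
      · exact hg
      refine hnorm g (hjoin _ E ?_ hEe (hE2.trans_eq (card_map_of_injective (MulAut.conj g).injective).symm)
        hE2 ?_)
      · refine SolvSF.ea_of_comm ?_ ?_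
        · rintro _ ⟨a, ha, rfl⟩ _ ⟨b, hb, rfl⟩
          rw [← map_mul, ← map_mul, Signalizer.ea_comm hEe ha hb]
        · rintro _ ⟨a, ha, rfl⟩
          rw [← map_pow, hEe.2 a ha, map_one]
      · rintro _ ⟨a, ha, rfl⟩ b hb
        exact Signalizer.ea_comm hVe (hVn g hg a (hle (hEN ha))) (hle (hEN hb))
    · exact hXM (hVX ▸ hnZV hg)
  have hCx : centralizer ({x} : Set G) ≤ M := fun g hg => hXM (mem_normalizer_iff.2 fun y => by
    have hg' : ∀ y ∈ X, g * y * g⁻¹ = y := by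
      rintro _ ⟨i, rfl⟩
      rw [((show Commute g x from mem_centralizer_singleton_iff.1 hg).zpow_right i).eq, mul_inv_cancel_right]
    exact ⟨fun hy => by rwa [hg' y hy], fun hy => by
      have h2 : g * y * g⁻¹ = y := by simpa using hg' _ hy
      rwa [h2] at hy⟩)
  -- elements `o` of a `p'`-group normalised by `x` are `[o, x]` times a centralising element
  have hsplit : ∀ K : Subgroup G, (Nat.card K).Coprime p → x ∈ normalizer (K : Set G) →
      (∀ k ∈ K, k * x * k⁻¹ * x⁻¹ ∈ M) → K ≤ M := by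
    intro K hK hxK hk k hkK
    obtain ⟨a, ha, c, hc, rfl⟩ := CfsgLib.coprime_decomp (A := X) (K := K) (zpowers_le.2 hxK)
      (pGroup_coprime (P.2.to_le hXP) hK) (Or.inl (Group.isSolvable_of_comm fun a b => IsCyclic.commGroup.mul_comm a b)) hkK
    refine M.mul_mem ?_ (hCx (mem_centralizer_singleton_iff.2 (hc.2 x (mem_zpowers x)).symm))
    refine (Subgroup.commutator_le.2 fun o ho y hy => ?_ : ⁅K, X⁆ ≤ M) ha
    obtain ⟨i, rfl⟩ := mem_zpowers_iff.1 hy
    have hxM : x ∈ M := hPM hxPm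
    have h1 : o * x * o⁻¹ ∈ M := by
      have := M.mul_mem (hk o ho) hxM
      rwa [inv_mul_cancel_right] at this
    rw [commutatorElement_def, ← conj_zpow]
    exact M.mul_mem (M.zpow_mem h1 i) (M.inv_mem (M.zpow_mem hxM i))
  -- first pass
  have pass1 : ∀ H : Subgroup G, H ≠ ⊤ → E ≤ H → H ≤ M := by
    refine fun H hH hEH => le_of_core_le h hp P hPM hZM (Signalizer.isPGroup_ea hEe)
      (fun e => hx1 (mem_bot.1 (e ▸ hxE))) (hEP'.trans hPM) (fun H hH hEH => ?_) hH hEH
    refine SolvSF.gen_le hEe (SolvSF.lt_card_of_sq_le hE2)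
      ((hp'.coprime_iff_not_dvd).1 (card_coreIn H).symm) (hEH.trans (le_normalizer_coreIn H)) fun e he he1 => ?_
    have hxC : x ∈ centralizer ({e} : Set G) :=
      mem_centralizer_singleton_iff.2 (Signalizer.ea_comm hEe hxE he)
    refine hsplit _ ((card_coreIn H).coprime_dvd_left (card_dvd_of_le inf_le_left))
      (Signalizer.inf_normalizes (A := X) (zpowers_le.2 (le_normalizer_coreIn H (hEH hxE))) ((zpowers_le.2 hxC).trans le_normalizer) (mem_zpowers x)) fun k hk => ?_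
    have hpp : x ∈ ppIn p (centralizer ({e} : Set G)) := by
      set C := (P : Subgroup G) ⊓ centralizer ({e} : Set G) with hC
      obtain ⟨T, hCT⟩ := exists_max_pGroup (H := centralizer ({e} : Set G)) (P.2.to_le inf_le_left)
        (inf_le_right : C ≤ _)
      set T' := (T : Subgroup (centralizer ({e} : Set G))).map (centralizer ({e} : Set G)).subtype with hT'
      refine mem_ppIn_of_quad (sol_centralizer h he1) hp (map_subtype_le _) (T.2.map _)
        (fun T₁ hT₁ hT₁C hle => ?_) (hCT (mem_inf.2 ⟨hxPm, hxC⟩)) (quad_of_central (C := C) ?_ (mem_inf.2 ⟨hxPm, hxC⟩)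
          fun c hc => (hxP c (mem_inf.1 hc).1).symm)
      · intro t ht
        have h1 : (T₁.subgroupOf (centralizer ({e} : Set G))) = T :=
          T.is_maximal' (hT₁.comap_of_injective _ (subtype_injective _)) fun t ht' =>
            hle ⟨t, ht', rfl⟩
        exact ⟨⟨t, hT₁C ht⟩, h1.le ht, rfl⟩
      rcases hCT.eq_or_lt with heq | hlt
      · exact heq.ge.trans le_normalizer
      have hgr := normalizer_grows (T.2.map _) hlt
      suffices hfull : T' ⊓ normalizer (C : Set G) = T' by exact hfull.ge.trans inf_le_right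
      refine eq_of_le_of_card_ge inf_le_left ?_
      obtain ⟨j, hj⟩ := IsPGroup.iff_card.1 ((T.2.map _).to_le (inf_le_left : T' ⊓ normalizer (C : Set G) ≤ T'))
      obtain ⟨i, hi⟩ := IsPGroup.iff_card.1 (P.2.to_le (inf_le_left : C ≤ (P : Subgroup G)))
      obtain ⟨T₂, hT₂⟩ := (T.2.map _ : IsPGroup p T').exists_le_sylow
      have h1 := (card_le_of_le hT₂).trans_eq (T₂.card_eq_multiplicity.trans P.card_eq_multiplicity.symm)
      have h2 := hindex (P : Subgroup G) le_rfl e (fun g hg => hEcomm e he g hg)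
      have h3 : Nat.card C < Nat.card ↥(T' ⊓ normalizer (C : Set G)) :=
        lt_of_le_of_ne (card_le_of_le hgr.le) fun e => hgr.ne (eq_of_le_of_card_ge hgr.le e.ge)
      rw [hi, hj, Nat.pow_lt_pow_iff_right hp'.one_lt] at h3
      rw [hj]
      refine h1.trans (h2.trans ?_)
      rw [hi, ← pow_succ']
      exact Nat.pow_le_pow_right hp'.pos h3
    refine hθM e he he1 ?_
    have hxn : x ∈ normalizer (coreIn p H : Set G) := le_normalizer_coreIn H (hEH hxE)
    refine mem_coreIn_of_ppIn ?_ (orderOf_coprime_of_mem (card_coreIn H) (K := coreIn p H) ?_)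
    · exact (ppIn p _).mul_mem (conj_mem_ppIn hk.2 hpp) (inv_mem hpp)
    · have h2 := (mem_normalizer_iff.1 hxn k⁻¹).1 (inv_mem hk.1)
      simpa [mul_assoc] using (coreIn p H).mul_mem hk.1 h2
  -- second pass
  have pass2 : ∀ H : Subgroup G, H ≠ ⊤ → x ∈ H → H ≤ M := by
    refine fun H hH hxH => le_of_core_le h hp P hPM hZM (P.2.to_le hXP) (zpowers_ne_bot.2 hx1)
      (hXP.trans hPM) (fun H hH hXH => ?_) hH (zpowers_le.2 hxH)
    have hxn : x ∈ normalizer (coreIn p H : Set G) := le_normalizer_coreIn H (hXH (mem_zpowers x))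
    refine hsplit _ (card_coreIn H) hxn fun o ho => ?_
    obtain ⟨b, -, hb, hby⟩ := exists_closed_conj (p := p) hxn (card_coreIn H)
      ⟨1, by rw [pow_one, ← hxo, pow_orderOf_eq_one]⟩ ho
    obtain ⟨hy, -, he⟩ := mem_closed hb hby (hxP e₀ (hNP he₀N))
    have hEK : E ≤ closure ({x, b * e₀} : Set G) :=
      sup_le (zpowers_le.2 (subset_closure (by simp))) (zpowers_le.2 he)
    exact M.mul_mem (pass1 _ (closure_pair_ne_top h x _) hEK hy) (M.inv_mem (hPM hxPm))
  exact hMtop (eq_top_iff.2 fun g _ =>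
    pass2 _ (closure_pair_ne_top h x g) (subset_closure (by simp)) (subset_closure (by simp)))

end CfsgLib.PairSol
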