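import Cfsg.Agent.Lib.PairSol.Local
import Cfsg.Agent.Lib.FixGen.Main
import Cfsg.Agent.Lib.Elementary
import Cfsg.Agent.Lib.SolvSF.TwoPrimeM

/-!
Rank two: centralisers of `p`-elements inside two-generated subgroups stay in the signalizers.
-/

set_option autoImplicit false
set_option linter.unusedSectionVars false
set_option linter.style.haveILetI false

namespace CfsgLib.PairSol

open Cfsg Subgroup
open scoped Pointwise commutatorElement

universe u

theorem pPrimePCore_le_sup {X : Type u} [Group X] [Finite X] {p : ℕ} [Fact p.Prime] (S : Sylow p X) :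
    pPrimePCore p X ≤ pPrimeCore p X ⊔ (S : Subgroup X) := by
  haveI : (pPrimePCore p X).Normal := normal_comap _
  obtain ⟨T, hT⟩ := CfsgLib.PLocal.exists_sylow_inf S (pPrimePCore p X)
  intro y hy
  have h1 := CfsgLib.PLocal.map_sylow_pPrimePCore T
  rw [hT] at h1
  have h2 : y ∈ (((S : Subgroup X) ⊓ pPrimePCore p X).map (QuotientGroup.mk' (pPrimeCore p X))).comap
      (QuotientGroup.mk' (pPrimeCore p X)) := by
    rw [mem_comap, h1]; exact hy
  rw [comap_map_eq, QuotientGroup.ker_mk'] at h2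
  exact (sup_le (inf_le_left.trans le_sup_right) le_sup_left :
    ((S : Subgroup X) ⊓ pPrimePCore p X) ⊔ pPrimeCore p X ≤ pPrimeCore p X ⊔ (S : Subgroup X)) h2

/-- In a solvable group a `p'`-element centralising a Sylow `p`-subgroup lies in `O_{p'}`. -/
theorem mem_core_of_centralizes {X : Type u} [Group X] [Finite X] {p : ℕ} [Fact p.Prime] [Group.IsSolvable X]
    (S : Sylow p X) {x : X} (hc : x ∈ centralizer ((S : Subgroup X) : Set X)) (ho : (orderOf x).Coprime p) :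
    x ∈ pPrimeCore p X := by
  set π := QuotientGroup.mk' (pPrimeCore p X) with hπ
  have hπs : Function.Surjective π := QuotientGroup.mk'_surjective _
  haveI : Group.IsSolvable (X ⧸ pPrimeCore p X) := Group.isSolvable_of_surjective hπs
  have hRS : pCore p (X ⧸ pPrimeCore p X) ≤ (S : Subgroup X).map π :=
    CfsgLib.pCore_le_sylow (S.mapSurjective hπs)
  refine mem_core_of_mem_pPrimePCore ?_ ho
  show π x ∈ pCore p (X ⧸ pPrimeCore p X)
  refine CfsgLib.centralizer_pCore_le (G := X ⧸ pPrimeCore p X) Fact.out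
    (CfsgLib.pPrimeCore_quotient_eq_bot p) fun r hr => ?_
  obtain ⟨s, hs, rfl⟩ := hRS hr
  rw [← map_mul, hc s hs, map_mul]

variable {G : Type u} [Group G] [Finite G] {p : ℕ} [Fact p.Prime]

theorem mem_normalizer_inf {X Y : Subgroup G} {g : G} (hX : g ∈ normalizer (X : Set G))
    (hY : g ∈ normalizer (Y : Set G)) : g ∈ normalizer ((X ⊓ Y : Subgroup G) : Set G) :=
  mem_normalizer_iff.2 fun y => by
    rw [mem_inf, mem_inf, mem_normalizer_iff.1 hX y, mem_normalizer_iff.1 hY y]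

theorem isPel_of_mem {S : Subgroup G} (hS : IsPGroup p S) {g : G} (hg : g ∈ S) : ∃ k, g ^ p ^ k = 1 :=
  (hS ⟨g, hg⟩).imp fun _ hk => congrArg Subtype.val hk

theorem mem_centralizerPPrimeCore_le (z : G) {a : G} (ha : a ∈ centralizerPPrimeCore p z) : a * z = z * a :=
  mem_centralizer_singleton_iff.1 (coreIn_le (centralizer ({z} : Set G)) ha)

/-- Balance. -/
theorem balance (h : Cex G) {z w a : G} (hz : ∃ k, z ^ p ^ k = 1) (hw : w ≠ 1) (hzw : z * w = w * z)
    (ha : a ∈ centralizerPPrimeCore p z) (haw : a * w = w * a) : a ∈ centralizerPPrimeCore p w := by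
  rw [← coreIn_centralizer]
  refine core_balance (sol_centralizer h hw) (zpowers_le.2 (mem_centralizer_singleton_iff.2 hzw))
    (isPGroup_zpowers hz) (K := centralizerPPrimeCore p z ⊓ centralizer ({w} : Set G))
    ((card_coreIn (centralizer ({z} : Set G))).coprime_dvd_left (card_dvd_of_le inf_le_left)) ?_ ?_
    ⟨ha, mem_centralizer_singleton_iff.2 haw⟩
  · rintro b ⟨hb, hb'⟩
    refine ⟨hb', fun y hy => ?_⟩
    obtain ⟨i, rfl⟩ := mem_zpowers_iff.1 hy
    exact ((show Commute z b from (mem_centralizerPPrimeCore_le z hb).symm).zpow_left i).eq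
  · rintro g ⟨hgw, hgz⟩
    refine mem_normalizer_inf ?_ (le_normalizer hgw)
    exact le_normalizer_coreIn (centralizer ({z} : Set G))
      (mem_centralizer_singleton_iff.2 (hgz z (mem_zpowers z)).symm)

/-- A commutator of `r` with a `p`-element, both centralising `a`, of order prime to `p`, lies in `θ(a)`. -/
theorem comm_mem_theta (h : Cex G) (hp : 5 ≤ p) (hrk : PRankLE p 2 G) {a r u : G} (ha : a ≠ 1)
    (hr : r * a = a * r) (hu : u * a = a * u) (hup : ∃ k, u ^ p ^ k = 1)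
    (ho : (orderOf (r * u * r⁻¹ * u⁻¹)).Coprime p) : r * u * r⁻¹ * u⁻¹ ∈ centralizerPPrimeCore p a := by
  rw [← coreIn_centralizer]
  have hr' := mem_centralizer_singleton_iff.2 hr
  have hu' := mem_ppIn_of_rank (sol_centralizer h ha) hp hrk (mem_centralizer_singleton_iff.2 hu) hup
  exact mem_coreIn_of_ppIn ((ppIn p _).mul_mem (conj_mem_ppIn hr' hu') (inv_mem hu')) ho

/-- A `p'`-group is in `T` once its commutators with an acting `p`-element and its fixed points are. -/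
theorem le_of_split {T K : Subgroup G} {y : G} (hy : ∃ k, y ^ p ^ k = 1) (hyK : y ∈ normalizer (K : Set G))
    (hK : (Nat.card K).Coprime p) (hcomm : ∀ k ∈ K, ∀ i : ℤ, k * y ^ i * k⁻¹ * (y ^ i)⁻¹ ∈ T)
    (hfix : ∀ k ∈ K, k * y = y * k → k ∈ T) : K ≤ T := by
  intro k hk
  obtain ⟨a, ha, c, hc, rfl⟩ := CfsgLib.coprime_decomp (A := zpowers y) (K := K) (zpowers_le.2 hyK)
    (pGroup_coprime (isPGroup_zpowers hy) hK)
    (Or.inl (Group.isSolvable_of_comm fun a b => IsCyclic.commGroup.mul_comm a b)) hk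
  refine T.mul_mem ?_ (hfix c hc.1 (hc.2 y (mem_zpowers y)).symm)
  refine (Subgroup.commutator_le.2 fun o ho z hz => ?_ : ⁅K, zpowers y⁆ ≤ T) ha
  obtain ⟨i, rfl⟩ := mem_zpowers_iff.1 hz
  rw [commutatorElement_def]
  exact hcomm o ho i

/-- A `p'`-subgroup of `C(y)` normalised by a maximal elementary subgroup over `y` lies in `θ(y)`. -/
theorem le_theta_of_maximal (h : Cex G) (hp2 : p ≠ 2) {y : G} (hy : y ≠ 1) {E : Subgroup G}
    (hE : IsElementaryAbelian p E) (hyE : y ∈ E)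
    (hmax : ∀ B : Subgroup G, IsElementaryAbelian p B → E ≤ B → B ≤ E) {Y : Subgroup G}
    (hY : (Nat.card Y).Coprime p) (hYC : Y ≤ centralizer ({y} : Set G)) (hEY : E ≤ normalizer (Y : Set G)) :
    Y ≤ centralizerPPrimeCore p y := by
  set C := centralizer ({y} : Set G) with hC
  have hEC : E ≤ C := fun e he => mem_centralizer_singleton_iff.2
    (congrArg Subtype.val (hE.1.is_comm.comm (⟨e, he⟩ : E) ⟨y, hyE⟩))
  haveI := sol_centralizer h hy
  intro a ha
  refine ⟨⟨a, hYC ha⟩, le_core_of_maximal hp2 (E.subgroupOf C) ?_ (fun B hB hle b hb => ?_) (Y.subgroupOf C)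
    (by rw [Nat.card_congr (subgroupOfEquivOfLe hYC).toEquiv]; exact hY) (fun e he => ?_) ha, rfl⟩
  · exact ⟨⟨⟨fun u v => Subtype.ext (Subtype.ext (by
      have huv := congrArg (Subtype.val : E → G)
        (hE.1.is_comm.comm ⟨((u : C) : G), u.2⟩ ⟨((v : C) : G), v.2⟩)
      exact huv))⟩⟩,
      fun u hu => Subtype.ext (by simpa using hE.2 (u : G) hu)⟩
  · have h1 : IsElementaryAbelian p (B.map C.subtype) := by
      haveI := hB.1
      refine ⟨inferInstance, ?_⟩
      rintro _ ⟨v, hv, rfl⟩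
      exact congrArg Subtype.val (hB.2 v hv)
    exact hmax _ h1 (fun e he => ⟨⟨e, hEC he⟩, hle he, rfl⟩) ⟨b, hb, rfl⟩
  · exact mem_normalizer_iff.2 fun v => (mem_normalizer_iff.1 (hEY he) (v : G))

theorem ea_zpowers' {y : G} (hy : y ^ p = 1) : IsElementaryAbelian p (zpowers y) :=
  ⟨⟨⟨fun a b => IsCyclic.commGroup.mul_comm a b⟩⟩, by
    rintro _ ⟨i, rfl⟩
    show (y ^ i) ^ p = 1
    rw [← zpow_natCast, ← zpow_mul, mul_comm, zpow_mul, zpow_natCast, hy, one_zpow]⟩

theorem card_le_sq (hrk : PRankLE p 2 G) {B : Subgroup G} (hB : IsElementaryAbelian p B) :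
    Nat.card B ≤ p ^ 2 := hrk B hB.1 hB.2

/-- A maximal elementary abelian subgroup over `y` is generated by `y` and one further element. -/
theorem exists_max_ea (hrk : PRankLE p 2 G) {y : G} (hy : y ≠ 1) (hyp : y ^ p = 1) :
    ∃ (E : Subgroup G) (e : G), IsElementaryAbelian p E ∧ y ∈ E ∧ e ∈ E ∧ E ≤ zpowers y ⊔ zpowers e ∧
      ∀ B : Subgroup G, IsElementaryAbelian p B → E ≤ B → B ≤ E := by
  obtain ⟨E, ⟨hE, hyE⟩, hmax⟩ := Set.Finite.exists_maximal
    (Set.toFinite {B : Subgroup G | IsElementaryAbelian p B ∧ y ∈ B})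
    ⟨zpowers y, ea_zpowers' hyp, mem_zpowers y⟩
  have hmax' : ∀ B : Subgroup G, IsElementaryAbelian p B → E ≤ B → B ≤ E := fun B hB hle =>
    hmax ⟨hB, hle hyE⟩ hle
  by_cases hEy : E ≤ zpowers y
  · exact ⟨E, 1, hE, hyE, one_mem _, hEy.trans le_sup_left, hmax'⟩
  obtain ⟨e, he, hey⟩ := SetLike.not_le_iff_exists.1 hEy
  refine ⟨E, e, hE, hyE, he, ?_, hmax'⟩
  have hle : zpowers y ⊔ zpowers e ≤ E := sup_le (zpowers_le.2 hyE) (zpowers_le.2 he)
  refine (eq_of_le_of_card_ge hle ?_).ge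
  refine (card_le_sq hrk hE).trans ?_
  have hyo : orderOf y = p := orderOf_eq_prime hyp hy
  have hlt : Nat.card (zpowers y) < Nat.card ↥(zpowers y ⊔ zpowers e) :=
    lt_of_le_of_ne (card_le_of_le le_sup_left) fun heq => hey
      ((eq_of_le_of_card_ge le_sup_left heq.ge).ge (mem_sup_right (mem_zpowers e)))
  obtain ⟨k, hk⟩ := IsPGroup.iff_card.1 ((Signalizer.isPGroup_ea hE).to_le hle)
  rw [Nat.card_zpowers, hyo, hk] at hlt
  rw [hk]
  refine Nat.pow_le_pow_right (Fact.out : p.Prime).pos ?_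
  by_contra hk2
  have := (Nat.pow_le_pow_right (Fact.out : p.Prime).pos (by omega : k ≤ 1)).trans_eq (pow_one p)
  omega

/-- The data of a two-generated subgroup spanned by two signalizer elements. -/
structure PairData (p : ℕ) (K : Subgroup G) (z k z' k' : G) : Prop where
  ne_top : K ≠ ⊤
  le : K ≤ closure ({z, k, z', k'} : Set G)
  hz : z ∈ K ∧ z ≠ 1 ∧ ∃ i, z ^ p ^ i = 1
  hk : k ∈ K ∧ k ∈ centralizerPPrimeCore p z
  hz' : z' ∈ K ∧ z' ≠ 1 ∧ ∃ i, z' ^ p ^ i = 1
  hk' : k' ∈ K ∧ k' ∈ centralizerPPrimeCore p z'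

theorem mem_coreIn_of_theta (h : Cex G) {K : Subgroup G} (hK : K ≠ ⊤) {z k : G} (hz : z ∈ K)
    (hzp : ∃ i, z ^ p ^ i = 1) (hk : k ∈ K) (hkz : k ∈ centralizerPPrimeCore p z) : k ∈ coreIn p K := by
  refine core_balance (h.sol K hK) (zpowers_le.2 hz) (isPGroup_zpowers hzp)
    (K := centralizerPPrimeCore p z ⊓ K)
    ((card_coreIn (centralizer ({z} : Set G))).coprime_dvd_left (card_dvd_of_le inf_le_left)) ?_ ?_ ⟨hkz, hk⟩
  · rintro b ⟨hb, hb'⟩
    refine ⟨hb', fun y hy => ?_⟩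
    obtain ⟨i, rfl⟩ := mem_zpowers_iff.1 hy
    exact ((show Commute z b from (mem_centralizerPPrimeCore_le z hb).symm).zpow_left i).eq
  · rintro g ⟨hgK, hgz⟩
    refine mem_normalizer_inf ?_ (le_normalizer hgK)
    exact le_normalizer_coreIn (centralizer ({z} : Set G))
      (mem_centralizer_singleton_iff.2 (hgz z (mem_zpowers z)).symm)

theorem PairData.core_left {K : Subgroup G} {z k z' k' : G} (h : Cex G) (D : PairData p K z k z' k') :
    k ∈ coreIn p K := mem_coreIn_of_theta h D.ne_top D.hz.1 D.hz.2.2 D.hk.1 D.hk.2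

theorem PairData.core_right {K : Subgroup G} {z k z' k' : G} (h : Cex G) (D : PairData p K z k z' k') :
    k' ∈ coreIn p K := mem_coreIn_of_theta h D.ne_top D.hz'.1 D.hz'.2.2 D.hk'.1 D.hk'.2

theorem PairData.le_ppIn {K : Subgroup G} {z k z' k' : G} (h : Cex G) (hp : 5 ≤ p) (hrk : PRankLE p 2 G)
    (D : PairData p K z k z' k') : K ≤ ppIn p K := by
  refine D.le.trans ((closure_le _).2 ?_)
  rintro g (rfl | rfl | rfl | rfl)
  · exact mem_ppIn_of_rank (h.sol K D.ne_top) hp hrk D.hz.1 D.hz.2.2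
  · exact coreIn_le_ppIn K (D.core_left h)
  · exact mem_ppIn_of_rank (h.sol K D.ne_top) hp hrk D.hz'.1 D.hz'.2.2
  · exact coreIn_le_ppIn K (D.core_right h)

theorem PairData.eq_mul {K : Subgroup G} {z k z' k' : G} (h : Cex G) (hp : 5 ≤ p) (hrk : PRankLE p 2 G)
    (D : PairData p K z k z' k') (S : Sylow p K) {g : G} (hg : g ∈ K) :
    ∃ o ∈ coreIn p K, ∃ u ∈ (S : Subgroup K).map K.subtype, o * u = g := by
  obtain ⟨hgK, hg'⟩ := mem_ppIn.1 (D.le_ppIn h hp hrk hg)
  obtain ⟨o, ho, u, hu, hou⟩ := mem_sup_of_normal_left.1 (pPrimePCore_le_sup S hg')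
  exact ⟨o, ⟨o, ho, rfl⟩, u, ⟨u, hu, rfl⟩, congrArg Subtype.val hou⟩

/-- The central step: `C_O(y) ≤ θ(y)` for `y` of order `p` central in a Sylow subgroup. -/
theorem cent_central (h : Cex G) (hp : 5 ≤ p) (hrk : PRankLE p 2 G) {K : Subgroup G} {z k z' k' : G}
    (D : PairData p K z k z' k') (S : Sylow p K) {y : G} (hyU : y ∈ (S : Subgroup K).map K.subtype)
    (hy1 : y ≠ 1) (hyp : y ^ p = 1) (hyc : ∀ u ∈ (S : Subgroup K).map K.subtype, u * y = y * u) :
    coreIn p K ⊓ centralizer ({y} : Set G) ≤ centralizerPPrimeCore p y := by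
  set O := coreIn p K with hO
  set U := (S : Subgroup K).map K.subtype with hU
  have hp2 : p ≠ 2 := by omega
  have hUK : U ≤ K := map_subtype_le _
  have hUp : IsPGroup p U := S.2.map _
  have hOK : O ≤ K := coreIn_le K
  have hKO : K ≤ normalizer (O : Set G) := le_normalizer_coreIn K
  have hOc : (Nat.card O).Coprime p := card_coreIn K
  have hyK : y ∈ K := hUK hyU
  have hUC : U ≤ centralizer ({y} : Set G) := fun u hu => mem_centralizer_singleton_iff.2 (hyc u hu)
  set Y := O ⊓ centralizer ({y} : Set G) with hY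
  have hYc : (Nat.card Y).Coprime p := hOc.coprime_dvd_left (card_dvd_of_le inf_le_left)
  have hUY : U ≤ normalizer (Y : Set G) := Signalizer.inf_normalizes (hUK.trans hKO) (hUC.trans le_normalizer)
  by_cases hA : ∃ E : Subgroup G, IsElementaryAbelian p E ∧ E ≤ U ∧ p ^ 2 ≤ Nat.card E
  · obtain ⟨E, hE, hEU, hE2⟩ := hA
    have hJ : IsElementaryAbelian p (E ⊔ zpowers y : Subgroup G) := by
      have hdec : ∀ v ∈ E ⊔ zpowers y, ∃ a ∈ E, ∃ i : ℤ, v = a * y ^ i := fun v hv => by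
        obtain ⟨a, ha, b, hb, rfl⟩ := Comp.mem_sup_of_commutator_eq_bot
          (commutator_eq_bot_iff_le_centralizer.mpr fun a ha b hb => by
            obtain ⟨i, rfl⟩ := mem_zpowers_iff.1 hb
            exact ((show Commute a y from hyc a (hEU ha)).zpow_right i).eq.symm) hv
        obtain ⟨i, rfl⟩ := mem_zpowers_iff.1 hb
        exact ⟨a, ha, i, rfl⟩
      have hcy : ∀ a ∈ E, ∀ i : ℤ, Commute a (y ^ i) := fun a ha i =>
        (show Commute a y from hyc a (hEU ha)).zpow_right i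
      refine ⟨⟨⟨fun v w => Subtype.ext ?_⟩⟩, fun v hv => ?_⟩
      · obtain ⟨a, ha, i, hv⟩ := hdec v v.2
        obtain ⟨b, hb, j, hw⟩ := hdec w w.2
        show (v : G) * w = w * v
        rw [hv, hw]
        exact (((show Commute a b from Signalizer.ea_comm hE ha hb).mul_right (hcy a ha j)).mul_left
          ((hcy b hb i).symm.mul_right (Commute.zpow_zpow_self y i j))).eq
      · obtain ⟨a, ha, i, rfl⟩ := hdec v hv
        rw [(hcy a ha i).mul_pow, hE.2 a ha, one_mul, ← zpow_natCast, ← zpow_mul, mul_comm, zpow_mul,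
          zpow_natCast, hyp, one_zpow]
    have hyE : y ∈ E :=
      (eq_of_le_of_card_ge le_sup_left ((card_le_sq hrk hJ).trans hE2)).ge (mem_sup_right (mem_zpowers y))
    exact le_theta_of_maximal h hp2 hy1 hE hyE
      (fun B hB hle => (eq_of_le_of_card_ge hle ((card_le_sq hrk hB).trans hE2)).ge) hYc inf_le_right
      (hEU.trans hUY)
  -- every nontrivial element of `U` has `y` among its powers
  have hpow : ∀ u ∈ U, u ≠ 1 → y ∈ zpowers u := by
    intro u hu hu1
    obtain ⟨i, hi⟩ := IsPGroup.iff_orderOf.1 hUp ⟨u, hu⟩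
    rw [orderOf_mk] at hi
    have hi0 : i ≠ 0 := fun e => hu1 (orderOf_eq_one_iff.1 (by rw [hi, e, pow_zero]))
    set v := u ^ p ^ (i - 1) with hv
    have hvp : v ^ p = 1 := by
      rw [hv, ← pow_mul, ← pow_succ, Nat.sub_add_cancel (Nat.pos_of_ne_zero hi0), ← hi, pow_orderOf_eq_one]
    have hv1 : v ≠ 1 := by
      rw [hv, Ne, ← orderOf_dvd_iff_pow_eq_one, hi, Nat.pow_dvd_pow_iff_le_right (Fact.out : p.Prime).one_lt]
      omega
    have hvU : v ∈ U := pow_mem hu _
    refine zpowers_le.2 (pow_mem (mem_zpowers u) (p ^ (i - 1))) ?_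
    by_contra hyv
    refine hA ⟨zpowers v ⊔ zpowers y, ?_, sup_le (zpowers_le.2 hvU) (zpowers_le.2 hyU), ?_⟩
    · have hvy : Commute v y := hyc v hvU
      have hdec : ∀ w ∈ zpowers v ⊔ zpowers y, ∃ i j : ℤ, w = v ^ i * y ^ j := fun w hw => by
        obtain ⟨a, ha, b, hb, rfl⟩ := Comp.mem_sup_of_commutator_eq_bot
          (commutator_eq_bot_iff_le_centralizer.mpr fun a ha b hb => by
            obtain ⟨i, rfl⟩ := mem_zpowers_iff.1 ha
            obtain ⟨j, rfl⟩ := mem_zpowers_iff.1 hb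
            exact (hvy.zpow_zpow i j).eq.symm) hw
        obtain ⟨i, rfl⟩ := mem_zpowers_iff.1 ha
        obtain ⟨j, rfl⟩ := mem_zpowers_iff.1 hb
        exact ⟨i, j, rfl⟩
      refine ⟨⟨⟨fun a b => Subtype.ext ?_⟩⟩, fun a ha => ?_⟩
      · obtain ⟨i, j, ha⟩ := hdec a a.2
        obtain ⟨i', j', hb⟩ := hdec b b.2
        show (a : G) * b = b * a
        rw [ha, hb]
        exact (((Commute.zpow_zpow_self v i i').mul_right (hvy.zpow_zpow i j')).mul_left
          ((hvy.zpow_zpow i' j).symm.mul_right (Commute.zpow_zpow_self y j j'))).eq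
      · obtain ⟨i, j, rfl⟩ := hdec a ha
        rw [(hvy.zpow_zpow i j).mul_pow, (ea_zpowers' hvp).2 _ (zpow_mem (mem_zpowers v) i),
          (ea_zpowers' hyp).2 _ (zpow_mem (mem_zpowers y) j), one_mul]
    · have hlt : Nat.card (zpowers v) < Nat.card ↥(zpowers v ⊔ zpowers y) :=
        lt_of_le_of_ne (card_le_of_le le_sup_left) fun heq => hyv
          ((eq_of_le_of_card_ge le_sup_left heq.ge).ge (mem_sup_right (mem_zpowers y)))
      obtain ⟨j, hj⟩ := IsPGroup.iff_card.1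
        (hUp.to_le (sup_le (zpowers_le.2 hvU) (zpowers_le.2 hyU)))
      rw [Nat.card_zpowers, orderOf_eq_prime hvp hv1, hj] at hlt
      rw [hj]
      refine Nat.pow_le_pow_right (Fact.out : p.Prime).pos ?_
      by_contra hj2
      have := (Nat.pow_le_pow_right (Fact.out : p.Prime).pos (by omega : j ≤ 1)).trans_eq (pow_one p)
      omega
  -- the normal subgroup `[O, y] (O ∩ θ(y)) U`
  set D₀ := ⁅O, zpowers y⁆ with hD₀
  set S₂ := O ⊓ centralizerPPrimeCore p y with hS₂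
  have hyO : zpowers y ≤ normalizer (O : Set G) := zpowers_le.2 (hKO hyK)
  have hD₀O : D₀ ≤ O := CfsgLib.commutator_le_of_le_normalizer hyO
  have hOD : O ≤ normalizer (D₀ : Set G) := CfsgLib.left_le_normalizer_commutator (zpowers y) O
  have hUD : U ≤ normalizer (D₀ : Set G) := SolvSF.commutator_normalized (hUK.trans hKO) fun u hu =>
    centralizer_le_normalizer _ (mem_centralizer_iff.2 fun w hw => by
      obtain ⟨i, rfl⟩ := mem_zpowers_iff.1 hw
      exact ((show Commute y u from (hyc u hu).symm).zpow_left i).eq)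
  have hCθ : centralizer ({y} : Set G) ≤ normalizer (centralizerPPrimeCore p y : Set G) :=
    le_normalizer_coreIn _
  set T := D₀ ⊔ S₂ ⊔ U with hT
  have hNS : ∀ g : G, g ∈ K → g * y = y * g → g ∈ normalizer (S₂ : Set G) := fun g hg hgy =>
    mem_normalizer_inf (hKO hg) (hCθ (mem_centralizer_singleton_iff.2 hgy))
  have hUT : ∀ u ∈ U, u ∈ normalizer (T : Set G) := fun u hu => le_normalizer (mem_sup_right hu)
  have hOT : O ≤ normalizer (T : Set G) := by
    refine le_of_split (p := p) ⟨1, by rw [pow_one, hyp]⟩ (hKO hyK) hOc (fun o ho i => ?_) fun c hc hcy => ?_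
    · exact le_normalizer (mem_sup_left (mem_sup_left
        (commutator_mem_commutator ho (zpow_mem (mem_zpowers y) i))))
    have hconj : ∀ w ∈ T, c * w * c⁻¹ ∈ T := by
      have hgen : T ≤ T.comap (MulAut.conj c).toMonoidHom := by
        refine sup_le (sup_le (fun w hw => ?_) fun w hw => ?_) fun w hw => ?_
        · exact mem_sup_left (mem_sup_left ((mem_normalizer_iff.1 (hOD hc) w).1 hw))
        · exact mem_sup_left (mem_sup_right ((mem_normalizer_iff.1 (hNS c (hOK hc) hcy) w).1 hw))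
        · show c * w * c⁻¹ ∈ T
          have h1 : c * w * c⁻¹ * w⁻¹ ∈ O := by
            have h2 := (mem_normalizer_iff.1 (hKO (hUK hw)) c⁻¹).1 (inv_mem hc)
            simpa [mul_assoc] using mul_mem hc h2
          have h2 : c * w * c⁻¹ * w⁻¹ ∈ S₂ := mem_inf.2 ⟨h1,
            comm_mem_theta h hp hrk hy1 hcy (hyc w hw) (isPel_of_mem hUp hw) (orderOf_coprime_of_mem hOc h1)⟩
          simpa [mul_assoc] using T.mul_mem (mem_sup_left (mem_sup_right h2)) (mem_sup_right hw)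
      exact fun w hw => hgen hw
    exact CfsgLib.Comp.mem_normalizer_of_maps hconj
  have hKT : K ≤ normalizer (T : Set G) := fun g hg => by
    obtain ⟨o, ho, u, hu, rfl⟩ := D.eq_mul h hp hrk S hg
    exact mul_mem (hOT ho) (hUT u hu)
  have hmem : ∀ a b : G, a ∈ K → a ≠ 1 → (∃ i, a ^ p ^ i = 1) → b ∈ O → b ∈ centralizerPPrimeCore p a →
      a ∈ T ∧ b ∈ T := by
    intro a b haK ha1 hap hb hba
    obtain ⟨S', hS'⟩ := ((isPGroup_zpowers hap).comap_of_injective K.subtype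
      K.subtype_injective).exists_le_sylow
    obtain ⟨m, hm⟩ := MulAction.exists_smul_eq K S' S
    set a₀ := (m : G) * a * (m : G)⁻¹ with ha₀
    have ha₀U : a₀ ∈ U := by
      refine ⟨m * ⟨a, haK⟩ * m⁻¹, ?_, rfl⟩
      rw [← hm, Sylow.coe_subgroup_smul]
      exact Subgroup.smul_mem_pointwise_smul _ (MulAut.conj m) _
        (hS' (show (⟨a, haK⟩ : K) ∈ (zpowers a).comap K.subtype from mem_zpowers a))
    have hmT := mem_normalizer_iff.1 (hKT m.2)
    refine ⟨(hmT a).2 (mem_sup_right ha₀U), (hmT b).2 ?_⟩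
    set b₀ := (m : G) * b * (m : G)⁻¹ with hb₀
    have hb₀O : b₀ ∈ O := (mem_normalizer_iff.1 (hKO m.2) b).1 hb
    have hb₀θ : b₀ ∈ centralizerPPrimeCore p a₀ := SolvSF.conj_mem_centralizerPPrimeCore _ _ hba
    have ha₀1 : a₀ ≠ 1 := fun e => ha1 (conj_eq_one_iff.1 e)
    obtain ⟨i, hi⟩ := mem_zpowers_iff.1 (hpow a₀ ha₀U ha₀1)
    have hby : b₀ * y = y * b₀ := by
      rw [← hi]
      exact ((show Commute b₀ a₀ from mem_centralizerPPrimeCore_le _ hb₀θ).zpow_right i).eq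
    exact mem_sup_left (mem_sup_right (mem_inf.2
      ⟨hb₀O, balance h (isPel_of_mem hUp ha₀U) hy1 (hyc a₀ ha₀U) hb₀θ hby⟩))
  have hKleT : K ≤ T := by
    obtain ⟨h1, h2⟩ := hmem z k D.hz.1 D.hz.2.1 D.hz.2.2 (D.core_left h) D.hk.2
    obtain ⟨h3, h4⟩ := hmem z' k' D.hz'.1 D.hz'.2.1 D.hz'.2.2 (D.core_right h) D.hk'.2
    refine D.le.trans ((closure_le _).2 ?_)
    rintro g (rfl | rfl | rfl | rfl)
    exacts [h1, h2, h3, h4]
  rintro c ⟨hcO, hcy⟩
  have hUW : U ≤ normalizer ((D₀ ⊔ S₂ : Subgroup G) : Set G) := fun u hu =>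
    Subgroup.normalizer_inf_normalizer_le_normalizer_sup _ _
      (mem_inf.2 ⟨hUD hu, hNS u (hUK hu) (hyc u hu)⟩)
  obtain ⟨w, hw, u, hu, rfl⟩ := CfsgLib.mem_sup_of_le_normalizer hUW (hKleT (hOK hcO))
  have hwO : w ∈ O := sup_le hD₀O inf_le_left hw
  have hu1 : u = 1 := disjoint_def.1 (disjoint_of_coprime_natCard (pGroup_coprime hUp hOc)) hu
    (by have := O.mul_mem (inv_mem hwO) hcO; rwa [inv_mul_cancel_left] at this)
  subst hu1
  rw [mul_one] at hcO hcy ⊢
  obtain ⟨a, ha, s, hs, rfl⟩ := CfsgLib.mem_sup_of_le_normalizer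
    ((inf_le_left : S₂ ≤ O).trans hOD) hw
  refine mul_mem ?_ (mem_inf.1 hs).2
  have hsy : s * y = y * s := mem_centralizerPPrimeCore_le y (mem_inf.1 hs).2
  have hay : a * y = y * a := by
    have h1 : Commute (a * s) y := mem_centralizer_singleton_iff.1 hcy
    have h2 := h1.mul_left (show Commute s⁻¹ y from (show Commute s y from hsy).inv_left)
    rw [mul_inv_cancel_right] at h2
    exact h2
  clear hcy hcO hw hwO hs hsy
  -- the fixed points of `y` in `[O, y]`
  haveI : Group.IsSolvable O := by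
    haveI := h.sol K D.ne_top
    exact Group.isSolvable_of_isSolvable_injective (f := inclusion hOK) (inclusion_injective _)
  set φ : MulAut O := O.normalizerMonoidHom ⟨y, hKO hyK⟩ with hφ
  have hφv : ∀ (v : O) (i : ℕ), (((φ ^ i) v : O) : G) = y ^ i * (v : G) * (y ^ i)⁻¹ := by
    intro v i
    rw [hφ, ← map_pow]
    rfl
  have hφp : φ ^ p = 1 := by
    refine MulEquiv.ext fun v => Subtype.ext ?_
    rw [hφv, hyp, one_mul, inv_one, mul_one]
    rfl
  have hD₀le : D₀ ≤ (FixGen.brk φ ((⊤ : Subgroup O) : Set O)).map O.subtype := by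
    rw [hD₀, commutator_le]
    intro o ho w hw
    obtain ⟨i, rfl⟩ : ∃ i : ℕ, y ^ i = w :=
      (Submonoid.mem_powers_iff _ _).1 ((IsOfFinOrder.mem_powers_iff_mem_zpowers (isOfFinOrder_of_finite y)).2 hw)
    refine ⟨(⟨o, ho⟩ : O) * (φ ^ i) (⟨o, ho⟩ : O)⁻¹, subset_closure ⟨(⟨o, ho⟩ : O)⁻¹, trivial, i, by
      rw [inv_inv]⟩, ?_⟩
    show o * (((φ ^ i) (⟨o, ho⟩ : O)⁻¹ : O) : G) = _
    rw [hφv, commutatorElement_def]
    show o * (y ^ i * o⁻¹ * (y ^ i)⁻¹) = o * y ^ i * o⁻¹ * (y ^ i)⁻¹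
    group
  obtain ⟨a', ha', rfl⟩ := hD₀le ha
  have hfx : a' ∈ FixGen.fx φ := by
    refine FixGen.mem_fx.2 (Subtype.ext ?_)
    have := hφv a' 1
    rw [pow_one, pow_one] at this
    rw [this]
    change (a' : G) * y = y * a' at hay
    rw [← hay, mul_inv_cancel_right]
  have hsig := (FixGen.fixed_inf_eq hp2 hOc φ hφp).le (mem_inf.2 ⟨ha', hfx⟩)
  refine (show FixGen.sig φ ≤ (centralizerPPrimeCore p y).comap O.subtype from iSup_le fun v => ?_) hsig
  rintro c ⟨hcd, hcf⟩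
  -- one piece
  set y' := (v : G)⁻¹ * y * ((v : G)⁻¹)⁻¹ with hy'
  have hyN : y ∈ normalizer (O : Set G) := hKO hyK
  obtain ⟨b, -, hb, hby⟩ := exists_closed_conj (p := p) hyN hOc ⟨1, by rw [pow_one, hyp]⟩
    (inv_mem v.2 : (v : G)⁻¹ ∈ O)
  obtain ⟨E, e, hE, hyE, heE, hEle, hmax⟩ := exists_max_ea hrk hy1 hyp
  have hey : e * y = y * e := congrArg Subtype.val (hE.1.is_comm.comm (⟨e, heE⟩ : E) ⟨y, hyE⟩)
  obtain ⟨hy'K, hbK, heK⟩ := mem_closed hb hby hey
  set K' := closure ({y, b * e} : Set G) with hK'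
  have hyK' : y ∈ K' := subset_closure (by simp)
  have hK'top := closure_pair_ne_top h y (b * e)
  have hpp : y ∈ ppIn p K' := mem_ppIn_of_rank (h.sol K' hK'top) hp hrk hyK' ⟨1, by rw [pow_one, hyp]⟩
  have hpp' : y' ∈ ppIn p K' := by
    rw [hy', ← hby]
    exact conj_mem_ppIn hbK hpp
  have hcK' : (c : G) ∈ coreIn p K' := by
    refine mem_coreIn_of_ppIn ((show FixGen.dif φ v ≤ (ppIn p K').comap O.subtype from
      (closure_le _).2 ?_) hcd) (orderOf_coprime_of_mem hOc c.2)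
    rintro _ ⟨i, rfl⟩
    show (v : G)⁻¹ * (((φ ^ i) v : O) : G) ∈ ppIn p K'
    rw [hφv]
    have h1 : (v : G)⁻¹ * (y ^ i * (v : G) * (y ^ i)⁻¹) = y' ^ i * (y ^ i)⁻¹ := by
      rw [hy', conj_pow]; group
    rw [h1]
    exact mul_mem (pow_mem hpp' i) (inv_mem (pow_mem hpp i))
  have hcy : (c : G) * y = y * c := by
    have h1 := congrArg Subtype.val (FixGen.mem_fx.1 hcf)
    have h2 := hφv c 1
    rw [pow_one, pow_one] at h2
    rw [h2] at h1
    exact (mul_inv_eq_iff_eq_mul.1 h1).symm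
  have hEK' : E ≤ K' := hEle.trans (sup_le (zpowers_le.2 hyK') (zpowers_le.2 heK))
  refine le_theta_of_maximal h hp2 hy1 hE hyE hmax
    (Y := coreIn p K' ⊓ centralizer ({y} : Set G))
    ((card_coreIn K').coprime_dvd_left (card_dvd_of_le inf_le_left)) inf_le_right
    (Signalizer.inf_normalizes (hEK'.trans (le_normalizer_coreIn K'))
      (le_trans (show E ≤ centralizer ({y} : Set G) from fun v hv => mem_centralizer_singleton_iff.2
        (Signalizer.ea_comm hE hv hyE)) le_normalizer))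
    (mem_inf.2 ⟨hcK', mem_centralizer_singleton_iff.2 hcy⟩)

/-- `C_O(w) ≤ θ(w)` for every `p`-element `w` of the two-generated subgroup. -/
theorem cent_core (h : Cex G) (hp : 5 ≤ p) (hrk : PRankLE p 2 G) {K : Subgroup G} {z k z' k' : G}
    (D : PairData p K z k z' k') {w : G} (hwK : w ∈ K) (hw1 : w ≠ 1) (hwp : ∃ i, w ^ p ^ i = 1) :
    coreIn p K ⊓ centralizer ({w} : Set G) ≤ centralizerPPrimeCore p w := by
  obtain ⟨S, hwS⟩ := exists_max_pGroup (isPGroup_zpowers hwp) (zpowers_le.2 hwK)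
  set U := (S : Subgroup K).map K.subtype with hU
  have hUp : IsPGroup p U := S.2.map _
  have hwU : w ∈ U := hwS (mem_zpowers w)
  have hUne : U ≠ ⊥ := fun e => hw1 (mem_bot.1 (e ▸ hwU))
  haveI := hUp.isNilpotent
  haveI : Nontrivial U := (nontrivial_iff_ne_bot U).2 hUne
  haveI : Nontrivial (center U) := hUp.center_nontrivial
  obtain ⟨⟨c, hc⟩, hc1⟩ := exists_ne (1 : center U)
  obtain ⟨i, hi⟩ := IsPGroup.iff_orderOf.1 hUp c
  have hi0 : i ≠ 0 := fun e => hc1 (Subtype.ext (orderOf_eq_one_iff.1 (by rw [hi, e, pow_zero])))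
  set y₀ : U := c ^ p ^ (i - 1) with hy₀
  have hyp₀ : y₀ ^ p = 1 := by
    rw [hy₀, ← pow_mul, ← pow_succ, Nat.sub_add_cancel (Nat.pos_of_ne_zero hi0), ← hi, pow_orderOf_eq_one]
  have hy₀1 : y₀ ≠ 1 := by
    rw [hy₀, Ne, ← orderOf_dvd_iff_pow_eq_one, hi, Nat.pow_dvd_pow_iff_le_right (Fact.out : p.Prime).one_lt]
    omega
  have hyc : ∀ u ∈ U, u * (y₀ : G) = y₀ * u := fun u hu =>
    congrArg Subtype.val (mem_center_iff.1 (pow_mem hc (p ^ (i - 1))) ⟨u, hu⟩)
  have hyp : (y₀ : G) ^ p = 1 := by rw [← coe_pow, hyp₀]; rfl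
  have hy1 : (y₀ : G) ≠ 1 := fun e => hy₀1 (Subtype.ext e)
  have hcent := cent_central h hp hrk D S y₀.2 hy1 hyp hyc
  have hOc := card_coreIn (p := p) K
  have hyw : (y₀ : G) * w = w * y₀ := (hyc w hwU).symm
  refine le_of_split (p := p) (y := (y₀ : G)) ⟨1, by rw [pow_one, hyp]⟩
    (mem_normalizer_inf (le_normalizer_coreIn K (map_subtype_le _ y₀.2))
      (le_normalizer (mem_centralizer_singleton_iff.2 hyw)))
    (hOc.coprime_dvd_left (card_dvd_of_le inf_le_left)) (fun r hr j => ?_) fun r hr hry => ?_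
  · refine comm_mem_theta h hp hrk hw1 (mem_centralizer_singleton_iff.1 (mem_inf.1 hr).2)
      ((show Commute (y₀ : G) w from hyw).zpow_left j).eq
      (isPel_of_mem hUp (zpow_mem y₀.2 j)) (orderOf_coprime_of_mem hOc ?_)
    have hyK : (y₀ : G) ^ j ∈ K := zpow_mem (map_subtype_le _ y₀.2) j
    have h2 := (mem_normalizer_iff.1 (le_normalizer_coreIn (p := p) K hyK) r⁻¹).1 (inv_mem (mem_inf.1 hr).1)
    simpa [mul_assoc] using (coreIn p K).mul_mem (mem_inf.1 hr).1 h2
  · exact balance h ⟨1, by rw [pow_one, hyp]⟩ hw1 hyw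
      (hcent (mem_inf.2 ⟨(mem_inf.1 hr).1, mem_centralizer_singleton_iff.2 hry⟩))
      (mem_centralizer_singleton_iff.1 (mem_inf.1 hr).2)

end CfsgLib.PairSol
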