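import Cfsg.Agent.Lib.PairSol.Count
import Cfsg.Agent.S0144
import Cfsg.Agent.S0205

/-!
A finite group all of whose two-generated subgroups are solvable is solvable, and the criterion by the sets of
elements forming a solvable pair with a given one.
-/

set_option autoImplicit false
set_option linter.unusedSectionVars false
set_option linter.style.haveILetI false

namespace CfsgLib.PairSol

open Cfsg Subgroup

universe u

/-- No counterexample. -/
theorem not_cex {G : Type u} [Group G] [Finite G] (h : Cex G) : False := by
  obtain ⟨p, hp, hp5, hdvd⟩ : ∃ p : ℕ, p.Prime ∧ 5 ≤ p ∧ p ∣ Nat.card G := by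
    by_contra hno
    simp only [not_exists, not_and] at hno
    have hpr : ∀ d, d.Prime → d ∣ Nat.card G → d = 2 ∨ d = 3 := by
      intro d hd hdd
      have h5 : d < 5 := not_le.1 fun h5 => hno d hd h5 hdd
      have := hd.two_le
      interval_cases d <;> simp_all (config := { decide := true })
    obtain ⟨a, c, hca, hc2⟩ : ∃ a c : ℕ, Nat.card G = 2 ^ a * c ∧ ¬ 2 ∣ c := by
      obtain ⟨a, c, h1, h2⟩ := Nat.exists_eq_pow_mul_and_not_dvd (Nat.card_pos (α := G)).ne' 2 (by norm_num)
      exact ⟨a, c, h2, h1⟩
    obtain ⟨b, e, hcb, he3⟩ : ∃ b e : ℕ, c = 3 ^ b * e ∧ ¬ 3 ∣ e := by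
      have hc0 : c ≠ 0 := fun e0 => hc2 (e0.symm ▸ dvd_zero 2)
      obtain ⟨b, e, h1, h2⟩ := Nat.exists_eq_pow_mul_and_not_dvd hc0 3 (by norm_num)
      exact ⟨b, e, h2, h1⟩
    have he : e = 1 := by
      by_contra hne
      obtain ⟨d, hd, hde⟩ := Nat.exists_prime_and_dvd hne
      rcases hpr d hd (hca ▸ hcb ▸ dvd_mul_of_dvd_right (dvd_mul_of_dvd_right hde _) _) with rfl | rfl
      · exact hc2 (hcb ▸ dvd_mul_of_dvd_right hde _)
      · exact he3 hde
    haveI := Cfsg.Agent.S0144.result (G := G) 2 3 a b Nat.prime_two Nat.prime_three
      (by rw [hca, hcb, he, mul_one])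
    haveI := h.simple
    exact h.noncomm ((IsSimpleGroup.comm_iff_isSolvable).2 inferInstance |> fun hc => ⟨⟨hc⟩⟩)
  haveI := Fact.mk hp
  exact rank_two_false h hp5 (rank_le_two h hp5) hdvd

theorem isSolvable_of_quotient {G : Type u} [Group G] (N : Subgroup G) [N.Normal] (hN : Group.IsSolvable N)
    (hQ : Group.IsSolvable (G ⧸ N)) : Group.IsSolvable G :=
  (Group.isSolvable_iff_subgroup_quotient N).mpr ⟨hN, hQ⟩

theorem closure_pair_map {G H : Type u} [Group G] [Group H] (f : G →* H) (a b : G) :
    (closure ({a, b} : Set G)).map f = closure ({f a, f b} : Set H) := by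
  rw [MonoidHom.map_closure, Set.image_pair]

/-- A finite group all of whose two-generated subgroups are solvable is solvable. -/
theorem isSolvable_of_pairs {G : Type u} [Group G] [Finite G]
    (h : ∀ a b : G, Group.IsSolvable (closure ({a, b} : Set G))) : Group.IsSolvable G := by
  induction hn : Nat.card G using Nat.strong_induction_on generalizing G with
  | _ n ih =>
    have hsub : ∀ H : Subgroup G, H ≠ ⊤ → Group.IsSolvable H := by
      intro H hH
      refine ih (Nat.card H) ?_ (fun a b => ?_) rfl
      · rw [← hn]
        exact lt_of_le_of_ne (card_le_card_group H) fun e => hH (eq_top_of_card_eq H e)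
      · haveI := h (a : G) (b : G)
        have e : (closure ({a, b} : Set H)).map H.subtype = closure ({(a : G), (b : G)} : Set G) :=
          closure_pair_map H.subtype a b
        exact Group.isSolvable_of_isSolvable_injective
          (f := (MulEquiv.subgroupCongr e).toMonoidHom.comp
            ((closure ({a, b} : Set H)).equivMapOfInjective H.subtype H.subtype_injective).toMonoidHom)
          ((MulEquiv.subgroupCongr e).injective.comp (MulEquiv.injective _))
    rcases subsingleton_or_nontrivial G with hG | hG
    · exact Group.isSolvable_of_comm fun a b => Subsingleton.elim _ _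
    by_contra hns
    refine not_cex (G := G) ⟨⟨fun N hN => ?_⟩, fun hc => hns (Group.isSolvable_of_comm fun a b =>
      hc.is_comm.comm a b), hsub, h⟩
    by_contra hne
    simp only [not_or] at hne
    haveI := hN
    refine hns (isSolvable_of_quotient N (hsub N hne.2) (ih (Nat.card (G ⧸ N)) ?_ (fun a b => ?_) rfl))
    · rw [← hn, card_eq_card_quotient_mul_card_subgroup N]
      exact lt_mul_of_one_lt_right Nat.card_pos
        ((one_lt_card_iff_ne_bot N).2 hne.1)
    · obtain ⟨a, rfl⟩ := QuotientGroup.mk'_surjective N a
      obtain ⟨b, rfl⟩ := QuotientGroup.mk'_surjective N b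
      haveI := h a b
      exact Group.isSolvable_of_surjective
        (f := (MulEquiv.subgroupCongr (closure_pair_map (QuotientGroup.mk' N) a b)).toMonoidHom.comp
          ((QuotientGroup.mk' N).subgroupMap (closure ({a, b} : Set G))))
        ((MulEquiv.subgroupCongr (closure_pair_map (QuotientGroup.mk' N) a b)).surjective.comp
          (MonoidHom.subgroupMap_surjective (QuotientGroup.mk' N) (closure ({a, b} : Set G))))

/-- Two involutions generate a solvable subgroup. -/
theorem isSolvable_closure_involutions {G : Type u} [Group G] [Finite G] {s t : G} (hs : s * s = 1)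
    (ht : t * t = 1) : Group.IsSolvable (closure ({s, t} : Set G)) := by
  have hsi : s⁻¹ = s := inv_eq_of_mul_eq_one_right hs
  have hti : t⁻¹ = t := inv_eq_of_mul_eq_one_right ht
  set c := s * t with hc
  have hsN : s ∈ normalizer (zpowers c : Set G) := by
    refine CfsgLib.Comp.mem_normalizer_of_maps fun x hx => ?_
    obtain ⟨i, rfl⟩ := mem_zpowers_iff.1 hx
    rw [← conj_zpow, show s * c * s⁻¹ = c⁻¹ by
      rw [hc, mul_inv_rev, hti, hsi, ← mul_assoc s s t, hs, one_mul]]
    exact zpow_mem (inv_mem (mem_zpowers c)) i
  have hle : closure ({s, t} : Set G) ≤ zpowers c ⊔ zpowers s := by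
    refine (closure_le _).2 ?_
    rintro x (rfl | rfl)
    · exact mem_sup_right (mem_zpowers _)
    · have := mul_mem (inv_mem (mem_sup_right (mem_zpowers s) : s ∈ zpowers c ⊔ zpowers s))
        (mem_sup_left (mem_zpowers c) : c ∈ zpowers c ⊔ zpowers s)
      rwa [hc, inv_mul_cancel_left] at this
  haveI := Signalizer.isSolvable_sup'
    (Group.isSolvable_of_comm fun a b : zpowers c => IsCyclic.commGroup.mul_comm a b)
    (Group.isSolvable_of_comm fun a b : zpowers s => IsCyclic.commGroup.mul_comm a b) (zpowers_le.2 hsN)
  exact Group.isSolvable_of_isSolvable_injective (f := inclusion hle) (inclusion_injective hle)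

/-- The criterion by the sets of elements forming a solvable pair with a given one. -/
theorem isSolvable_of_solvabilizer {G : Type u} [Group G] [Finite G]
    (h : ∀ x : G, ∃ H : Subgroup G, (H : Set G) = {y : G | Group.IsSolvable (closure ({x, y} : Set G))}) :
    Group.IsSolvable G := by
  induction hn : Nat.card G using Nat.strong_induction_on generalizing G with
  | _ n ih =>
    have hsub : ∀ K : Subgroup G, K ≠ ⊤ → Group.IsSolvable K := by
      intro K hK
      refine ih (Nat.card K) ?_ (fun a => ?_) rfl
      · rw [← hn]
        exact lt_of_le_of_ne (card_le_card_group K) fun e => hK (eq_top_of_card_eq K e)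
      · obtain ⟨H, hH⟩ := h (a : G)
        refine ⟨H.subgroupOf K, Set.ext fun b => ?_⟩
        have e : (closure ({a, b} : Set K)).map K.subtype = closure ({(a : G), (b : G)} : Set G) :=
          closure_pair_map K.subtype a b
        let E := ((closure ({a, b} : Set K)).equivMapOfInjective K.subtype K.subtype_injective).trans
          (MulEquiv.subgroupCongr e)
        show (b : G) ∈ (H : Set G) ↔ _
        rw [hH]
        constructor
        · intro hb
          haveI : Group.IsSolvable (closure ({(a : G), (b : G)} : Set G)) := hb
          exact Group.isSolvable_of_isSolvable_injective (f := E.toMonoidHom) E.injective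
        · intro hb
          haveI : Group.IsSolvable (closure ({a, b} : Set K)) := hb
          exact Group.isSolvable_of_isSolvable_injective (f := E.symm.toMonoidHom) E.symm.injective
    rcases subsingleton_or_nontrivial G with hG | hG
    · exact Group.isSolvable_of_comm fun a b => Subsingleton.elim _ _
    by_contra hns
    have hsimple : IsSimpleGroup G := by
      refine ⟨fun N hN => ?_⟩
      by_contra hne
      simp only [not_or] at hne
      haveI := hN
      haveI hNs := hsub N hne.2
      refine hns (isSolvable_of_quotient N hNs (ih (Nat.card (G ⧸ N)) ?_ (fun a => ?_) rfl))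
      · rw [← hn, card_eq_card_quotient_mul_card_subgroup N]
        exact lt_mul_of_one_lt_right Nat.card_pos ((one_lt_card_iff_ne_bot N).2 hne.1)
      obtain ⟨a, rfl⟩ := QuotientGroup.mk'_surjective N a
      obtain ⟨H, hH⟩ := h a
      refine ⟨H.map (QuotientGroup.mk' N), Set.ext fun b => ⟨?_, fun hb => ?_⟩⟩
      · rintro ⟨b, hb, rfl⟩
        rw [hH] at hb
        haveI : Group.IsSolvable (closure ({a, b} : Set G)) := hb
        exact Group.isSolvable_of_surjective
          (f := (MulEquiv.subgroupCongr (closure_pair_map (QuotientGroup.mk' N) a b)).toMonoidHom.comp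
            ((QuotientGroup.mk' N).subgroupMap (closure ({a, b} : Set G))))
          ((MulEquiv.subgroupCongr (closure_pair_map (QuotientGroup.mk' N) a b)).surjective.comp
          (MonoidHom.subgroupMap_surjective (QuotientGroup.mk' N) (closure ({a, b} : Set G))))
      · obtain ⟨b, rfl⟩ := QuotientGroup.mk'_surjective N b
        refine ⟨b, ?_, rfl⟩
        rw [hH]
        set K := closure ({a, b} : Set G) with hK
        set K' := closure ({QuotientGroup.mk' N a, QuotientGroup.mk' N b} : Set (G ⧸ N)) with hK'
        haveI : Group.IsSolvable K' := hb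
        let f : K →* K' := (MulEquiv.subgroupCongr (closure_pair_map (QuotientGroup.mk' N) a b)).toMonoidHom.comp
          ((QuotientGroup.mk' N).subgroupMap K)
        let g : N.subgroupOf K →* N :=
          { toFun := fun v => ⟨((v : K) : G), v.2⟩
            map_one' := rfl
            map_mul' := fun _ _ => rfl }
        haveI : Group.IsSolvable (N.subgroupOf K) :=
          Group.isSolvable_of_isSolvable_injective (f := g) fun u v e =>
            Subtype.ext (Subtype.ext (congrArg (fun w : N => (w : G)) e))
        refine Group.isSolvable_of_ker_le_range (N.subgroupOf K).subtype f fun v hv => ?_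
        refine ⟨⟨v, ?_⟩, rfl⟩
        show (v : G) ∈ N
        exact (QuotientGroup.eq_one_iff (v : G)).1 (congrArg Subtype.val (MonoidHom.mem_ker.1 hv))
    haveI := hsimple
    obtain ⟨t, ht⟩ : ∃ t : G, orderOf t = 2 := by
      refine exists_prime_orderOf_dvd_card' 2 ?_
      by_contra h2
      exact hns (Cfsg.Agent.S0205.result (G := G) (Nat.odd_iff.2 (by omega)))
    have ht2 : t * t = 1 := by rw [← pow_two, ← ht, pow_orderOf_eq_one]
    have ht1 : t ≠ 1 := fun e => by rw [e, orderOf_one] at ht; omega
    have htop : ∀ H : Subgroup G, (∀ g : G, g * t * g⁻¹ ∈ H) → H = ⊤ := by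
      intro H hH
      have hle : normalClosure ({t} : Set G) ≤ H := by
        refine (closure_le _).2 fun v hv => ?_
        obtain ⟨w, hw, hvw⟩ := Group.mem_conjugatesOfSet_iff.1 hv
        rw [Set.mem_singleton_iff] at hw
        subst hw
        obtain ⟨g, hg⟩ := isConj_iff.1 hvw
        exact hg ▸ hH g
      rcases (normalClosure_normal (s := ({t} : Set G))).eq_bot_or_eq_top with e | e
      · exact absurd (mem_bot.1 (e ▸ subset_normalClosure (Set.mem_singleton t))) ht1
      · exact eq_top_iff.2 (e ▸ hle)
    have hconj : ∀ g : G, (g * t * g⁻¹) * (g * t * g⁻¹) = 1 := fun g => by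
      rw [show g * t * g⁻¹ * (g * t * g⁻¹) = g * (t * t) * g⁻¹ by group, ht2, mul_one, mul_inv_cancel]
    have hall : ∀ (g x : G), Group.IsSolvable (closure ({x, g * t * g⁻¹} : Set G)) := by
      intro g x
      obtain ⟨H, hH⟩ := h (g * t * g⁻¹)
      have hHt : H = ⊤ := htop H fun g' => by
        show g' * t * g'⁻¹ ∈ (H : Set G)
        rw [hH]
        exact isSolvable_closure_involutions (hconj g) (hconj g')
      have : x ∈ (H : Set G) := by rw [hHt]; exact mem_top x
      rw [hH] at this
      rw [Set.pair_comm]
      exact this
    refine hns (isSolvable_of_pairs fun a b => ?_)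
    obtain ⟨H, hH⟩ := h a
    have hHt : H = ⊤ := htop H fun g => by
      show g * t * g⁻¹ ∈ (H : Set G)
      rw [hH]
      exact hall g a
    have : b ∈ (H : Set G) := by rw [hHt]; exact mem_top b
    rw [hH] at this
    exact this

/-- The converse direction. -/
theorem solvabilizer_of_isSolvable {G : Type u} [Group G] (hG : Group.IsSolvable G) (x : G) :
    ∃ H : Subgroup G, (H : Set G) = {y : G | Group.IsSolvable (closure ({x, y} : Set G))} :=
  ⟨⊤, Set.ext fun y => ⟨fun _ => (inferInstance : Group.IsSolvable (closure ({x, y} : Set G))),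
    fun _ => mem_top y⟩⟩

end CfsgLib.PairSol
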