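import Cfsg.Agent.Lib.PairSol.Pairs
import Cfsg.Agent.Lib.PairSol.RankThree
import Cfsg.Agent.S1946

/-!
The signalizers act transitively on the Sylow subgroups through an element; the size of the set of products.
-/

set_option autoImplicit false
set_option linter.unusedSectionVars false
set_option linter.style.haveILetI false

namespace CfsgLib.PairSol

open Cfsg Subgroup
open scoped Pointwise commutatorElement

universe u

variable {G : Type u} [Group G] [Finite G] {p : ℕ} [Fact p.Prime]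

theorem mem_smul_sylow (g : G) (Q : Sylow p G) (a : G) :
    a ∈ ((g • Q : Sylow p G) : Subgroup G) ↔ g⁻¹ * a * g ∈ (Q : Subgroup G) := by
  rw [Sylow.coe_subgroup_smul, mem_pointwise_smul_iff_inv_smul_mem]
  show (MulAut.conj g)⁻¹ a ∈ _ ↔ _
  rw [MulAut.inv_apply, MulAut.conj_symm_apply]

theorem smul_eq_iff_mem (g : G) (P : Sylow p G) :
    g • P = P ↔ g ∈ normalizer ((P : Subgroup G) : Set G) := Sylow.smul_eq_iff_mem_normalizer

theorem centralizer_le_normalizer_set (D : Subgroup G) : centralizer (D : Set G) ≤ normalizer (D : Set G) :=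
  fun _ hg => centralizer_le_normalizer _ hg

/-- `O_{p'}(N(D))` centralises `D`. -/
theorem coreIn_normalizer_le_centralizer {D : Subgroup G} (hD : IsPGroup p D) :
    coreIn p (normalizer (D : Set G)) ≤ centralizer (D : Set G) := by
  intro o ho d hd
  set O := coreIn p (normalizer (D : Set G)) with hO
  have h1 : o * d * o⁻¹ * d⁻¹ ∈ O := by
    have h2 := (mem_normalizer_iff.1 (le_normalizer_coreIn (p := p) _ (le_normalizer hd)) o⁻¹).1 (inv_mem ho)
    simpa [mul_assoc] using O.mul_mem ho h2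
  have h2 : o * d * o⁻¹ * d⁻¹ ∈ D :=
    D.mul_mem ((mem_normalizer_iff.1 (coreIn_le _ ho) d).1 hd) (D.inv_mem hd)
  have h3 := disjoint_def.1 (disjoint_of_coprime_natCard
    (pGroup_coprime hD (card_coreIn (p := p) (normalizer (D : Set G))))) h2 h1
  exact (mul_inv_eq_iff_eq_mul.1 (mul_inv_eq_one.1 h3)).symm

/-- `O_{p'}(N(D))` lies in the signalizer of every nontrivial element of `D`. -/
theorem coreIn_normalizer_le_theta (h : Cex G) {D : Subgroup G} (hD : IsPGroup p D) {z : G} (hz : z ∈ D)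
    (hz1 : z ≠ 1) : coreIn p (normalizer (D : Set G)) ≤ centralizerPPrimeCore p z := by
  have hne : D ≠ ⊥ := fun e => hz1 (mem_bot.1 (e ▸ hz))
  haveI := hD.isNilpotent
  haveI : Nontrivial D := (nontrivial_iff_ne_bot D).2 hne
  haveI : Nontrivial (center D) := hD.center_nontrivial
  obtain ⟨⟨c, hc⟩, hc1⟩ := exists_ne (1 : center D)
  have hy1 : (c : G) ≠ 1 := fun e => hc1 (Subtype.ext (Subtype.ext e))
  have hyD : ∀ d ∈ D, d * (c : G) = c * d := fun d hd =>
    congrArg Subtype.val (mem_center_iff.1 hc ⟨d, hd⟩)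
  intro o ho
  have hoD := coreIn_normalizer_le_centralizer hD ho
  have hoy : o ∈ centralizerPPrimeCore p (c : G) := by
    rw [← coreIn_centralizer]
    refine core_balance (sol_centralizer h hy1) (fun d hd => mem_centralizer_singleton_iff.2 (hyD d hd)) hD
      (card_coreIn (p := p) (normalizer (D : Set G))) ?_ ?_ ho
    · exact le_inf (fun b hb => mem_centralizer_singleton_iff.2
        ((coreIn_normalizer_le_centralizer hD hb (c : G) c.2).symm)) (coreIn_normalizer_le_centralizer hD)
    · exact inf_le_right.trans ((centralizer_le_normalizer_set D).trans (le_normalizer_coreIn _))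
  exact balance h (isPel_of_mem hD c.2) hz1 (hyD z hz).symm hoy (hoD z hz).symm

/-- Transitivity. -/
theorem exists_theta_smul (h : Cex G) (hp : 5 ≤ p) (hrk : PRankLE p 2 G) {z : G} (hz1 : z ≠ 1)
    (Q₁ Q₂ : Sylow p G) (h₁ : z ∈ (Q₁ : Subgroup G)) (h₂ : z ∈ (Q₂ : Subgroup G)) :
    ∃ a ∈ centralizerPPrimeCore p z, a • Q₁ = Q₂ := by
  induction hn : Nat.card G - Nat.card ↥((Q₁ : Subgroup G) ⊓ Q₂) using Nat.strong_induction_on
    generalizing Q₁ Q₂ with
  | _ n ih =>
    set D := (Q₁ : Subgroup G) ⊓ Q₂ with hD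
    by_cases hD1 : D = (Q₁ : Subgroup G)
    · exact ⟨1, one_mem _, (one_smul G Q₁).trans (Sylow.ext (Q₁.is_maximal' Q₂.2 (hD1.ge.trans inf_le_right)).symm)⟩
    have hlt1 : D < (Q₁ : Subgroup G) := lt_of_le_of_ne inf_le_left hD1
    have hlt2 : D < (Q₂ : Subgroup G) := lt_of_le_of_ne inf_le_right fun e =>
      hD1 (le_antisymm inf_le_left (le_inf le_rfl (Q₂.is_maximal' Q₁.2 (e.ge.trans inf_le_left)).le))
    have hDp : IsPGroup p D := Q₁.2.to_le inf_le_left
    have hDne : D ≠ ⊥ := fun e => hz1 (mem_bot.1 (e ▸ (⟨h₁, h₂⟩ : z ∈ D)))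
    set H := normalizer (D : Set G) with hH
    have hHtop : H ≠ ⊤ := normalizer_ne_top h hDp hDne
    haveI := h.sol H hHtop
    have hg1 := normalizer_grows Q₁.2 hlt1
    have hg2 := normalizer_grows Q₂.2 hlt2
    obtain ⟨R₁, hR₁⟩ := exists_max_pGroup (H := H) (Q₁.2.to_le inf_le_left)
      (inf_le_right : (Q₁ : Subgroup G) ⊓ H ≤ H)
    obtain ⟨R₂, hR₂⟩ := exists_max_pGroup (H := H) (Q₂.2.to_le inf_le_left)
      (inf_le_right : (Q₂ : Subgroup G) ⊓ H ≤ H)
    obtain ⟨m, hm⟩ := MulAction.exists_smul_eq H R₁ R₂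
    -- write `m = o r`
    obtain ⟨o, ho, hR⟩ : ∃ o ∈ coreIn p H,
        ∀ a ∈ (R₂ : Subgroup H).map H.subtype, o⁻¹ * a * o ∈ (R₁ : Subgroup H).map H.subtype := by
      obtain ⟨o, ho, n, hn, hmn⟩ := core_frattini R₁ m
      have hRpp : (R₁ : Subgroup H) ≤ pPrimePCore p H := fun r hr => by
        obtain ⟨i, hi⟩ := R₁.2 ⟨r, hr⟩
        have := mem_ppIn_of_rank (h.sol H hHtop) hp hrk r.2
          ⟨i, congrArg (fun v : (R₁ : Subgroup H) => ((v : H) : G)) hi⟩
        obtain ⟨_, h'⟩ := mem_ppIn.1 this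
        exact h'
      rw [inf_eq_left.2 hRpp] at hn
      refine ⟨o, ⟨o, ho, rfl⟩, ?_⟩
      rintro _ ⟨a, ha, rfl⟩
      rw [← hm] at ha
      change a ∈ ((m • R₁ : Sylow p H) : Subgroup H) at ha
      rw [mem_smul_sylow] at ha
      refine ⟨o⁻¹ * a * o, ?_, rfl⟩
      have h3 := (mem_normalizer_iff.1 hn _).1 ha
      rw [hmn] at h3
      rwa [show n * ((o * n)⁻¹ * a * (o * n)) * n⁻¹ = o⁻¹ * a * o by group] at h3
    have hoD : ∀ d ∈ D, d * o = o * d := coreIn_normalizer_le_centralizer hDp ho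
    obtain ⟨Q₃, hQ₃⟩ := (R₁.2.map H.subtype).exists_le_sylow
    set Q₄ := o • Q₃ with hQ₄
    have hR₂Q₄ : (R₂ : Subgroup H).map H.subtype ≤ (Q₄ : Subgroup G) := fun a ha => by
      rw [hQ₄, mem_smul_sylow]; exact hQ₃ (hR a ha)
    have hzD : z ∈ D := ⟨h₁, h₂⟩
    have hz3 : z ∈ (Q₃ : Subgroup G) := hQ₃ (hR₁ (mem_inf.2 ⟨h₁, le_normalizer hzD⟩))
    have hz4 : z ∈ (Q₄ : Subgroup G) := hR₂Q₄ (hR₂ (mem_inf.2 ⟨h₂, le_normalizer hzD⟩))
    have hstep : ∀ (A B : Subgroup G), D < A → A ≤ B → Nat.card G - Nat.card B < n := by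
      intro A B hA hAB
      have h1 : Nat.card D < Nat.card A :=
        lt_of_le_of_ne (card_le_of_le hA.le) fun e => hA.ne (eq_of_le_of_card_ge hA.le e.ge)
      have h2 := card_le_of_le hAB
      have h3 := card_le_card_group B
      omega
    obtain ⟨a, ha, ha'⟩ := ih _ (hstep _ _ hg1 (le_inf inf_le_left (hR₁.trans hQ₃))) Q₁ Q₃ h₁ hz3 rfl
    obtain ⟨b, hb, hb'⟩ := ih _ (hstep _ _ hg2 (le_inf (hR₂.trans hR₂Q₄) inf_le_left)) Q₄ Q₂ hz4 h₂ rfl
    refine ⟨b * o * a, mul_mem (mul_mem hb (coreIn_normalizer_le_theta h hDp hzD hz1 ho)) ha, ?_⟩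
    rw [mul_smul, mul_smul, ha', hb']

/-- The stabiliser of a Sylow subgroup in the signalizer. -/
theorem theta_inf_normalizer (h : Cex G) {z : G} (hz1 : z ≠ 1) (Q : Sylow p G) (hz : z ∈ (Q : Subgroup G)) :
    centralizerPPrimeCore p z ⊓ normalizer ((Q : Subgroup G) : Set G) =
      coreIn p (normalizer ((Q : Subgroup G) : Set G)) := by
  refine le_antisymm ?_ (le_inf (coreIn_normalizer_le_theta h Q.2 hz hz1) (coreIn_le _))
  set L := centralizerPPrimeCore p z ⊓ normalizer ((Q : Subgroup G) : Set G) with hL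
  have hLc : (Nat.card L).Coprime p :=
    (card_coreIn (p := p) (centralizer ({z} : Set G))).coprime_dvd_left (card_dvd_of_le inf_le_left)
  set P₀ := (Q : Subgroup G) ⊓ centralizer ({z} : Set G) with hP₀
  have hP₀L : P₀ ≤ centralizer (L : Set G) := by
    rintro v ⟨hvQ, hvz⟩ l ⟨hlθ, hlN⟩
    have h1 : l * v * l⁻¹ * v⁻¹ ∈ (Q : Subgroup G) := mul_mem ((mem_normalizer_iff.1 hlN v).1 hvQ) (inv_mem hvQ)
    have h2 : l * v * l⁻¹ * v⁻¹ ∈ centralizerPPrimeCore p z := by
      have h3 := (mem_normalizer_iff.1 (le_normalizer_coreIn (p := p) (centralizer ({z} : Set G)) hvz) l⁻¹).1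
        (inv_mem hlθ)
      rw [coreIn_centralizer] at h3
      simpa [mul_assoc] using mul_mem hlθ h3
    have h4 := disjoint_def.1 (disjoint_of_coprime_natCard (pGroup_coprime Q.2
      (card_coreIn (p := p) (centralizer ({z} : Set G))))) h1 h2
    exact mul_inv_eq_iff_eq_mul.1 (mul_inv_eq_one.1 h4)
  have hcent : L ≤ centralizer ((Q : Subgroup G) : Set G) := by
    refine CfsgLib.thompson_PxQ (Q.2.to_le inf_le_left) hLc hP₀L (Q : Subgroup G) Q.2
      (inf_le_left.trans le_normalizer) inf_le_right ?_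
    rintro v ⟨hvQ, hvP⟩
    exact hP₀L (mem_inf.2 ⟨hvQ, mem_centralizer_singleton_iff.2
      (hvP z (mem_inf.2 ⟨hz, mem_centralizer_singleton_iff.2 rfl⟩)).symm⟩)
  intro l hl
  haveI := h.sol _ (normalizer_ne_top h Q.2 fun e => hz1 (mem_bot.1 (e ▸ hz)))
  refine mem_coreIn.2 ⟨(mem_inf.1 hl).2, mem_core_of_centralizes (Q.subtype le_normalizer)
    (fun v hv => Subtype.ext ?_) (by rw [orderOf_mk]; exact orderOf_coprime_of_mem hLc hl)⟩
  rw [Sylow.coe_subtype] at hv
  exact hcent hl (v : G) hv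

theorem card_coreIn_normalizer_eq (P Q : Sylow p G) :
    Nat.card (coreIn p (normalizer ((Q : Subgroup G) : Set G))) =
      Nat.card (coreIn p (normalizer ((P : Subgroup G) : Set G))) := by
  obtain ⟨g, rfl⟩ := MulAction.exists_smul_eq G P Q
  rw [coreIn, coreIn, card_map_of_injective (subtype_injective _), card_map_of_injective (subtype_injective _)]
  have he : normalizer (((g • P : Sylow p G) : Subgroup G) : Set G) =
      (normalizer ((P : Subgroup G) : Set G)).map (MulAut.conj g).toMonoidHom := by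
    ext a
    rw [mem_map_equiv, ← smul_eq_iff_mem, ← smul_eq_iff_mem,
      MulAut.conj_symm_apply, mul_smul, mul_smul, inv_smul_eq_iff]
  let e := ((normalizer ((P : Subgroup G) : Set G)).equivMapOfInjective (MulAut.conj g).toMonoidHom
    (MulAut.conj g).injective).trans (MulEquiv.subgroupCongr he.symm)
  rw [← CfsgLib.pPrimeCore_map_equiv p e, card_map_of_injective e.injective]

open Classical in
/-- The size of the set of products. -/
theorem card_inF_mul (h : Cex G) (hp : 5 ≤ p) (hrk : PRankLE p 2 G) (P : Sylow p G) :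
    Nat.card {g : G // InF p g} = Nat.card (coreIn p (normalizer ((P : Subgroup G) : Set G))) *
      (Nat.card (Sylow p G) * (Nat.card P - 1)) := by
  letI := Fintype.ofFinite G
  letI := Fintype.ofFinite (Sylow p G)
  set c := Nat.card (coreIn p (normalizer ((P : Subgroup G) : Set G))) with hc
  let Z := {z : G // z ≠ 1 ∧ ∃ i, z ^ p ^ i = 1}
  letI : Fintype Z := Fintype.ofFinite _
  -- unique decomposition
  let f : (Σ z : Z, centralizerPPrimeCore p (z : G)) → {g : G // InF p g} := fun v =>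
    ⟨(v.1 : G) * v.2, v.1, v.2, v.1.2.1, v.1.2.2, v.2.2, rfl⟩
  have hf : Function.Bijective f := by
    refine ⟨?_, fun ⟨g, z, k, h1, h2, h3, e⟩ => ⟨⟨⟨z, h1, h2⟩, ⟨k, h3⟩⟩, Subtype.ext e.symm⟩⟩
    rintro ⟨⟨z, hz1, hz⟩, ⟨k, hk⟩⟩ ⟨⟨z', hz'1, hz'⟩, ⟨k', hk'⟩⟩ e
    have e' : z * k = z' * k' := congrArg Subtype.val e
    obtain ⟨rfl, rfl⟩ := CfsgLib.Blocks.pPart_unique (Fact.out : p.Prime)
      (show Commute z k from (mem_centralizerPPrimeCore_le z hk).symm)
      (show Commute z' k' from (mem_centralizerPPrimeCore_le z' hk').symm)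
      (exists_orderOf_of_pel hz) (exists_orderOf_of_pel hz') (not_dvd_orderOf_of_theta hk)
      (not_dvd_orderOf_of_theta hk') e'
    rfl
  rw [← Nat.card_eq_of_bijective f hf, Nat.card_sigma]
  have hθ : ∀ z : Z, Nat.card (centralizerPPrimeCore p (z : G)) =
      Nat.card {Q : Sylow p G // (z : G) ∈ (Q : Subgroup G)} * c := by
    intro z
    obtain ⟨z, hz1, hz⟩ := z
    obtain ⟨Q, hQ⟩ := (isPGroup_zpowers hz).exists_le_sylow
    have hzQ : z ∈ (Q : Subgroup G) := hQ (mem_zpowers z)
    set A := centralizerPPrimeCore p z with hA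
    have horb : MulAction.orbit A Q = {R : Sylow p G | z ∈ (R : Subgroup G)} := by
      ext R
      constructor
      · rintro ⟨a, rfl⟩
        show z ∈ (((a : G) • Q : Sylow p G) : Subgroup G)
        rw [mem_smul_sylow]
        rwa [mul_assoc, ← mem_centralizerPPrimeCore_le z a.2, inv_mul_cancel_left]
      · intro hR
        obtain ⟨a, ha, e⟩ := exists_theta_smul h hp hrk hz1 Q R hzQ hR
        exact ⟨⟨a, ha⟩, e⟩
    have hstab : Nat.card (MulAction.stabilizer A Q) = c := by
      rw [hc, ← card_coreIn_normalizer_eq P Q, ← theta_inf_normalizer h hz1 Q hzQ]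
      rw [show MulAction.stabilizer A Q = (normalizer ((Q : Subgroup G) : Set G)).subgroupOf A from ?_]
      · rw [← card_map_of_injective A.subtype_injective, subgroupOf_map_subtype, inf_comm]
      · ext a
        rw [MulAction.mem_stabilizer_iff, mem_subgroupOf, ← smul_eq_iff_mem]
        rfl
    rw [← hstab, ← Nat.card_congr (MulAction.orbitProdStabilizerEquivGroup A Q), Nat.card_prod,
      Nat.card_congr (Equiv.setCongr horb)]
    rfl
  rw [Finset.sum_congr rfl fun z _ => hθ z, ← Finset.sum_mul, mul_comm]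
  congr 1
  rw [← Nat.card_sigma]
  let w : (Σ z : Z, {Q : Sylow p G // (z : G) ∈ (Q : Subgroup G)}) ≃
      (Σ Q : Sylow p G, {a : (Q : Subgroup G) // a ≠ 1}) :=
    { toFun := fun v => ⟨v.2.1, ⟨⟨v.1.1, v.2.2⟩, fun e => v.1.2.1 (congrArg Subtype.val e)⟩⟩
      invFun := fun v => ⟨⟨v.2.1.1, fun e => v.2.2 (Subtype.ext e), isPel_of_mem v.1.2 v.2.1.2⟩,
        ⟨v.1, v.2.1.2⟩⟩
      left_inv := fun v => rfl
      right_inv := fun v => rfl }
  rw [Nat.card_congr w, Nat.card_sigma, Finset.sum_congr rfl (g := fun _ => Nat.card P - 1) fun Q _ => ?_,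
    Finset.sum_const, Finset.card_univ, ← Nat.card_eq_fintype_card, smul_eq_mul]
  have h1 : Nat.card {a : (Q : Subgroup G) // a ≠ 1} = Nat.card (Q : Subgroup G) - 1 := by
    letI := Fintype.ofFinite (Q : Subgroup G)
    rw [Nat.card_eq_fintype_card, Nat.card_eq_fintype_card,
      Fintype.card_subtype_compl, Fintype.card_subtype_eq]
  rw [h1, Q.card_eq_multiplicity]
  congr 1
  exact P.card_eq_multiplicity.symm

/-- The automorphism bound. -/
theorem card_mulAut_dvd_rank_two {V : Type u} [Group V] [Finite V] (hc : ∀ a b : V, a * b = b * a)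
    (he : ∀ a : V, a ^ p = 1) (hV : Nat.card V ≤ p ^ 2) :
    Nat.card (MulAut V) ∣ p * ((p - 1) ^ 2 * (p + 1)) := by
  classical
  have hp : p.Prime := Fact.out
  letI : CommGroup V := { (inferInstance : Group V) with mul_comm := hc }
  have hn : ∀ x : Additive V, p • x = 0 := fun x => by
    show Additive.ofMul ((Additive.toMul x) ^ p) = 0
    rw [he]; rfl
  letI : Module (ZMod p) (Additive V) := AddCommGroup.zmodModule (n := p) hn
  haveI : Module.Finite (ZMod p) (Additive V) := Module.Finite.of_finite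
  let b := Module.finBasis (ZMod p) (Additive V)
  set e := Module.finrank (ZMod p) (Additive V) with hedef
  have he2 : e ≤ 2 := by
    have h := Nat.card_congr b.equivFun.toEquiv
    rw [Nat.card_fun, Nat.card_zmod, Nat.card_fin, ← Nat.card_congr Additive.ofMul] at h
    exact (Nat.pow_le_pow_iff_right hp.one_lt).1 (h ▸ hV)
  let l : MulAut V →* (Additive V →ₗ[ZMod p] Additive V)ˣ :=
    MonoidHom.toHomUnits
      { toFun := fun φ => (MonoidHom.toAdditive (φ : V ≃* V).toMonoidHom).toZModLinearMap p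
        map_one' := LinearMap.ext fun _ => rfl
        map_mul' := fun _ _ => LinearMap.ext fun _ => rfl }
  have hl : Function.Injective l := fun φ ψ h => MulEquiv.ext fun x =>
    congrArg Additive.toMul (LinearMap.congr_fun (congrArg Units.val h) (Additive.ofMul x) :)
  let m : MulAut V →* GL (Fin e) (ZMod p) :=
    (Units.map (LinearMap.toMatrixAlgEquiv b).toMulEquiv.toMonoidHom).comp l
  have hm : Function.Injective m := fun φ ψ h =>
    hl (Units.ext ((LinearMap.toMatrixAlgEquiv b).injective (congrArg Units.val h)))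
  refine (card_dvd_of_injective m hm).trans ?_
  rw [Matrix.card_GL_field, ZMod.card]
  obtain ⟨a, ha⟩ : ∃ a, p = a + 2 := ⟨p - 2, by have := hp.two_le; omega⟩
  interval_cases e
  · simp
  · simp only [Fin.prod_univ_one, Fin.val_zero, pow_zero, pow_one]
    exact ⟨p * ((p - 1) * (p + 1)), by ring⟩
  · have h1 : p ^ 2 - 1 = (p + 1) * (p - 1) := by
      have := Nat.sq_sub_sq p 1
      rwa [one_pow] at this
    have h2 : p ^ 2 - p ^ 1 = p * (p - 1) := by rw [Nat.mul_sub, mul_one, sq, pow_one]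
    simp only [Fin.prod_univ_two, Fin.val_zero, Fin.val_one, pow_zero, h1, h2]
    exact dvd_of_eq (by ring)

/-- The index bound: `|N(P)| = |P| |O_{p'}(N(P))| h` with `h ≠ 1` and `h ∣ (p-1)²(p+1)`. -/
theorem exists_index_bound (h : Cex G) (hp : 5 ≤ p) (hrk : PRankLE p 2 G) (P : Sylow p G)
    (hdvd : p ∣ Nat.card G) :
    ∃ h' : ℕ, 2 ≤ h' ∧ h' ∣ (p - 1) ^ 2 * (p + 1) ∧
      Nat.card (normalizer ((P : Subgroup G) : Set G)) =
        Nat.card P * Nat.card (coreIn p (normalizer ((P : Subgroup G) : Set G))) * h' := by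
  classical
  have hp' : p.Prime := Fact.out
  have hPne : (P : Subgroup G) ≠ ⊥ := P.ne_bot_of_dvd_card hdvd
  set N := normalizer ((P : Subgroup G) : Set G) with hN
  have hNtop : N ≠ ⊤ := normalizer_ne_top h P.2 hPne
  haveI := h.sol N hNtop
  let S : Sylow p N := P.subtype le_normalizer
  have hS : (S : Subgroup N) = (P : Subgroup G).subgroupOf N := Sylow.coe_subtype P le_normalizer
  have hSc : Nat.card (S : Subgroup N) = Nat.card P := by
    rw [hS]; exact Nat.card_congr (subgroupOfEquivOfLe le_normalizer).toEquiv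
  haveI hSn : (S : Subgroup N).Normal := by
    rw [hS]; exact (normal_subgroupOf_iff_le_normalizer le_normalizer).2 le_rfl
  obtain ⟨L, hL⟩ := exists_right_complement'_of_coprime (N := (S : Subgroup N)) S.card_coprime_index
  have hLc : Nat.card (S : Subgroup N) * Nat.card L = Nat.card N := hL.card_mul
  set c := Nat.card (pPrimeCore p N) with hc
  have hcc : Nat.card (coreIn p N) = c := card_map_of_injective N.subtype_injective
  have hLp : (Nat.card L).Coprime p := by
    rw [← hL.symm.index_eq_card]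
    exact (hp'.coprime_iff_not_dvd.2 S.not_dvd_index).symm
  letI := Fintype.ofFinite N
  -- `O_{p'}(N) ≤ L`
  have hcL : pPrimeCore p N ≤ L := by
    intro o ho
    obtain ⟨⟨⟨s, hs⟩, ⟨l, hl⟩⟩, hsl⟩ := hL.existsUnique o |>.exists
    change s * l = o at hsl
    have hls : ∀ l' : N, l' ∈ pPrimeCore p N → l' ∈ centralizer ((S : Subgroup N) : Set N) := by
      intro l' hl' v hv
      have h1 : l' * v * l'⁻¹ * v⁻¹ ∈ (S : Subgroup N) :=
        mul_mem (hSn.conj_mem v hv l') (inv_mem hv)
      have h2 : l' * v * l'⁻¹ * v⁻¹ ∈ pPrimeCore p N := by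
        have := mul_mem hl' ((inferInstance : (pPrimeCore p N).Normal).conj_mem _ (inv_mem hl') v)
        simpa [mul_assoc] using this
      have h3 := disjoint_def.1 (disjoint_of_coprime_natCard
        (pGroup_coprime S.2 (CfsgLib.card_pPrimeCore_coprime p))) h1 h2
      exact (mul_inv_eq_iff_eq_mul.1 (mul_inv_eq_one.1 h3)).symm
    have hlo : (orderOf o).Coprime p :=
      orderOf_coprime_of_mem (CfsgLib.card_pPrimeCore_coprime p) ho
    have hcomm : Commute s l := by
      have h1 : s * o = o * s := hls o ho s hs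
      rw [← hsl, ← mul_assoc] at h1
      have h2 : s * (l * s) = s * (s * l) := by rw [← mul_assoc s l s, ← h1, mul_assoc]
      exact (mul_left_cancel h2).symm
    have h4 : s = 1 ∧ l = o := by
      obtain ⟨i, hi⟩ := IsPGroup.iff_orderOf.1 S.2 ⟨s, hs⟩
      refine CfsgLib.Blocks.pPart_unique hp' hcomm (Commute.one_left o) ⟨i, (Subgroup.orderOf_mk s hs).symm.trans hi⟩
        ⟨0, by simp⟩ (hp'.coprime_iff_not_dvd.1 (orderOf_coprime_of_mem hLp hl).symm)
        (hp'.coprime_iff_not_dvd.1 hlo.symm) (by rw [one_mul, hsl])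
    exact h4.2 ▸ hl
  obtain ⟨h', hh'⟩ : c ∣ Nat.card L := card_dvd_of_le hcL
  refine ⟨h', ?_, ?_, by rw [hcc, ← hLc, hSc, hh', mul_assoc]⟩
  · by_contra h2
    have h1 : h' = 1 := by
      rcases h' with _ | _ | n
      · rw [mul_zero] at hh'; exact absurd hh' Nat.card_pos.ne'
      · rfl
      · omega
    subst h1
    rw [mul_one] at hh'
    have hLeq : pPrimeCore p N = L := eq_of_le_of_card_ge hcL hh'.le
    haveI := h.simple
    have hcomp : HasNormalPComplement p G := by
      refine (Cfsg.Agent.S1946.result P).2 fun a ha _ g hga => ?_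
      by_cases ha1 : a = 1
      · exact ⟨1, one_mem _, by rw [ha1]; simp⟩
      obtain ⟨k, hk, hkP⟩ := exists_theta_smul h hp hrk ha1 P (g⁻¹ • P) ha (by
        rw [mem_smul_sylow, inv_inv]; exact hga)
      have hgk : g * k ∈ N := by
        rw [hN, ← smul_eq_iff_mem, mul_smul, hkP, smul_inv_smul]
      obtain ⟨⟨⟨s, hs⟩, ⟨l, hl⟩⟩, hsl⟩ := hL.existsUnique (⟨g * k, hgk⟩ : N) |>.exists
      change s * l = _ at hsl
      have hlc : (l : G) * a = a * l :=
        (coreIn_normalizer_le_centralizer P.2 (show (l : G) ∈ coreIn p N from ⟨l, hLeq ▸ hl, rfl⟩) a ha).symm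
      refine ⟨(s : G), ?_, ?_⟩
      · rw [hS] at hs; exact hs
      have hka : k * a = a * k := mem_centralizerPPrimeCore_le a hk
      have hgk' : g = (s : G) * l * k⁻¹ := by
        have : (s : G) * l = g * k := congrArg Subtype.val hsl
        rw [this]; group
      rw [hgk']
      calc (s : G) * l * k⁻¹ * a * ((s : G) * l * k⁻¹)⁻¹
          = (s : G) * (l * (k⁻¹ * (a * k)) * (l : G)⁻¹) * (s : G)⁻¹ := by group
        _ = (s : G) * a * (s : G)⁻¹ := by
            rw [← hka, inv_mul_cancel_left, hlc, mul_inv_cancel_right]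
    obtain ⟨R, K, hK, hKR⟩ := hcomp
    rcases hK.eq_bot_or_eq_top with e | e
    · subst e
      have hRtop : (R : Subgroup G) = ⊤ := isComplement'_bot_left.1 hKR
      exact normalizer_ne_top h R.2 (R.ne_bot_of_dvd_card hdvd) (by rw [hRtop, normalizer_eq_top_iff]; infer_instance)
    · subst e
      exact R.ne_bot_of_dvd_card hdvd (isComplement'_top_left.1 hKR)
  · have hrkS : PRankLE p 2 ↥(S : Subgroup N) := fun A hAc hAe => by
      rw [← card_map_of_injective (S : Subgroup N).subtype_injective,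
        ← card_map_of_injective N.subtype_injective, map_map]
      refine hrk _ (haveI := hAc; inferInstance) ?_
      rintro _ ⟨a, ha, rfl⟩
      rw [← map_pow, hAe a ha, map_one]
    obtain ⟨D₀, hch, hexp, -, hcard, hdet⟩ := exists_detect (by omega) S.2 hrkS
    haveI := hch
    set D := D₀.map (S : Subgroup N).subtype with hD
    haveI : D.Normal := ConjAct.normal_of_characteristic_of_normal
    set W := ⁅D, D⁆ with hW
    set ρ := QuotientGroup.mk' W with hρ
    set V := D.map ρ with hV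
    haveI : V.Normal := Subgroup.Normal.map inferInstance _ (QuotientGroup.mk'_surjective W)
    have hVc : Nat.card V ≤ p ^ 2 := by
      have h2 := Subgroup.relIndex_mul_relIndex ⊥ W D bot_le (commutator_le_self D)
      rw [relIndex_bot_left, relIndex_bot_left] at h2
      have h4 := Subgroup.relIndex_ker (f := ρ) (K := D)
      rw [QuotientGroup.ker_mk'] at h4
      have h5 : Nat.card W = Nat.card (⁅D₀, D₀⁆ : Subgroup (S : Subgroup N)) := by
        rw [hW, hD, ← map_commutator, card_map_of_injective (S : Subgroup N).subtype_injective]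
      have h6 : Nat.card D = Nat.card D₀ := card_map_of_injective (S : Subgroup N).subtype_injective
      refine Nat.le_of_mul_le_mul_right ?_ (Nat.card_pos (α := W))
      rw [hV, ← h4, mul_comm, h2, h6, h5]
      exact hcard
    let f : L →* MulAut V := (MulAut.conjNormal.comp ρ).comp L.subtype
    have hker : (f.ker).map L.subtype ≤ pPrimeCore p N := by
      rintro _ ⟨l, hl, rfl⟩
      have hlo : (orderOf (l : N)).Coprime p := orderOf_coprime_of_mem hLp l.2
      refine mem_core_of_centralizes S (mem_centralizer_of_detect S.2 hdet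
        (by rw [normalizer_eq_top]; trivial) hlo fun d hd => ?_) hlo
      refine (QuotientGroup.eq_one_iff (N := W) _).1 ?_
      have h1 := congrArg Subtype.val (DFunLike.congr_fun hl ⟨ρ d, d, hd, rfl⟩)
      simp only [f, MonoidHom.comp_apply, MulAut.conjNormal_apply, MulAut.one_apply] at h1
      show ρ _ = 1
      rw [map_mul, map_mul, map_mul, map_inv, map_inv]
      exact inv_mul_eq_one.2 h1.symm
    have h1 : Nat.card f.ker * Nat.card f.range = Nat.card L := by
      rw [← index_ker, card_mul_index]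
    have hVcomm : ∀ a b : V, a * b = b * a := by
      rintro ⟨_, a, ha, rfl⟩ ⟨_, b, hb, rfl⟩
      refine Subtype.ext ?_
      show ρ a * ρ b = ρ b * ρ a
      rw [← commutatorElement_eq_one_iff_mul_comm, ← map_commutatorElement]
      exact (QuotientGroup.eq_one_iff _).2 (commutator_mem_commutator ha hb)
    have hVexp : ∀ a : V, a ^ p = 1 := by
      rintro ⟨_, a, ha, rfl⟩
      obtain ⟨a, ha, rfl⟩ := ha
      refine Subtype.ext ?_
      show ρ _ ^ p = 1
      rw [← map_pow, ← map_pow, hexp a ha, map_one, map_one]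
    have h2 : Nat.card L ∣ c * (p * ((p - 1) ^ 2 * (p + 1))) := by
      rw [← h1]
      refine mul_dvd_mul ?_ ((card_subgroup_dvd_card f.range).trans (card_mulAut_dvd_rank_two hVcomm hVexp hVc))
      rw [← card_map_of_injective L.subtype_injective]
      exact card_dvd_of_le hker
    rw [hh'] at h2
    have h3 : h' ∣ p * ((p - 1) ^ 2 * (p + 1)) := Nat.dvd_of_mul_dvd_mul_left Nat.card_pos h2
    exact (hLp.coprime_dvd_left ⟨c, by rw [hh', mul_comm]⟩).dvd_of_dvd_mul_left h3

/-- The two facts together. -/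
theorem exists_card_inF (h : Cex G) (hp : 5 ≤ p) (hrk : PRankLE p 2 G) (hdvd : p ∣ Nat.card G) :
    ∃ q h' : ℕ, 5 ≤ q ∧ 2 ≤ h' ∧ h' ∣ (p - 1) ^ 2 * (p + 1) ∧
      Nat.card {g : G // InF p g} * (q * h') = Nat.card G * (q - 1) := by
  classical
  let P : Sylow p G := default
  obtain ⟨h', h2, hd, hN⟩ := exists_index_bound h hp hrk P hdvd
  refine ⟨Nat.card P, h', ?_, h2, hd, ?_⟩
  · exact hp.trans (Nat.le_of_dvd Nat.card_pos (P.dvd_card_of_dvd_card hdvd))
  rw [card_inF_mul h hp hrk P]
  have h1 : Nat.card (Sylow p G) * Nat.card (normalizer ((P : Subgroup G) : Set G)) = Nat.card G := by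
    rw [P.card_eq_index_normalizer]
    exact index_mul_card (normalizer ((P : Subgroup G) : Set G))
  rw [← h1, hN]
  ring

end CfsgLib.PairSol
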