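import Cfsg.Agent.Lib.PairSol.Eigen
import Cfsg.Agent.Lib.PairSol.SylowData

/-!
The character count: `p`-rank two is impossible.
-/

set_option autoImplicit false
set_option linter.unusedSectionVars false
set_option linter.style.haveILetI false

namespace CfsgLib.PairSol

open Cfsg CfsgLib.CharTheory CfsgLib.Blocks
open scoped ComplexConjugate

universe u v

variable {G : Type u} [Group G] {p : ℕ} [Fact p.Prime]

/-- The trivial multiplicity can only grow on restriction. -/
theorem avg_mono {L : Type u} {L' : Type v} [Group L] [Group L'] [Fintype L] [Fintype L'] (j : L' →* L)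
    {χ : L → ℂ} (hχ : IsCharacter L χ) {m m' : ℕ}
    (hm : ∑ g : L, χ g = (Nat.card L : ℂ) * m) (hm' : ∑ g : L', χ (j g) = (Nat.card L' : ℂ) * m') : m ≤ m' := by
  classical
  choose n hn using fun θ : IrrCharacter L => classInner_char_nat hχ (isCharacter_of_irr θ.2)
  choose r hr using fun θ : IrrCharacter L =>
    classInner_char_nat (isCharacter_comp (isCharacter_of_irr θ.2) j) (isCharacter_one (G := L'))
  have hdec : ∀ g : L, χ g = ∑ θ : IrrCharacter L, (n θ : ℂ) * (θ : L → ℂ) g := fun g => by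
    have := congrFun (eq_sum_irr (isClassFunction_char hχ)) g
    rw [Finset.sum_apply] at this
    refine this.trans (Finset.sum_congr rfl fun θ _ => ?_)
    rw [Pi.smul_apply, smul_eq_mul, hn θ]
  have hL : (Nat.card L' : ℂ) ≠ 0 := Nat.cast_ne_zero.2 Nat.card_pos.ne'
  have hr' : ∀ θ : IrrCharacter L, ∑ g : L', (θ : L → ℂ) (j g) = (Nat.card L' : ℂ) * r θ := fun θ => by
    have := hr θ
    unfold classInner at this
    simp only [map_one, mul_one] at this
    rwa [inv_mul_eq_iff_eq_mul₀ hL] at this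
  have h1 : m' = ∑ θ : IrrCharacter L, n θ * r θ := by
    have h2 : (Nat.card L' : ℂ) * m' = (Nat.card L' : ℂ) * ∑ θ : IrrCharacter L, (n θ : ℂ) * (r θ : ℂ) := by
      rw [← hm', Finset.sum_congr rfl fun g _ => hdec (j g), Finset.sum_comm, Finset.mul_sum]
      refine Finset.sum_congr rfl fun θ _ => ?_
      rw [← Finset.mul_sum, hr' θ]; ring
    exact_mod_cast mul_left_cancel₀ hL h2
  have h2 : n (oneIrr L) = m := by
    have := hn (oneIrr L)
    unfold classInner at this
    simp only [show ∀ g : L, (oneIrr L : L → ℂ) g = 1 from fun _ => rfl, map_one, mul_one] at this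
    rw [inv_mul_eq_iff_eq_mul₀ (Nat.cast_ne_zero.2 Nat.card_pos.ne'), hm] at this
    exact_mod_cast (mul_left_cancel₀ (Nat.cast_ne_zero.2 Nat.card_pos.ne') this).symm
  have h3 : r (oneIrr L) = 1 := by
    have := hr' (oneIrr L)
    simp only [show ∀ g : L, (oneIrr L : L → ℂ) g = 1 from fun _ => rfl, Finset.sum_const, Finset.card_univ,
      nsmul_eq_mul, mul_one, ← Nat.card_eq_fintype_card] at this
    exact_mod_cast (mul_left_cancel₀ hL (this.symm.trans (mul_one _).symm))
  rw [h1, ← h2]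
  calc n (oneIrr L) = n (oneIrr L) * r (oneIrr L) := by rw [h3, mul_one]
    _ ≤ _ := Finset.single_le_sum (f := fun θ => n θ * r θ) (fun θ _ => Nat.zero_le _) (Finset.mem_univ _)

theorem sum_range_mul_pow (h : G → ℂ) {z : G} {o : ℕ} (hz : z ^ o = 1) (r : ℕ) :
    ∑ t ∈ Finset.range (r * o), h (z ^ t) = (r : ℂ) * ∑ t ∈ Finset.range o, h (z ^ t) := by
  induction r with
  | zero => simp
  | succ r ih =>
    rw [Nat.succ_mul, Finset.sum_range_add, ih, Nat.cast_succ, add_mul, one_mul]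
    congr 1
    refine Finset.sum_congr rfl fun t _ => ?_
    rw [pow_add, mul_comm r o, pow_mul, hz, one_pow, one_mul]

variable [Finite G]

/-- Averaging over all the units of exponent: at most the fixed points of the elements of order `p`. -/
theorem unit_sum_le [Fintype G] {χ : G → ℂ} (hχ : IsCharacter G χ) {M b : ℕ}
    (hb : ∀ x : G, orderOf x = p → ∀ a : ℕ, (∑ i ∈ Finset.range p, χ (x ^ i)) = (p : ℂ) * a → a ≤ b)
    {z : G} {i : ℕ} (hi : orderOf z = p ^ i) (hi0 : i ≠ 0) (hiM : i ≤ M) (A : Subgroup G) [Fintype A]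
    (hA : ∀ k ∈ A, Commute z k) :
    (∑ t ∈ (Finset.range (p ^ M)).filter (fun t => ¬ p ∣ t), ∑ k : A, χ (z ^ t * (k : G))).re ≤
      ((p : ℝ) ^ M - (p : ℝ) ^ (M - 1)) * (Nat.card A : ℝ) * b := by
  classical
  have hp : p.Prime := Fact.out
  obtain ⟨M, rfl⟩ : ∃ M', M = M' + 1 := ⟨M - 1, by omega⟩
  set h : G → ℂ := fun v => ∑ k : A, χ (v * (k : G)) with hh
  -- averages over `⟨w⟩ × A` for powers `w` of `z`
  have hav : ∀ w : G, (∀ k ∈ A, Commute w k) → ∀ o : ℕ, orderOf w = o →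
      ∃ m : ℕ, (∑ t ∈ Finset.range o, h (w ^ t)) = ((o * Nat.card A : ℕ) : ℂ) * m ∧
        ∀ x : G, x ∈ Subgroup.zpowers w → orderOf x = p → m ≤ b := by
    intro w hw o ho
    letI := Fintype.ofFinite (Subgroup.zpowers w)
    let ι : Subgroup.zpowers w × A →* G := MonoidHom.noncommCoprod (Subgroup.zpowers w).subtype A.subtype
      fun v k => by
        obtain ⟨j, hj⟩ := Subgroup.mem_zpowers_iff.1 v.2
        show Commute (v : G) k
        rw [← hj]
        exact (hw k k.2).zpow_left j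
    have hι : IsCharacter _ (fun v => χ (ι v)) := isCharacter_comp hχ ι
    obtain ⟨m, hm⟩ := classInner_char_nat hι (isCharacter_one (G := Subgroup.zpowers w × A))
    unfold classInner at hm
    simp only [map_one, mul_one] at hm
    rw [inv_mul_eq_iff_eq_mul₀ (Nat.cast_ne_zero.2 Nat.card_pos.ne')] at hm
    refine ⟨m, ?_, fun x hx hxo => ?_⟩
    · rw [← sum_zpowers ho h]
      rw [Nat.card_prod, Nat.card_zpowers, ho, Fintype.sum_prod_type] at hm
      rw [← hm]
      rfl
    · obtain ⟨a, ha⟩ := exists_fix_mult hp.pos hxo hχ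
      letI := Fintype.ofFinite (Subgroup.zpowers x)
      let j : Subgroup.zpowers x →* Subgroup.zpowers w × A :=
        (Subgroup.inclusion (Subgroup.zpowers_le.2 hx)).prod 1
      refine (avg_mono j hι hm (m' := a) ?_).trans (hb x hxo a ha)
      rw [Nat.card_zpowers, hxo, ← ha, ← sum_zpowers hxo χ]
      refine Finset.sum_congr rfl fun v _ => ?_
      simp [ι, j]
  obtain ⟨m₁, hm₁, hm₁b⟩ := hav z hA _ hi
  have hzp : orderOf (z ^ p) = p ^ (i - 1) := by
    rw [orderOf_pow' z hp.ne_zero, hi, Nat.gcd_eq_right (dvd_pow_self p hi0)]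
    obtain ⟨i, rfl⟩ : ∃ j, i = j + 1 := ⟨i - 1, by omega⟩
    rw [Nat.add_sub_cancel, pow_succ, Nat.mul_div_cancel _ hp.pos]
  obtain ⟨m₂, hm₂, -⟩ := hav (z ^ p) (fun k hk => (hA k hk).pow_left p) _ hzp
  -- `m₁ ≤ b`
  have hb' : m₁ ≤ b := by
    refine hm₁b (z ^ p ^ (i - 1)) (Subgroup.pow_mem _ (Subgroup.mem_zpowers z) _) ?_
    rw [orderOf_pow' z (pow_ne_zero _ hp.ne_zero), hi,
      Nat.gcd_eq_right (pow_dvd_pow p (Nat.sub_le i 1))]
    obtain ⟨i, rfl⟩ : ∃ j, i = j + 1 := ⟨i - 1, by omega⟩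
    rw [Nat.add_sub_cancel, pow_succ, Nat.mul_div_cancel_left _ (pow_pos hp.pos _)]
  -- `m₁ ≤ m₂`
  have h12 : m₁ ≤ m₂ := by
    letI := Fintype.ofFinite (Subgroup.zpowers z)
    letI := Fintype.ofFinite (Subgroup.zpowers (z ^ p))
    let ι : Subgroup.zpowers z × A →* G := MonoidHom.noncommCoprod (Subgroup.zpowers z).subtype A.subtype
      fun v k => by
        obtain ⟨j, hj⟩ := Subgroup.mem_zpowers_iff.1 v.2
        show Commute (v : G) k
        rw [← hj]
        exact (hA k k.2).zpow_left j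
    let j : Subgroup.zpowers (z ^ p) × A →* Subgroup.zpowers z × A :=
      MonoidHom.prodMap (Subgroup.inclusion (Subgroup.zpowers_le.2
        (Subgroup.pow_mem _ (Subgroup.mem_zpowers z) p))) (MonoidHom.id A)
    refine avg_mono j (χ := fun v => χ (ι v)) (isCharacter_comp hχ ι) ?_ ?_
    · rw [Nat.card_prod, Nat.card_zpowers, hi, ← hm₁, ← sum_zpowers hi h, Fintype.sum_prod_type]
      rfl
    · rw [Nat.card_prod, Nat.card_zpowers, hzp, ← hm₂, ← sum_zpowers hzp h, Fintype.sum_prod_type]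
      rfl
  -- split the units
  have hall : ∑ t ∈ Finset.range (p ^ (M + 1)), h (z ^ t) = ((p ^ (M + 1) * Nat.card A : ℕ) : ℂ) * m₁ := by
    have h1 := sum_range_mul_pow h (z := z) (o := p ^ i) (by rw [← hi, pow_orderOf_eq_one]) (p ^ (M + 1 - i))
    rw [← pow_add, Nat.sub_add_cancel hiM, hm₁] at h1
    rw [h1]
    have : (p : ℕ) ^ (M + 1) = p ^ (M + 1 - i) * p ^ i := by rw [← pow_add, Nat.sub_add_cancel hiM]
    rw [this]; push_cast; ring
  have hmul : ∑ t ∈ (Finset.range (p ^ (M + 1))).filter (fun t => p ∣ t), h (z ^ t) =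
      ((p ^ M * Nat.card A : ℕ) : ℂ) * m₂ := by
    have h1 : ∑ t ∈ Finset.range (p ^ M), h ((z ^ p) ^ t) = ((p ^ M * Nat.card A : ℕ) : ℂ) * m₂ := by
      have h2 := sum_range_mul_pow h (z := z ^ p) (o := p ^ (i - 1)) (by rw [← hzp, pow_orderOf_eq_one])
        (p ^ (M - (i - 1)))
      rw [← pow_add, Nat.sub_add_cancel (by omega), hm₂] at h2
      rw [h2]
      have : (p : ℕ) ^ M = p ^ (M - (i - 1)) * p ^ (i - 1) := by rw [← pow_add, Nat.sub_add_cancel (by omega)]
      rw [this]; push_cast; ring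
    rw [← h1]
    refine Finset.sum_bij' (fun t _ => t / p) (fun t _ => p * t) ?_ ?_ ?_ ?_ ?_
    · intro t ht
      rw [Finset.mem_filter, Finset.mem_range] at ht
      rw [Finset.mem_range, Nat.div_lt_iff_lt_mul hp.pos, ← pow_succ]
      exact ht.1
    · intro t ht
      rw [Finset.mem_range] at ht
      rw [Finset.mem_filter, Finset.mem_range, pow_succ']
      exact ⟨Nat.mul_lt_mul_of_pos_left ht hp.pos, dvd_mul_right p t⟩
    · intro t ht
      exact Nat.mul_div_cancel' (Finset.mem_filter.1 ht).2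
    · intro t _
      exact Nat.mul_div_cancel_left t hp.pos
    · intro t ht
      rw [← pow_mul, Nat.mul_div_cancel' (Finset.mem_filter.1 ht).2]
  have hu : ∑ t ∈ (Finset.range (p ^ (M + 1))).filter (fun t => ¬ p ∣ t), h (z ^ t) =
      ((p ^ (M + 1) * Nat.card A : ℕ) : ℂ) * m₁ - ((p ^ M * Nat.card A : ℕ) : ℂ) * m₂ := by
    rw [← hall, ← hmul, ← Finset.sum_filter_add_sum_filter_not (Finset.range (p ^ (M + 1))) (fun t => p ∣ t)]
    ring
  show (∑ t ∈ (Finset.range (p ^ (M + 1))).filter (fun t => ¬ p ∣ t), h (z ^ t)).re ≤ _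
  rw [hu]
  simp only [Nat.add_sub_cancel, Complex.sub_re, Complex.mul_re, Complex.natCast_re, Complex.natCast_im,
    mul_zero, sub_zero]
  push_cast
  have hA0 : (0 : ℝ) ≤ (Nat.card A : ℝ) := Nat.cast_nonneg _
  have hpM : (0 : ℝ) ≤ (p : ℝ) ^ M := by positivity
  have e1 : (m₁ : ℝ) ≤ m₂ := by exact_mod_cast h12
  have e2 : (m₁ : ℝ) ≤ b := by exact_mod_cast hb'
  have e3 : (0 : ℝ) ≤ (p : ℝ) ^ (M + 1) - (p : ℝ) ^ M := by
    rw [pow_succ]; nlinarith [(show (1 : ℝ) ≤ p by exact_mod_cast hp.one_le)]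
  nlinarith [mul_le_mul_of_nonneg_left e1 (mul_nonneg hpM hA0), mul_le_mul_of_nonneg_left e2 (mul_nonneg e3 hA0)]

open Classical in
/-- `p`-rank at most two is impossible. -/
theorem rank_two_false (h : Cex G) (hp : 5 ≤ p) (hrk : PRankLE p 2 G) (hdvd : p ∣ Nat.card G) : False := by
  letI := Fintype.ofFinite G
  have hp' : p.Prime := Fact.out
  obtain ⟨q, h', hq, hh', hh'd, hcard⟩ := exists_card_inF h hp hrk hdvd
  set F := Finset.univ.filter (fun g : G => InF p g) with hF
  have hmemF : ∀ g, g ∈ F ↔ InF p g := fun g => by simp [hF]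
  have hFc : F.card = Nat.card {g : G // InF p g} := by
    rw [Nat.card_eq_fintype_card, Fintype.card_subtype]
  set N : ℝ := (Nat.card G : ℝ) with hN
  have hNpos : 0 < N := by rw [hN]; exact_mod_cast Nat.card_pos
  set s : ℝ := (F.card : ℝ) / N with hs
  have hF0 : (F.card : ℝ) = s * N := by rw [hs, div_mul_cancel₀ _ hNpos.ne']
  have hse : s * ((q : ℝ) * h') = (q : ℝ) - 1 := by
    have h1 : (F.card : ℝ) * ((q : ℝ) * h') = N * ((q : ℝ) - 1) := by
      rw [hN, ← Nat.cast_one, ← Nat.cast_sub (by omega : 1 ≤ q), hFc]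
      exact_mod_cast hcard
    rw [hF0] at h1
    exact mul_left_cancel₀ hNpos.ne' (by linear_combination h1)
  -- the pairs
  have hpairs : (p - 1) * ((F ×ˢ F).filter (fun ab => ¬ InF p (ab.1 * ab.2))).card ≤ F.card * F.card := by
    let φ : ℕ → G → G := fun t g =>
      if hg : InF p g then hg.choose ^ t * hg.choose_spec.choose else g
    have hφ : ∀ t z k, z ≠ 1 → (∃ i, z ^ p ^ i = 1) → k ∈ centralizerPPrimeCore p z →
        φ t (z * k) = z ^ t * k := by
      intro t z k hz1 hz hk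
      have hg : InF p (z * k) := ⟨z, k, hz1, hz, hk, rfl⟩
      simp only [φ, dif_pos hg]
      obtain ⟨h1, h2, h3, h4⟩ := hg.choose_spec.choose_spec
      obtain ⟨e1, e2⟩ := CfsgLib.Blocks.pPart_unique hp'
        (show Commute hg.choose hg.choose_spec.choose from (mem_centralizerPPrimeCore_le _ h3).symm)
        (show Commute z k from (mem_centralizerPPrimeCore_le z hk).symm)
        (exists_orderOf_of_pel h2) (exists_orderOf_of_pel hz) (not_dvd_orderOf_of_theta h3)
        (not_dvd_orderOf_of_theta hk) h4.symm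
      rw [e2, e1]
    have hfib : ∀ t ∈ Finset.Ico 1 p, ((F ×ˢ F).filter (fun ab => ¬ InF p (ab.1 * φ t ab.2))).card =
        ((F ×ˢ F).filter (fun ab => ¬ InF p (ab.1 * ab.2))).card := by
      intro t ht
      rw [Finset.mem_Ico] at ht
      have hnd : ¬ p ∣ t := fun hd => by have := Nat.le_of_dvd (by omega) hd; omega
      have hmaps : ∀ g, InF p g → InF p (φ t g) := by
        rintro _ ⟨z, k, hz1, hz, hk, rfl⟩
        rw [hφ t z k hz1 hz hk]
        exact inF_pow hz1 hz hk hnd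
      let ψ : {g : G // InF p g} → {g : G // InF p g} := fun g => ⟨φ t g, hmaps g g.2⟩
      have hψ : Function.Bijective ψ := by
        refine Finite.surjective_iff_bijective.1 ?_
        rintro ⟨_, z, k, hz1, hz, hk, rfl⟩
        obtain ⟨m, hm⟩ := exists_pow_eq_self_of_coprime (coprime_of_not_dvd hz hnd)
        have hm' : (z ^ m) ^ t = z := by rw [← pow_mul, mul_comm, pow_mul]; exact hm
        have hw1 : z ^ m ≠ 1 := fun e => hz1 (by rw [← hm', e, one_pow])
        have hkw : k ∈ centralizerPPrimeCore p (z ^ m) := by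
          rw [← theta_pow (pel_pow hz m) hnd, hm']; exact hk
        refine ⟨⟨z ^ m * k, z ^ m, k, hw1, pel_pow hz m, hkw, rfl⟩, Subtype.ext ?_⟩
        show φ t (z ^ m * k) = z * k
        rw [hφ t _ k hw1 (pel_pow hz m) hkw, hm']
      refine Finset.card_bij (fun ab _ => (ab.1, φ t ab.2)) ?_ ?_ ?_
      · intro ab hab
        rw [Finset.mem_filter, Finset.mem_product, hmemF, hmemF] at hab ⊢
        exact ⟨⟨hab.1.1, hmaps _ hab.1.2⟩, hab.2⟩
      · intro a ha b hb hab
        rw [Finset.mem_filter, Finset.mem_product, hmemF, hmemF] at ha hb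
        have h1 := congrArg Subtype.val (hψ.1 (a₁ := ⟨a.2, ha.1.2⟩) (a₂ := ⟨b.2, hb.1.2⟩)
          (Subtype.ext (congrArg Prod.snd hab)))
        exact Prod.ext (congrArg Prod.fst hab :) h1
      · intro b hb
        rw [Finset.mem_filter, Finset.mem_product, hmemF, hmemF] at hb
        obtain ⟨⟨v, hv⟩, e⟩ := hψ.2 ⟨b.2, hb.1.2⟩
        have e' : φ t v = b.2 := congrArg Subtype.val e
        refine ⟨(b.1, v), ?_, Prod.ext rfl e'⟩
        rw [Finset.mem_filter, Finset.mem_product, hmemF, hmemF]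
        exact ⟨⟨hb.1.1, hv⟩, by rw [e']; exact hb.2⟩
    calc (p - 1) * ((F ×ˢ F).filter (fun ab => ¬ InF p (ab.1 * ab.2))).card
        = ∑ t ∈ Finset.Ico 1 p, ((F ×ˢ F).filter (fun ab => ¬ InF p (ab.1 * φ t ab.2))).card := by
          rw [Finset.sum_congr rfl hfib, Finset.sum_const, Nat.card_Ico, smul_eq_mul]
      _ = ∑ ab ∈ F ×ˢ F, ((Finset.Ico 1 p).filter (fun t => ¬ InF p (ab.1 * φ t ab.2))).card := by
          simp only [Finset.card_filter]
          exact Finset.sum_comm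
      _ ≤ ∑ ab ∈ F ×ˢ F, 1 := by
          refine Finset.sum_le_sum fun ab hab => Finset.card_le_one.2 fun i hi j hj => ?_
          rw [Finset.mem_product, hmemF, hmemF] at hab
          rw [Finset.mem_filter, Finset.mem_Ico] at hi hj
          obtain ⟨⟨z, k, hz1, hz, hk, e⟩, ⟨z', k', hz'1, hz', hk', e'⟩⟩ := hab
          rw [e, e', hφ i z' k' hz'1 hz' hk'] at hi
          rw [e, e', hφ j z' k' hz'1 hz' hk'] at hj
          exact bad_unique h hp hrk hz1 hz hk hz'1 hz' hk' hi.1.2 hj.1.2 hi.2 hj.2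
      _ = F.card * F.card := by rw [Finset.sum_const, Finset.card_product, smul_eq_mul, mul_one]
  -- the coefficients
  have hinv : ∀ χ : IrrCharacter G, conj (∑ g ∈ F, (χ : G → ℂ) g) = ∑ g ∈ F, (χ : G → ℂ) g := by
    intro χ
    rw [map_sum]
    refine Finset.sum_bij' (fun g _ => g⁻¹) (fun g _ => g⁻¹) ?_ ?_ ?_ ?_ ?_
    · intro g hg; rw [hmemF] at hg ⊢; exact inF_inv hg
    · intro g hg; rw [hmemF] at hg ⊢; exact inF_inv hg
    · intro g _; exact inv_inv g
    · intro g _; exact inv_inv g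
    · intro g _; exact (irr_inv χ g).symm
  set c : IrrCharacter G → ℝ := fun χ => (∑ g ∈ F, (χ : G → ℂ) g).re / N with hc
  have hcsum : ∀ χ : IrrCharacter G, ∑ g ∈ F, (χ : G → ℂ) g = (N : ℂ) * (c χ : ℂ) := by
    intro χ
    have h1 : ((∑ g ∈ F, (χ : G → ℂ) g).re : ℂ) = ∑ g ∈ F, (χ : G → ℂ) g := Complex.conj_eq_iff_re.1 (hinv χ)
    rw [hc, Complex.ofReal_div, mul_div_cancel₀ _ (Complex.ofReal_ne_zero.2 hNpos.ne')]
    exact h1.symm
  set f : G → ℂ := fun g => if InF p g then 1 else 0 with hf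
  have hfcl : IsClassFunction G f := by
    intro g k
    simp only [hf]
    by_cases hg : InF p g
    · rw [if_pos hg, if_pos (inF_conj hg k)]
    · rw [if_neg hg, if_neg]
      intro hk
      have := inF_conj hk k⁻¹
      rw [show k⁻¹ * (k * g * k⁻¹) * k⁻¹⁻¹ = g by group] at this
      exact hg this
  have hsumf : ∀ u : G → ℂ, ∑ g, f g * u g = ∑ g ∈ F, u g := fun u => by
    simp only [hf, hF, ite_mul, one_mul, zero_mul]
    exact (Finset.sum_filter _ _).symm
  have hNC : ((N : ℝ) : ℂ) = (Nat.card G : ℂ) := by rw [hN, Complex.ofReal_natCast]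
  have hN0 : (Nat.card G : ℂ) ≠ 0 := Nat.cast_ne_zero.2 Nat.card_pos.ne'
  have hinner : ∀ χ : IrrCharacter G, classInner f (χ : G → ℂ) = (c χ : ℂ) := by
    intro χ
    unfold classInner
    rw [hsumf, ← map_sum, hinv χ, hcsum χ, hNC, inv_mul_cancel_left₀ hN0]
  have hfexp : ∀ g, f g = ∑ χ : IrrCharacter G, (c χ : ℂ) * (χ : G → ℂ) g := fun g => by
    have := congrFun (eq_sum_irr hfcl) g
    rw [Finset.sum_apply] at this
    refine this.trans (Finset.sum_congr rfl fun χ _ => ?_)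
    rw [Pi.smul_apply, smul_eq_mul, hinner]
  have hsq : ∑ χ : IrrCharacter G, c χ ^ 2 = s := by
    have h1 : ∑ g ∈ F, f g = (F.card : ℂ) := by
      rw [Finset.sum_congr rfl (g := fun _ => (1 : ℂ)) fun g hg => if_pos ((hmemF g).1 hg)]
      simp
    rw [Finset.sum_congr rfl fun g _ => hfexp g, Finset.sum_comm] at h1
    have h2 : ∑ χ : IrrCharacter G, (c χ : ℂ) * ((N : ℂ) * (c χ : ℂ)) = (F.card : ℂ) := by
      rw [← h1]
      exact Finset.sum_congr rfl fun χ _ => by rw [← Finset.mul_sum, hcsum χ]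
    have h3 : N * ∑ χ : IrrCharacter G, c χ ^ 2 = (F.card : ℝ) := by
      have h4 : (((N * ∑ χ : IrrCharacter G, c χ ^ 2 : ℝ)) : ℂ) = ((F.card : ℝ) : ℂ) := by
        rw [Complex.ofReal_natCast, ← h2, Finset.mul_sum, Complex.ofReal_sum]
        refine Finset.sum_congr rfl fun χ _ => ?_
        push_cast; ring
      exact_mod_cast h4
    rw [hF0, mul_comm s] at h3
    exact mul_left_cancel₀ hNpos.ne' h3
  set d : IrrCharacter G → ℝ := fun χ => (charDegree (χ : G → ℂ) : ℝ) with hd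
  have hd1 : ∀ χ : IrrCharacter G, (χ : G → ℂ) 1 = ((d χ : ℝ) : ℂ) := fun χ => by
    rw [hd, Complex.ofReal_natCast]; exact (charDegree_spec' χ.2).1
  have hdpos : ∀ χ : IrrCharacter G, 0 < d χ := fun χ => by
    rw [hd]; exact Nat.cast_pos.2 (charDegree_spec' χ.2).2
  have hcube : ∑ χ : IrrCharacter G, c χ ^ 3 / d χ * N ^ 2 =
      (((F ×ˢ F).filter (fun ab => InF p (ab.1 * ab.2))).card : ℝ) := by
    have h1 : ∑ b ∈ F, ∑ a ∈ F, f (a * b) =
        (((F ×ˢ F).filter (fun ab => InF p (ab.1 * ab.2))).card : ℂ) := by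
      rw [Finset.sum_comm, ← Finset.sum_product', Finset.card_filter, Nat.cast_sum]
      exact Finset.sum_congr rfl fun ab _ => by simp [hf]
    have h2 : ∀ (χ : IrrCharacter G) (b : G), ∑ a ∈ F, (χ : G → ℂ) (a * b) =
        (N : ℂ) * (c χ : ℂ) / ((d χ : ℝ) : ℂ) * (χ : G → ℂ) b := by
      intro χ b
      rw [← hsumf, sum_classFun_mul_shift hfcl χ b, omega, hsumf, hcsum, hd1]
    have h3 : ∑ b ∈ F, ∑ a ∈ F, f (a * b) =
        ∑ χ : IrrCharacter G, (((c χ ^ 3 / d χ * N ^ 2 : ℝ)) : ℂ) := by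
      simp only [hfexp]
      rw [Finset.sum_congr rfl fun b _ => Finset.sum_comm, Finset.sum_comm]
      refine Finset.sum_congr rfl fun χ _ => ?_
      simp only [← Finset.mul_sum, h2]
      rw [hcsum χ]
      push_cast
      ring
    rw [h1, ← Complex.ofReal_sum, ← Complex.ofReal_natCast] at h3
    exact_mod_cast h3.symm
  have hone : c (oneIrr G) = s := by
    simp only [hc, show ∀ g : G, (oneIrr G : G → ℂ) g = 1 from fun _ => rfl, Finset.sum_const, nsmul_eq_mul,
      mul_one, Complex.natCast_re]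
    rw [hs]
  have hdone : d (oneIrr G) = 1 := by
    have := hd1 (oneIrr G)
    rw [show ((oneIrr G : G → ℂ) 1) = 1 from rfl] at this
    exact_mod_cast this.symm
  -- numerical facts
  have hq' : (5 : ℝ) ≤ q := by exact_mod_cast hq
  have hh2 : (2 : ℝ) ≤ h' := by exact_mod_cast hh'
  have hs0 : 0 < s := by
    by_contra hle
    have : s * ((q : ℝ) * h') ≤ 0 := mul_nonpos_of_nonpos_of_nonneg (not_lt.1 hle) (by positivity)
    linarith
  have hs2 : 2 * s < 1 := by
    by_contra hle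
    nlinarith [mul_le_mul (not_lt.1 hle) (mul_le_mul_of_nonneg_left hh2 (by linarith : (0 : ℝ) ≤ q))
      (by positivity) (by linarith)]
  have hh'le : (h' : ℝ) ≤ ((p : ℝ) - 1) ^ 2 * ((p : ℝ) + 1) := by
    have h1 : h' ≤ (p - 1) ^ 2 * (p + 1) :=
      Nat.le_of_dvd (Nat.mul_pos (pow_pos (by omega) _) (by omega)) hh'd
    have h2 : (h' : ℝ) ≤ (((p - 1) ^ 2 * (p + 1) : ℕ) : ℝ) := by exact_mod_cast h1
    push_cast [Nat.cast_sub (by omega : 1 ≤ p)] at h2
    exact h2
  have hsh : 4 ≤ 5 * s * h' := by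
    nlinarith [hse, mul_pos hs0 (by linarith : (0 : ℝ) < h')]
  set P : ℝ := (p : ℝ) with hP
  have hP5 : 5 ≤ P := by rw [hP]; exact_mod_cast hp
  set T : ℝ := 1 - s with hT
  have hPT : 1 < (P - 1) * T := by nlinarith
  -- a character with a large ratio
  set β : ℝ := s * (1 - 1 / ((P - 1) * T)) with hβ
  have hβ' : β * ((P - 1) * T) = s * ((P - 1) * T - 1) := by
    rw [hβ, mul_assoc, sub_mul, one_mul, div_mul_cancel₀ _ (by linarith : (P - 1) * T ≠ 0)]
  have hβ0 : 0 < β := by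
    rw [hβ]
    refine mul_pos hs0 ?_
    rw [sub_pos, div_lt_one (by linarith)]
    exact hPT
  obtain ⟨χ, hχ1, hχc, hχβ⟩ : ∃ χ : IrrCharacter G, χ ≠ oneIrr G ∧ 0 < c χ ∧ β * d χ ≤ c χ := by
    by_contra hno
    simp only [not_exists, not_and, not_le] at hno
    set S := (Finset.univ : Finset (IrrCharacter G)).erase (oneIrr G) with hS
    have h2 : ∑ χ ∈ S, c χ ^ 2 = s * T := by
      have := Finset.add_sum_erase Finset.univ (fun χ => c χ ^ 2) (Finset.mem_univ (oneIrr G))
      rw [hsq, hone] at this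
      rw [hT]; linarith
    have hbad : (((F ×ˢ F).filter (fun ab => InF p (ab.1 * ab.2))).card : ℝ) ≥
        (F.card : ℝ) * F.card * (1 - 1 / (P - 1)) := by
      have h4 := Finset.card_filter_add_card_filter_not (s := F ×ˢ F) (fun ab => InF p (ab.1 * ab.2))
      rw [Finset.card_product] at h4
      have h5 : ((p - 1 : ℕ) : ℝ) * (((F ×ˢ F).filter (fun ab => ¬ InF p (ab.1 * ab.2))).card : ℝ) ≤
          (F.card : ℝ) * F.card := by exact_mod_cast hpairs
      rw [Nat.cast_sub (by omega : 1 ≤ p), Nat.cast_one, ← hP] at h5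
      have h6 : (((F ×ˢ F).filter (fun ab => ¬ InF p (ab.1 * ab.2))).card : ℝ) ≤
          (F.card : ℝ) * F.card / (P - 1) := by
        rw [le_div_iff₀ (by linarith)]; linarith
      have h7 : (((F ×ˢ F).filter (fun ab => InF p (ab.1 * ab.2))).card : ℝ) +
          (((F ×ˢ F).filter (fun ab => ¬ InF p (ab.1 * ab.2))).card : ℝ) = (F.card : ℝ) * F.card := by
        exact_mod_cast h4
      rw [mul_sub, mul_one, mul_one_div]
      linarith
    rw [← hcube, ← Finset.sum_mul, hF0] at hbad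
    have h8 : s * s * (1 - 1 / (P - 1)) ≤ ∑ χ : IrrCharacter G, c χ ^ 3 / d χ := by
      refine le_of_mul_le_mul_right ?_ (pow_pos hNpos 2)
      nlinarith
    rw [← Finset.add_sum_erase Finset.univ _ (Finset.mem_univ (oneIrr G)), hone, hdone, div_one] at h8
    have h9 : β * (s * T) ≤ ∑ χ ∈ S, c χ ^ 3 / d χ := by
      have e : β * (s * T) = s * s * (1 - 1 / (P - 1)) - s ^ 3 := by
        rw [hβ, hT]
        have e1 : P - 1 ≠ 0 := by linarith
        have e2 : (1 : ℝ) - s ≠ 0 := by linarith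
        field_simp
        ring
      rw [e]; linarith
    have hne : ∃ χ ∈ S, c χ ≠ 0 := by
      by_contra h0
      simp only [not_exists, not_and, not_not] at h0
      have : ∑ χ ∈ S, c χ ^ 2 = 0 := Finset.sum_eq_zero fun χ hχ => by rw [h0 χ hχ]; ring
      rw [h2] at this
      nlinarith
    have h10 : ∀ χ ∈ S, c χ ^ 3 / d χ ≤ β * c χ ^ 2 ∧ (c χ ≠ 0 → c χ ^ 3 / d χ < β * c χ ^ 2) := by
      intro χ hχ
      have hne1 := Finset.ne_of_mem_erase hχ
      rcases lt_trichotomy (c χ) 0 with hlt | heq | hgt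
      · have h12 : c χ ^ 3 / d χ < 0 := div_neg_of_neg_of_pos (Odd.pow_neg (by decide) hlt) (hdpos χ)
        have h13 : 0 ≤ β * c χ ^ 2 := mul_nonneg hβ0.le (sq_nonneg _)
        exact ⟨by linarith, fun _ => by linarith⟩
      · exact ⟨by simp [heq], fun h => absurd heq h⟩
      · have hlt : c χ ^ 3 / d χ < β * c χ ^ 2 := by
          rw [div_lt_iff₀ (hdpos χ)]
          nlinarith [mul_lt_mul_of_pos_left (hno χ hne1 hgt) (pow_pos hgt 2)]
        exact ⟨hlt.le, fun _ => hlt⟩
    obtain ⟨χ₀, hχ₀, hc₀⟩ := hne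
    have := Finset.sum_lt_sum (fun χ hχ => (h10 χ hχ).1) ⟨χ₀, hχ₀, (h10 χ₀ hχ₀).2 hc₀⟩
    rw [← Finset.mul_sum, h2] at this
    linarith
  -- the fixed point bound on the coefficient
  have hupper : ∀ δ : ℕ, δ ≤ charDegree (χ : G → ℂ) →
      (∀ x : G, orderOf x = p → ∀ a : ℕ, (∑ i ∈ Finset.range p, (χ : G → ℂ) (x ^ i)) = (p : ℂ) * a →
        a + δ ≤ charDegree (χ : G → ℂ)) →
      c χ ≤ s * (d χ - δ) := by
    intro δ hδd hδ
    set b := charDegree (χ : G → ℂ) - δ with hb
    have hbb : ∀ x : G, orderOf x = p → ∀ a : ℕ,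
        (∑ i ∈ Finset.range p, (χ : G → ℂ) (x ^ i)) = (p : ℂ) * a → a ≤ b := fun x hx a ha => by
      have := hδ x hx a ha; omega
    set M := Nat.card G with hM
    set U := (Finset.range (p ^ M)).filter (fun t => ¬ p ∣ t) with hU
    let Z := {z : G // z ≠ 1 ∧ ∃ i, z ^ p ^ i = 1}
    have hsum : ∀ u : G → ℂ, ∑ z : Z, ∑ k : centralizerPPrimeCore p (z : G), u ((z : G) * k) =
        ∑ g ∈ F, u g := by
      intro u
      rw [Finset.sum_sigma' Finset.univ (fun _ => Finset.univ)]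
      refine Finset.sum_bij (fun v _ => (v.1 : G) * v.2) ?_ ?_ ?_ ?_
      · intro v _
        exact (hmemF _).2 ⟨v.1, v.2, v.1.2.1, v.1.2.2, v.2.2, rfl⟩
      · rintro ⟨⟨z, hz1, hz⟩, ⟨k, hk⟩⟩ _ ⟨⟨z', hz'1, hz'⟩, ⟨k', hk'⟩⟩ _ e
        obtain ⟨rfl, rfl⟩ := CfsgLib.Blocks.pPart_unique hp'
          (show Commute z k from (mem_centralizerPPrimeCore_le z hk).symm)
          (show Commute z' k' from (mem_centralizerPPrimeCore_le z' hk').symm)
          (exists_orderOf_of_pel hz) (exists_orderOf_of_pel hz') (not_dvd_orderOf_of_theta hk)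
          (not_dvd_orderOf_of_theta hk') e
        rfl
      · intro g hg
        obtain ⟨z, k, h1, h2, h3, rfl⟩ := (hmemF g).1 hg
        exact ⟨⟨⟨z, h1, h2⟩, ⟨k, h3⟩⟩, by simp, rfl⟩
      · intro v _; rfl
    -- reindexing by the unit `t`
    have hre : ∀ t ∈ U, ∑ z : Z, ∑ k : centralizerPPrimeCore p (z : G), (χ : G → ℂ) ((z : G) ^ t * k) =
        ∑ g ∈ F, (χ : G → ℂ) g := by
      intro t ht
      have hnd : ¬ p ∣ t := (Finset.mem_filter.1 ht).2
      rw [← hsum (χ : G → ℂ), Finset.sum_sigma' Finset.univ (fun _ => Finset.univ),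
        Finset.sum_sigma' Finset.univ (fun _ => Finset.univ)]
      let ρ : (Σ z : Z, centralizerPPrimeCore p (z : G)) → (Σ z : Z, centralizerPPrimeCore p (z : G)) :=
        fun v => ⟨⟨(v.1 : G) ^ t, pow_ne_one_of_not_dvd v.1.2.2 v.1.2.1 hnd, pel_pow v.1.2.2 t⟩,
          ⟨(v.2 : G), by rw [theta_pow v.1.2.2 hnd]; exact v.2.2⟩⟩
      have hρ : Function.Bijective ρ := by
        refine Finite.surjective_iff_bijective.1 ?_
        rintro ⟨⟨z, hz1, hz⟩, ⟨k, hk⟩⟩
        obtain ⟨m, hm⟩ := exists_pow_eq_self_of_coprime (coprime_of_not_dvd hz hnd)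
        have hm' : (z ^ m) ^ t = z := by rw [← pow_mul, mul_comm, pow_mul]; exact hm
        have hkw : k ∈ centralizerPPrimeCore p (z ^ m) := by
          rw [← theta_pow (pel_pow hz m) hnd, hm']; exact hk
        refine ⟨⟨⟨z ^ m, fun e => hz1 (by rw [← hm', e, one_pow]), pel_pow hz m⟩, ⟨k, hkw⟩⟩, ?_⟩
        refine Sigma.subtype_ext (Subtype.ext hm') rfl
      exact Fintype.sum_bijective ρ hρ _ _ fun v => rfl
    have hpM : 1 ≤ M := Nat.card_pos
    have htot : (U.card : ℝ) * (c χ * N) ≤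
        (P ^ M - P ^ (M - 1)) * ((F.card : ℝ) * b) := by
      have h1 : (U.card : ℂ) * ∑ g ∈ F, (χ : G → ℂ) g =
          ∑ z : Z, ∑ t ∈ U, ∑ k : centralizerPPrimeCore p (z : G), (χ : G → ℂ) ((z : G) ^ t * k) := by
        rw [Finset.sum_comm, Finset.sum_congr rfl hre, Finset.sum_const, nsmul_eq_mul]
      have h2 := congrArg Complex.re h1
      rw [hcsum, Complex.re_sum] at h2
      simp only [Complex.mul_re, Complex.natCast_re, Complex.natCast_im, Complex.ofReal_re,
        Complex.ofReal_im, mul_zero, zero_mul, sub_zero] at h2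
      rw [mul_comm (c χ), h2]
      have h3 : (F.card : ℝ) = ∑ z : Z, (Nat.card (centralizerPPrimeCore p (z : G)) : ℝ) := by
        have := hsum fun _ => (1 : ℂ)
        simp only [Finset.sum_const, Finset.card_univ, nsmul_eq_mul, mul_one, ← Nat.card_eq_fintype_card] at this
        exact_mod_cast this.symm
      rw [h3, Finset.sum_mul, Finset.mul_sum]
      refine Finset.sum_le_sum fun z _ => ?_
      obtain ⟨i, hi⟩ := exists_orderOf_of_pel z.2.2
      have hi0 : i ≠ 0 := fun e => z.2.1 (orderOf_eq_one_iff.1 (by rw [hi, e, pow_zero]))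
      have hiM : i ≤ M := by
        have h4 : p ^ i ≤ M := hi ▸ Nat.le_of_dvd Nat.card_pos (orderOf_dvd_natCard (z : G))
        exact (Nat.lt_pow_self hp'.one_lt).le.trans h4
      refine (unit_sum_le (isCharacter_of_irr χ.2) hbb hi hi0 hiM (centralizerPPrimeCore p (z : G))
        fun k hk => (mem_centralizerPPrimeCore_le (z : G) hk).symm).trans (le_of_eq ?_)
      ring
    have hUc : (U.card : ℝ) = P ^ M - P ^ (M - 1) := by
      have h1 := Finset.card_filter_add_card_filter_not (s := Finset.range (p ^ M)) (fun t => p ∣ t)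
      have h2 : ((Finset.range (p ^ M)).filter (fun t => p ∣ t)).card = p ^ (M - 1) := by
        rw [← Finset.card_range (p ^ (M - 1))]
        refine Finset.card_bij' (fun t _ => t / p) (fun t _ => p * t) ?_ ?_ ?_ ?_
        · intro t ht
          rw [Finset.mem_filter, Finset.mem_range] at ht
          rw [Finset.mem_range, Nat.div_lt_iff_lt_mul hp'.pos, ← pow_succ, Nat.sub_add_cancel hpM]
          exact ht.1
        · intro t ht
          rw [Finset.mem_range] at ht
          rw [Finset.mem_filter, Finset.mem_range]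
          refine ⟨?_, dvd_mul_right p t⟩
          have := Nat.mul_lt_mul_of_pos_left ht hp'.pos
          rwa [← pow_succ', Nat.sub_add_cancel hpM] at this
        · intro t ht
          exact Nat.mul_div_cancel' (Finset.mem_filter.1 ht).2
        · intro t _
          exact Nat.mul_div_cancel_left t hp'.pos
      rw [Finset.card_range, h2] at h1
      have h5 : ((p ^ (M - 1) + U.card : ℕ) : ℝ) = ((p ^ M : ℕ) : ℝ) := by rw [hU, h1]
      push_cast at h5
      linarith
    have hpos : 0 < P ^ M - P ^ (M - 1) := by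
      obtain ⟨m, hm⟩ : ∃ m, M = m + 1 := ⟨M - 1, by omega⟩
      rw [hm, Nat.add_sub_cancel, pow_succ]
      have := pow_pos (show (0 : ℝ) < P by linarith) m
      nlinarith
    rw [hUc, hF0] at htot
    have h6 : c χ * N ≤ s * N * b := le_of_mul_le_mul_left htot hpos
    have h7 : (b : ℝ) = d χ - δ := by rw [hb, Nat.cast_sub hδd]
    rw [h7] at h6
    exact le_of_mul_le_mul_right (by linarith) hNpos
  -- the endgame
  obtain ⟨δ, κ, hκ, hδ, hδc⟩ : ∃ (δ κ : ℝ), (P - 1) ^ 2 ≤ κ * δ ^ 2 ∧ 0 ≤ δ ∧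
      c χ ≤ s * (d χ - δ) ∧ κ * c χ ^ 2 ≤ s * T ∧ 0 ≤ κ := by
    set S := (Finset.univ : Finset (IrrCharacter G)).erase (oneIrr G) with hS
    have h2 : ∑ χ ∈ S, c χ ^ 2 = s * T := by
      have := Finset.add_sum_erase Finset.univ (fun χ => c χ ^ 2) (Finset.mem_univ (oneIrr G))
      rw [hsq, hone] at this
      rw [hT]; linarith
    have hχS : χ ∈ S := Finset.mem_erase.2 ⟨hχ1, Finset.mem_univ _⟩
    obtain ⟨x, hx⟩ := exists_prime_orderOf_dvd_card' p hdvd
    obtain ⟨a0, -, ha0, ha0'⟩ := fix_bound h hp hrk χ hχ1 hx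
    by_cases hr : ∀ g, conj ((χ : G → ℂ) g) = (χ : G → ℂ) g
    · refine ⟨P - 1, 1, by rw [one_mul], by linarith, ?_, ?_, zero_le_one⟩
      · have := hupper (p - 1) (by have := ha0' hr; omega) fun y hy a ha => by
          obtain ⟨b, hb, -, hb'⟩ := fix_bound h hp hrk χ hχ1 hy
          have : a = b := by
            exact_mod_cast mul_left_cancel₀ (Nat.cast_ne_zero.2 hp'.ne_zero) (ha.symm.trans hb)
          exact this ▸ hb' hr
        rwa [Nat.cast_sub (by omega : 1 ≤ p), Nat.cast_one, ← hP] at this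
      · rw [one_mul, ← h2]
        exact Finset.single_le_sum (f := fun χ => c χ ^ 2) (fun _ _ => sq_nonneg _) hχS
    · refine ⟨P - 2, 2, ?_, by linarith, ?_, ?_, by norm_num⟩
      · nlinarith
      · have := hupper (p - 2) (by omega) fun y hy a ha => by
          obtain ⟨b, hb, hb', -⟩ := fix_bound h hp hrk χ hχ1 hy
          have : a = b := by
            exact_mod_cast mul_left_cancel₀ (Nat.cast_ne_zero.2 hp'.ne_zero) (ha.symm.trans hb)
          exact this ▸ hb'
        rwa [Nat.cast_sub (by omega : 2 ≤ p), Nat.cast_ofNat, ← hP] at this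
      · set χ' := conjIrr χ with hχ'
        have hne : χ ≠ χ' := fun e => hr fun g => by
          have := congrFun (congrArg Subtype.val e) g
          rw [hχ', conjIrr_apply] at this
          exact this.symm
        have hne1 : χ' ≠ oneIrr G := fun e => hχ1 (Subtype.ext (funext fun g => by
          have := congrFun (congrArg Subtype.val e) g
          rw [hχ', conjIrr_apply] at this
          have h3 := congrArg conj this
          rw [Complex.conj_conj] at h3
          exact h3.trans (map_one (starRingEnd ℂ))))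
        have hcc : c χ' = c χ := by
          simp only [hc, hχ', conjIrr_apply]
          rw [← map_sum, Complex.conj_re]
        have h4 : ∑ v ∈ ({χ, χ'} : Finset (IrrCharacter G)), c v ^ 2 ≤ ∑ v ∈ S, c v ^ 2 := by
          refine Finset.sum_le_sum_of_subset_of_nonneg (fun v hv => ?_) fun _ _ _ => sq_nonneg _
          rcases Finset.mem_insert.1 hv with rfl | hv
          · exact hχS
          · rw [Finset.mem_singleton.1 hv]; exact Finset.mem_erase.2 ⟨hne1, Finset.mem_univ _⟩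
        rw [Finset.sum_pair hne, hcc, h2] at h4
        linarith
  obtain ⟨hup, hsqb, hκ0⟩ := hδc
  set E := (P - 1) * T - 1 with hE
  have hE0 : 0 < E := by rw [hE]; linarith
  -- `d ≥ δ (P-1) T`, so `c ≥ δ s E`
  have hd' : δ * ((P - 1) * T) ≤ d χ := by
    have h1 : β * d χ ≤ s * (d χ - δ) := hχβ.trans hup
    have h2 : β * d χ * ((P - 1) * T) ≤ s * (d χ - δ) * ((P - 1) * T) :=
      mul_le_mul_of_nonneg_right h1 (by linarith)
    rw [show β * d χ * ((P - 1) * T) = d χ * (β * ((P - 1) * T)) by ring, hβ'] at h2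
    have h3 : s * (δ * ((P - 1) * T)) ≤ s * d χ := by linarith
    exact le_of_mul_le_mul_left h3 hs0
  have hclow : δ * s * E ≤ c χ := by
    refine le_trans ?_ hχβ
    have h1 : δ * ((P - 1) * T) * β ≤ d χ * β := mul_le_mul_of_nonneg_right hd' hβ0.le
    rw [show δ * ((P - 1) * T) * β = δ * (β * ((P - 1) * T)) by ring, hβ'] at h1
    calc δ * s * E = δ * (s * ((P - 1) * T - 1)) := by rw [hE]; ring
      _ ≤ d χ * β := h1
      _ = β * d χ := mul_comm _ _
  have hmain : (P - 1) ^ 2 * (s * E) ^ 2 ≤ s * T := by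
    refine le_trans ?_ hsqb
    have h1 : (δ * s * E) ^ 2 ≤ c χ ^ 2 := pow_le_pow_left₀ (mul_nonneg (mul_nonneg hδ hs0.le) hE0.le) hclow 2
    calc (P - 1) ^ 2 * (s * E) ^ 2 ≤ κ * δ ^ 2 * (s * E) ^ 2 :=
          mul_le_mul_of_nonneg_right hκ (sq_nonneg _)
      _ = κ * (δ * s * E) ^ 2 := by ring
      _ ≤ κ * c χ ^ 2 := mul_le_mul_of_nonneg_left h1 hκ0
  have hfinal : (P - 1) ^ 2 * s * E ^ 2 ≤ T :=
    le_of_mul_le_mul_left (by nlinarith) hs0
  by_cases hsmall : 16 * s ≤ 1
  · have hE1 : (15 * P - 31) / 16 ≤ E := by rw [hE, hT]; nlinarith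
    have hE2 : 5 * (P + 1) < 4 * E ^ 2 := by
      have h15 : 0 ≤ (15 * P - 31) / 16 := by linarith
      nlinarith [pow_le_pow_left₀ h15 hE1 2, sq_nonneg (P - 5)]
    have h1 : 4 ≤ 5 * s * ((P - 1) ^ 2 * (P + 1)) :=
      hsh.trans (mul_le_mul_of_nonneg_left hh'le (by linarith))
    nlinarith [mul_lt_mul_of_pos_left hE2 (mul_pos (pow_pos (by linarith : (0 : ℝ) < P - 1) 2) hs0)]
  · have hE1 : (P - 3) / 2 ≤ E := by rw [hE, hT]; nlinarith
    have h16 : 16 ≤ (P - 1) ^ 2 * E ^ 2 := by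
      have hE2 : 1 ≤ E := le_trans (by linarith) hE1
      calc (16 : ℝ) = 4 ^ 2 * 1 ^ 2 := by norm_num
        _ ≤ (P - 1) ^ 2 * E ^ 2 := mul_le_mul (pow_le_pow_left₀ (by norm_num) (by linarith) 2)
            (pow_le_pow_left₀ zero_le_one hE2 2) (by norm_num) (sq_nonneg _)
    nlinarith [mul_le_mul_of_nonneg_left h16 hs0.le]

end CfsgLib.PairSol
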