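import Cfsg.Agent.Lib.PairSol.EigenLocal
import Cfsg.Agent.Lib.PairSol.CentCore
import Cfsg.Agent.S0199

/-!
Every nontrivial irreducible character of a minimal counterexample has few fixed points at an element of order `p`.
-/

set_option autoImplicit false
set_option linter.unusedSectionVars false
set_option linter.style.haveILetI false

namespace CfsgLib.PairSol

open Cfsg Subgroup CfsgLib.CharTheory CfsgLib.Blocks
open scoped ComplexConjugate commutatorElement Pointwise

universe u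

variable {G : Type u} [Group G] [Finite G] {p : ℕ} [Fact p.Prime]

/-- Some `p'`-group is moved by `x`. -/
theorem exists_moved (h : Cex G) (hp : 5 ≤ p) (hrk : PRankLE p 2 G) {x : G} (hx : orderOf x = p) :
    ∃ Q : Subgroup G, (Nat.card Q).Coprime p ∧ x ∈ normalizer (Q : Set G) ∧
      ¬ Q ≤ centralizer ({x} : Set G) := by
  by_contra hno
  simp only [not_exists, not_and, not_not] at hno
  have hp' : p.Prime := Fact.out
  have hx1 : x ≠ 1 := fun e => hp'.ne_one (by rw [← hx, e, orderOf_one])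
  have hxp : ∃ i, x ^ p ^ i = 1 := ⟨1, by rw [pow_one, ← hx, pow_orderOf_eq_one]⟩
  have hbs : ∀ g : G, IsPGroup p ↥(zpowers x ⊔ (zpowers x).map (MulAut.conj g).toMonoidHom) := by
    intro g
    set y := g * x * g⁻¹ with hy
    have hyp : ∃ i, y ^ p ^ i = 1 := hxp.imp fun i hi => by rw [hy, conj_pow, hi, mul_one, mul_inv_cancel]
    set K := closure ({x, y} : Set G) with hK
    have hKtop := closure_pair_ne_top h x y
    have hxK : x ∈ K := subset_closure (by simp)
    have hyK : y ∈ K := subset_closure (by simp)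
    set O := coreIn p K with hO
    have hcx : ∀ o ∈ O, o * x = x * o := fun o ho =>
      mem_centralizer_singleton_iff.1 (hno O (card_coreIn (p := p) K) (le_normalizer_coreIn (p := p) K hxK) ho)
    have hcy : ∀ o ∈ O, o * y = y * o := by
      intro o ho
      set O' := O.map (MulAut.conj g⁻¹).toMonoidHom with hO'
      have hxO' : x ∈ normalizer (O' : Set G) := by
        have h1 := le_normalizer_map (MulAut.conj g⁻¹).toMonoidHom ⟨y, le_normalizer_coreIn (p := p) K hyK, rfl⟩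
        have e : (MulAut.conj g⁻¹).toMonoidHom y = x := by
          show g⁻¹ * y * g⁻¹⁻¹ = x
          rw [hy]; group
        rwa [e] at h1
      have h2 := mem_centralizer_singleton_iff.1 (hno O' (by
        rw [hO', card_map_of_injective (MulAut.conj g⁻¹).injective]; exact card_coreIn K) hxO'
        ⟨o, ho, rfl⟩)
      have h3 : g⁻¹ * o * g⁻¹⁻¹ * x = x * (g⁻¹ * o * g⁻¹⁻¹) := h2
      calc o * y = g * (g⁻¹ * o * g⁻¹⁻¹ * x) * g⁻¹ := by rw [hy]; group
        _ = g * (x * (g⁻¹ * o * g⁻¹⁻¹)) * g⁻¹ := by rw [h3]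
        _ = y * o := by rw [hy]; group
    have hcK : ∀ o ∈ O, ∀ w ∈ K, o * w = w * o := by
      intro o ho w hw
      have : K ≤ centralizer ({o} : Set G) := (closure_le _).2 (by
        rintro v (rfl | rfl)
        · exact mem_centralizer_singleton_iff.2 (hcx o ho).symm
        · exact mem_centralizer_singleton_iff.2 (hcy o ho).symm)
      exact (mem_centralizer_singleton_iff.1 (this hw)).symm
    haveI := h.sol K hKtop
    obtain ⟨S, hS⟩ := exists_max_pGroup (H := K) (isPGroup_zpowers hxp) (zpowers_le.2 hxK)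
    have hKpp : ∀ w ∈ K, w ∈ ppIn p K := by
      intro w hw
      refine (closure_le _).2 ?_ hw
      rintro v (rfl | rfl)
      · exact mem_ppIn_of_rank (h.sol K hKtop) hp hrk hxK hxp
      · exact mem_ppIn_of_rank (h.sol K hKtop) hp hrk hyK hyp
    haveI hSn : (S : Subgroup K).Normal := by
      rw [← normalizer_eq_top_iff, eq_top_iff]
      intro w _
      obtain ⟨hwK, hw'⟩ := mem_ppIn.1 (hKpp _ w.2)
      obtain ⟨o, ho, s, hs, hos⟩ := mem_sup_of_normal_left.1 (pPrimePCore_le_sup S hw')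
      have hw'' : w = o * s := by rw [hos]
      rw [hw'']
      refine mul_mem (centralizer_le_normalizer _ (mem_centralizer_iff.2 fun v _ => Subtype.ext ?_))
        (le_normalizer hs)
      exact (hcK _ ⟨o, ho, rfl⟩ _ v.2).symm
    have hyS : (⟨y, hyK⟩ : K) ∈ (S : Subgroup K) := by
      obtain ⟨S', hS'⟩ := ((isPGroup_zpowers hyp).comap_of_injective K.subtype
        K.subtype_injective).exists_le_sylow
      obtain ⟨m, hm⟩ := MulAction.exists_smul_eq K S S'
      have h1 := hS' (show (⟨y, hyK⟩ : K) ∈ (zpowers y).comap K.subtype from mem_zpowers y)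
      rw [← hm, Sylow.smul_eq_of_normal] at h1
      exact h1
    refine (S.2.map K.subtype).to_le (sup_le hS ?_)
    rw [MonoidHom.map_zpowers, zpowers_le]
    exact ⟨_, hyS, rfl⟩
  obtain ⟨N, hN, hNp, hxN⟩ := Cfsg.Agent.S0199.result (zpowers x) (isPGroup_zpowers hxp) hbs
  refine normalizer_ne_top h hNp (fun e => hx1 (mem_bot.1 (e ▸ hxN (mem_zpowers x)))) ?_
  haveI := hN
  rw [normalizer_eq_top_iff]; exact hN

/-- A minimal group moved by `x`. -/
theorem exists_minimal_moved (h : Cex G) (hp : 5 ≤ p) (hrk : PRankLE p 2 G) {x : G} (hx : orderOf x = p) :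
    ∃ Q : Subgroup G, (∃ q : ℕ, q.Prime ∧ IsPGroup q Q) ∧ (Nat.card Q).Coprime p ∧
      x ∈ normalizer (Q : Set G) ∧ ¬ Q ≤ centralizer ({x} : Set G) ∧ Group.IsSolvable Q ∧
      ⁅Q, zpowers x⁆ = Q ∧ ∀ Y : Subgroup G, Y < Q → x ∈ normalizer (Y : Set G) →
        Y ≤ centralizer ({x} : Set G) := by
  classical
  have hxp : ∃ i, x ^ p ^ i = 1 := ⟨1, by rw [pow_one, ← hx, pow_orderOf_eq_one]⟩
  obtain ⟨Q, ⟨hQc, hxQ, hQne⟩, hmin⟩ := Set.Finite.exists_minimal
    (Set.toFinite {Q : Subgroup G | (Nat.card Q).Coprime p ∧ x ∈ normalizer (Q : Set G) ∧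
      ¬ Q ≤ centralizer ({x} : Set G)}) (by
    obtain ⟨Q, h1, h2, h3⟩ := exists_moved h hp hrk hx
    exact ⟨Q, h1, h2, h3⟩)
  have hprop : ∀ Y : Subgroup G, Y < Q → x ∈ normalizer (Y : Set G) →
      Y ≤ centralizer ({x} : Set G) := by
    intro Y hY hxY
    by_contra hne
    exact hY.not_ge (hmin ⟨hQc.coprime_dvd_left (card_dvd_of_le hY.le), hxY, hne⟩ hY.le)
  have hA : (Nat.card (zpowers x)).Coprime (Nat.card Q) := pGroup_coprime (isPGroup_zpowers hxp) hQc
  have hAs : Group.IsSolvable (zpowers x) :=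
    Group.isSolvable_of_comm fun a b => IsCyclic.commGroup.mul_comm a b
  obtain ⟨q, hq, hQq⟩ : ∃ q : ℕ, q.Prime ∧ IsPGroup q Q := by
    by_contra hno
    simp only [not_exists, not_and] at hno
    have hall : ∀ q : ℕ, q.Prime → ∃ R : Sylow q Q,
        (R : Subgroup Q) ≤ (centralizer ({x} : Set G)).subgroupOf Q := by
      intro q hq
      haveI := Fact.mk hq
      obtain ⟨R, hR⟩ := CfsgLib.coprime_exists_invariant_sylow (zpowers_le.2 hxQ) hA (Or.inl hAs) q
      refine ⟨R, fun v hv => ?_⟩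
      have hlt : (R : Subgroup Q).map Q.subtype < Q := by
        refine lt_of_le_of_ne (map_subtype_le _) fun e => hno q hq ?_
        rw [← e]
        exact R.2.map _
      exact hprop _ hlt (hR (mem_zpowers x)) ⟨v, hv, rfl⟩
    apply hQne
    intro v hv
    have h1 : (centralizer ({x} : Set G)).subgroupOf Q = ⊤ := by
      rw [← index_eq_one]
      by_contra hne
      obtain ⟨q, hq, hqd⟩ := Nat.exists_prime_and_dvd hne
      haveI := Fact.mk hq
      obtain ⟨R, hR⟩ := hall q hq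
      exact R.not_dvd_index (hqd.trans (index_dvd_of_le hR))
    exact (h1.ge (mem_top (⟨v, hv⟩ : Q)) :)
  haveI := Fact.mk hq
  have hsol : Group.IsSolvable Q := by haveI := hQq.isNilpotent; infer_instance
  refine ⟨Q, ⟨q, hq, hQq⟩, hQc, hxQ, hQne, hsol, ?_, hprop⟩
  have hle : ⁅Q, zpowers x⁆ ≤ Q := CfsgLib.commutator_le_of_le_normalizer (zpowers_le.2 hxQ)
  refine hle.eq_or_lt.resolve_right fun hlt => hQne ?_
  have h1 := hprop _ hlt (CfsgLib.right_le_normalizer_commutator (zpowers x) Q (mem_zpowers x))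
  have h2 : ⁅Q, zpowers x⁆ = ⊥ := by
    rw [← CfsgLib.coprime_commutator_commutator (zpowers_le.2 hxQ) hA (Or.inl hAs),
      commutator_eq_bot_iff_le_centralizer]
    intro v hv w hw
    obtain ⟨i, rfl⟩ := mem_zpowers_iff.1 hw
    exact ((show Commute x v from (mem_centralizer_singleton_iff.1 (h1 hv)).symm).zpow_left i).eq
  rw [commutator_eq_bot_iff_le_centralizer] at h2
  intro v hv
  exact mem_centralizer_singleton_iff.2 (h2 hv x (mem_zpowers x)).symm

open Classical in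
/-- The eigenvalue bound in the group. -/
theorem fix_bound (h : Cex G) (hp : 5 ≤ p) (hrk : PRankLE p 2 G) [Fintype G] (χ : IrrCharacter G)
    (hχ : χ ≠ oneIrr G) {x : G} (hx : orderOf x = p) :
    ∃ a : ℕ, (∑ i ∈ Finset.range p, (χ : G → ℂ) (x ^ i)) = (p : ℂ) * a ∧
      a + (p - 2) ≤ charDegree (χ : G → ℂ) ∧
      ((∀ g, conj ((χ : G → ℂ) g) = (χ : G → ℂ) g) → a + (p - 1) ≤ charDegree (χ : G → ℂ)) := by
  have hp' : p.Prime := Fact.out
  obtain ⟨Q, ⟨q, hq, hQq⟩, hQc, hxQ, hQne, hQs, hQcomm, hprop⟩ := exists_minimal_moved h hp hrk hx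
  haveI := Fact.mk hq
  have hxp : ∃ i, x ^ p ^ i = 1 := ⟨1, by rw [pow_one, ← hx, pow_orderOf_eq_one]⟩
  have hxQ' : zpowers x ≤ normalizer (Q : Set G) := zpowers_le.2 hxQ
  have hA : (Nat.card (zpowers x)).Coprime (Nat.card Q) := pGroup_coprime (isPGroup_zpowers hxp) hQc
  set Z := Q ⊓ centralizer ({x} : Set G) with hZ
  have hxZ : x ∈ normalizer (Z : Set G) :=
    mem_normalizer_inf hxQ (le_normalizer (mem_centralizer_singleton_iff.2 rfl))
  have hZne : ¬ Q ≤ Z := fun e => hQne (e.trans inf_le_right)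
  haveI hnil : Group.IsNilpotent Q := hQq.isNilpotent
  have hQnt : Nontrivial Q := by
    rw [nontrivial_iff_ne_bot]; intro e; exact hQne (e ▸ bot_le)
  have hdQ : ⁅Q, Q⁆ < Q := by
    refine lt_of_le_of_ne (commutator_le_self Q) fun e => ?_
    have h1 : commutator Q ≠ ⊤ := (Group.IsSolvable.commutator_lt_top_of_nontrivial Q).ne
    apply h1
    apply map_injective Q.subtype_injective
    rw [commutator_def, map_commutator, ← MonoidHom.range_eq_map, range_subtype]
    exact e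
  have hxd : x ∈ normalizer ((⁅Q, Q⁆ : Subgroup G) : Set G) :=
    SolvSF.commutator_normalized hxQ' hxQ' (mem_zpowers x)
  have hdZ : ⁅Q, Q⁆ ≤ Z := le_inf (commutator_le_self Q) (hprop _ hdQ hxd)
  have hQZ : Q ≤ normalizer (Z : Set G) := fun v hv => by
    refine CfsgLib.Comp.mem_normalizer_of_maps fun w hw => ?_
    have h1 : v * w * v⁻¹ * w⁻¹ ∈ Z := hdZ (commutator_mem_commutator hv (mem_inf.1 hw).1)
    have := Z.mul_mem h1 hw
    rwa [inv_mul_cancel_right] at this
  -- `Z` is central in `Q`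
  have hZc : ∀ z ∈ Z, ∀ v ∈ Q, z * v = v * z := by
    have h3 : ⁅⁅Q, zpowers x⁆, Z⁆ = ⊥ := by
      refine commutator_commutator_eq_bot_of_rotate ?_ ?_
      · have h1 : ⁅zpowers x, Z⁆ = ⊥ := by
          rw [commutator_eq_bot_iff_le_centralizer]
          intro v hv w hw
          obtain ⟨i, rfl⟩ := mem_zpowers_iff.1 hv
          exact ((show Commute w x from mem_centralizer_singleton_iff.1 (mem_inf.1 hw).2).zpow_right i).eq
        rw [h1, commutator_bot_left]
      · rw [commutator_eq_bot_iff_le_centralizer]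
        refine (commutator_mono (inf_le_left : Z ≤ Q) le_rfl).trans fun v hv w hw => ?_
        obtain ⟨i, rfl⟩ := mem_zpowers_iff.1 hw
        exact ((show Commute x v from (mem_centralizer_singleton_iff.1
          (mem_inf.1 (hdZ hv)).2).symm).zpow_left i).eq
    rw [hQcomm, commutator_eq_bot_iff_le_centralizer] at h3
    exact fun z hz v hv => h3 hv z hz
  -- the group `L = Q ⟨x⟩`
  set H := Q ⊔ zpowers x with hH
  have hQH : Q ≤ H := le_sup_left
  have hxH : x ∈ H := mem_sup_right (mem_zpowers x)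
  have hHn : H ≤ normalizer (Q : Set G) := sup_le le_normalizer hxQ'
  haveI : (Q.subgroupOf H).Normal := (normal_subgroupOf_iff_le_normalizer hQH).2 hHn
  letI := Fintype.ofFinite H
  set x' : H := ⟨x, hxH⟩ with hx'
  have hox : orderOf x' = p := by rw [hx', orderOf_mk, hx]
  have hdis : Disjoint (zpowers x) Q := disjoint_of_coprime_natCard hA
  have hxQ0 : ∀ i, i < p → x' ^ i ∈ Q.subgroupOf H → i = 0 := by
    intro i hi hm
    have h1 : x ^ i ∈ Q := by simpa [mem_subgroupOf, hx'] using hm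
    have h2 := disjoint_def.1 hdis (pow_mem (mem_zpowers x) i) h1
    rw [← orderOf_dvd_iff_pow_eq_one, hx] at h2
    exact Nat.eq_zero_of_dvd_of_lt h2 hi
  have hcard : Nat.card H = p * Nat.card (Q.subgroupOf H) := by
    rw [Nat.card_congr (subgroupOfEquivOfLe hQH).toEquiv]
    refine le_antisymm ?_ ?_
    · have := Nat.le_of_dvd (Nat.mul_pos Nat.card_pos Nat.card_pos) (Signalizer.card_sup_dvd (Y := zpowers x) hxQ')
      rw [Nat.card_zpowers, hx] at this
      exact this
    · have h1 : Nat.card (zpowers x) * Nat.card Q ∣ Nat.card H :=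
        hA.mul_dvd_of_dvd_of_dvd (card_dvd_of_le le_sup_right) (card_dvd_of_le le_sup_left)
      rw [Nat.card_zpowers, hx] at h1
      exact Nat.le_of_dvd Nat.card_pos h1
  have hZcent : ∀ z ∈ Z, ∀ w ∈ H, z * w = w * z := by
    intro z hz w hw
    have : H ≤ centralizer ({z} : Set G) :=
      sup_le (fun v hv => mem_centralizer_singleton_iff.2 (hZc z hz v hv).symm)
        (zpowers_le.2 (mem_centralizer_singleton_iff.2 (mem_centralizer_singleton_iff.1 (mem_inf.1 hz).2).symm))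
    exact (mem_centralizer_singleton_iff.1 (this hw)).symm
  -- covering
  have hcover : ∀ i, 0 < i → i < p → ∀ k ∈ Q.subgroupOf H, ∃ w : H, ∃ z ∈ center H,
      k * x' ^ i = z * (w * x' ^ i * w⁻¹) := by
    intro i hi hip k hk
    set y := x ^ i with hy
    have hyQ : y ∈ normalizer (Q : Set G) := pow_mem hxQ i
    have hxy : x ∈ zpowers y := by
      have hco : i.Coprime (orderOf x) := by
        rw [hx]
        exact (hp'.coprime_iff_not_dvd.2 fun hd => absurd (Nat.le_of_dvd hi hd) (by omega)).symm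
      obtain ⟨m, hm⟩ := exists_pow_eq_self_of_coprime hco
      exact ⟨(m : ℤ), (zpow_natCast y m).trans hm⟩
    have hyx : zpowers y ≤ zpowers x := zpowers_le.2 (pow_mem (mem_zpowers x) i)
    have hyN : zpowers y ≤ normalizer (Q : Set G) := hyx.trans hxQ'
    letI := Fintype.ofFinite Q
    haveI : (Z.subgroupOf Q).Normal := (normal_subgroupOf_iff_le_normalizer inf_le_left).2 hQZ
    have hcm : ∀ v : G, v ∈ Q → v * y * v⁻¹ * y⁻¹ ∈ Q := fun v hv => by
      have h1 := (mem_normalizer_iff.1 hyQ v⁻¹).1 (inv_mem hv)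
      simpa [mul_assoc] using Q.mul_mem hv h1
    let φ : Q → Q ⧸ Z.subgroupOf Q := fun v => QuotientGroup.mk ⟨_, hcm v v.2⟩
    have hresp : ∀ v w : Q, v⁻¹ * w ∈ Z.subgroupOf Q → φ v = φ w := by
      intro v w hvw
      have hvw' : (v : G)⁻¹ * w ∈ Z := hvw
      have h1 : Commute ((v : G)⁻¹ * w) y :=
        hZcent _ hvw' y (pow_mem hxH i)
      refine congrArg QuotientGroup.mk (Subtype.ext ?_)
      show (v : G) * y * (v : G)⁻¹ * y⁻¹ = (w : G) * y * (w : G)⁻¹ * y⁻¹
      calc (v : G) * y * (v : G)⁻¹ * y⁻¹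
          = (v : G) * (y * ((v : G)⁻¹ * w)) * (w : G)⁻¹ * y⁻¹ := by group
        _ = (v : G) * (((v : G)⁻¹ * w) * y) * (w : G)⁻¹ * y⁻¹ := by rw [h1.eq]
        _ = _ := by group
    let ψ : Q ⧸ Z.subgroupOf Q → Q ⧸ Z.subgroupOf Q :=
      Quotient.lift φ fun v w hvw => hresp v w (QuotientGroup.leftRel_apply.1 hvw)
    have hψ : Function.Injective ψ := by
      intro a b
      induction a using Quotient.inductionOn with | h v => ?_
      induction b using Quotient.inductionOn with | h w => ?_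
      intro hab
      have hab' : φ v = φ w := hab
      refine Quotient.sound (QuotientGroup.leftRel_apply.2 ?_)
      have h2 : ((v : G) * y * (v : G)⁻¹ * y⁻¹)⁻¹ * ((w : G) * y * (w : G)⁻¹ * y⁻¹) ∈ Z :=
        (QuotientGroup.eq.1 hab' :)
      -- the element `u = v⁻¹ w` is fixed modulo `Z`
      set u := (v : G)⁻¹ * w with hu
      have huQ : u ∈ Q := mul_mem (inv_mem v.2) w.2
      have h3 : u * y * u⁻¹ * y⁻¹ ∈ Z := by
        set a' := (v : G) * y * (v : G)⁻¹ * y⁻¹ with ha'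
        set b' := (w : G) * y * (w : G)⁻¹ * y⁻¹ with hb'
        set d' := b' * a'⁻¹ with hd'
        have hd : d' ∈ Z := by
          have h7 : a' * (a'⁻¹ * b') * a'⁻¹ ∈ Z := (mem_normalizer_iff.1 (hQZ (hcm v v.2)) _).1 h2
          rwa [show a' * (a'⁻¹ * b') * a'⁻¹ = d' by rw [hd']; group] at h7
        have hconj : ∀ t ∈ Z, (v : G)⁻¹ * t * v ∈ Z := fun t ht => by
          simpa using (mem_normalizer_iff.1 (hQZ (inv_mem v.2)) t).1 ht
        have e : u * y * u⁻¹ * y⁻¹ = (v : G)⁻¹ * d' * v := by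
          rw [hu, hd', ha', hb']; group
        rw [e]
        exact hconj _ hd
      have hfix : ∀ t ∈ zpowers y, t * u * t⁻¹ * u⁻¹ ∈ Z := by
        intro t ht
        obtain ⟨j, rfl⟩ := (IsOfFinOrder.mem_powers_iff_mem_zpowers (isOfFinOrder_of_finite y)).2 ht |>
          (Submonoid.mem_powers_iff _ _).1
        clear ht
        induction j with
        | zero => simp
        | succ j ih =>
          have h4 : y * u * y⁻¹ * u⁻¹ ∈ Z := by
            have := Z.inv_mem h3
            rwa [show (u * y * u⁻¹ * y⁻¹)⁻¹ = y * u * y⁻¹ * u⁻¹ by group] at this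
          have h5 := (mem_normalizer_iff.1 (hyx.trans (zpowers_le.2 hxZ) (mem_zpowers y)) _).1 ih
          rw [pow_succ', show y * y ^ j * u * (y * y ^ j)⁻¹ * u⁻¹ =
            y * (y ^ j * u * (y ^ j)⁻¹ * u⁻¹) * y⁻¹ * (y * u * y⁻¹ * u⁻¹) by group]
          exact Z.mul_mem h5 h4
      obtain ⟨c, hc, huc⟩ := CfsgLib.coprime_fixed_quotient (A := zpowers y) (N := Z) hyN
        (hA.coprime_dvd_left (card_dvd_of_le hyx)) (Or.inr hQs) inf_le_left hQZ
        (hyx.trans (zpowers_le.2 hxZ)) huQ hfix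
      show u ∈ Z
      have hcZ : c ∈ Z := mem_inf.2 ⟨(mem_inf.1 hc).1, mem_centralizer_singleton_iff.2
        ((mem_inf.1 hc).2 x hxy).symm⟩
      have := Z.mul_mem hcZ (Z.inv_mem huc)
      rwa [mul_inv_rev, inv_inv, mul_inv_cancel_left] at this
    obtain ⟨wq, hwq⟩ := Finite.surjective_of_injective hψ
      (QuotientGroup.mk (⟨(k : G), hk⟩ : Q))
    induction wq using Quotient.inductionOn with | h w => ?_
    have hwq' : φ w = QuotientGroup.mk (⟨(k : G), hk⟩ : Q) := hwq
    have h6 : ((w : G) * y * (w : G)⁻¹ * y⁻¹)⁻¹ * k ∈ Z := (QuotientGroup.eq.1 hwq' :)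
    set z := (k : G) * ((w : G) * y * (w : G)⁻¹ * y⁻¹)⁻¹ with hz
    have hzZ : z ∈ Z := by
      set c' := (w : G) * y * (w : G)⁻¹ * y⁻¹ with hc'
      have h7 : c' * (c'⁻¹ * k) * c'⁻¹ ∈ Z := (mem_normalizer_iff.1 (hQZ (hcm w w.2)) _).1 h6
      rwa [show c' * (c'⁻¹ * k) * c'⁻¹ = z by rw [hz]; group] at h7
    have hzH : z ∈ H := hQH (mem_inf.1 hzZ).1
    refine ⟨⟨w, hQH w.2⟩, ⟨z, hzH⟩, mem_center_iff.2 fun g => Subtype.ext (hZcent z hzZ g g.2).symm,
      Subtype.ext ?_⟩
    show (k : G) * x ^ i = z * ((w : G) * x ^ i * (w : G)⁻¹)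
    rw [← hy, hz]
    group
  -- linear characters kill `Q`
  have hlin : ∀ φ : H →* ℂˣ, ∀ k ∈ Q.subgroupOf H, φ k = 1 := by
    intro φ k hk
    have h1 : Q ≤ φ.ker.map H.subtype := by
      conv_lhs => rw [← hQcomm]
      rw [commutator_le]
      intro v hv w hw
      refine ⟨⁅(⟨v, hQH hv⟩ : H), ⟨w, (le_sup_right : zpowers x ≤ H) hw⟩⁆, ?_, rfl⟩
      rw [SetLike.mem_coe, MonoidHom.mem_ker, map_commutatorElement, commutatorElement_eq_one_iff_mul_comm]
      exact mul_comm _ _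
    obtain ⟨k', hk', e⟩ := h1 hk
    rw [show k = k' from Subtype.ext e.symm]
    exact hk'
  -- decomposition of the restriction
  set ψ₀ : H → ℂ := fun g => (χ : G → ℂ) g with hψ₀
  have hψc : IsCharacter H ψ₀ := isCharacter_restrict (isCharacter_of_irr χ.2) H
  have hdec := eq_sum_irr (isClassFunction_char hψc)
  choose n hn using fun θ : IrrCharacter H => classInner_char_nat hψc (isCharacter_of_irr θ.2)
  choose aθ haθ using fun θ : IrrCharacter H => exists_fix_mult (x := x') hp'.pos hox (isCharacter_of_irr θ.2)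
  have hdec' : ∀ g : H, (χ : G → ℂ) g = ∑ θ : IrrCharacter H, (n θ : ℂ) * (θ : H → ℂ) g := fun g => by
    have := congrFun hdec g
    rw [Finset.sum_apply] at this
    refine this.trans (Finset.sum_congr rfl fun θ _ => ?_)
    rw [Pi.smul_apply, smul_eq_mul, hn θ]
  obtain ⟨a, ha⟩ := exists_fix_mult hp'.pos hx (isCharacter_of_irr χ.2)
  refine ⟨a, ha, ?_⟩
  obtain ⟨hd, hd0⟩ := charDegree_spec' χ.2
  set d := charDegree (χ : G → ℂ) with hdd
  set dθ : IrrCharacter H → ℕ := fun θ => charDegree (θ : H → ℂ) with hdθ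
  have hθd : ∀ θ : IrrCharacter H, (θ : H → ℂ) 1 = dθ θ := fun θ => (charDegree_spec' θ.2).1
  have hale : ∀ θ, aθ θ ≤ dθ θ := fun θ => fix_mult_le hp'.pos (isCharacter_of_irr θ.2) (hθd θ) (haθ θ)
  have hsumd : d = ∑ θ : IrrCharacter H, n θ * dθ θ := by
    have h1 := hdec' 1
    rw [OneMemClass.coe_one, hd] at h1
    simp only [hθd] at h1
    exact_mod_cast h1
  have hsuma : a = ∑ θ : IrrCharacter H, n θ * aθ θ := by
    have h1 : (p : ℂ) * a = (p : ℂ) * ∑ θ : IrrCharacter H, (n θ : ℂ) * (aθ θ : ℂ) := by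
      rw [← ha, Finset.mul_sum, Finset.sum_congr rfl fun i _ => (show (χ : G → ℂ) (x ^ i) =
        ∑ θ : IrrCharacter H, (n θ : ℂ) * (θ : H → ℂ) (x' ^ i) from hdec' (x' ^ i)), Finset.sum_comm]
      refine Finset.sum_congr rfl fun θ _ => ?_
      rw [← Finset.mul_sum, haθ θ]; ring
    exact_mod_cast mul_left_cancel₀ (Nat.cast_ne_zero.2 hp'.ne_zero) h1
  -- a constituent nontrivial on `Q`
  obtain ⟨θ₀, hn₀, hθ₀⟩ : ∃ θ : IrrCharacter H, n θ ≠ 0 ∧
      ∃ k ∈ Q.subgroupOf H, (θ : H → ℂ) k ≠ (θ : H → ℂ) 1 := by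
    by_contra hno
    simp only [not_exists, not_and, not_not] at hno
    apply hQne
    intro v hv
    haveI := h.simple
    have h1 : (χ : G → ℂ) v = (χ : G → ℂ) 1 := by
      have e1 := hdec' ⟨v, hQH hv⟩
      have e2 := hdec' 1
      rw [OneMemClass.coe_one] at e2
      rw [e2]
      refine e1.trans (Finset.sum_congr rfl fun θ _ => ?_)
      by_cases hn0 : n θ = 0
      · rw [hn0]; simp
      · rw [hno θ hn0 ⟨v, hQH hv⟩ hv]
    have hker := (charKernel_normal (χ : G → ℂ) (isCharacter_of_irr χ.2)).eq_bot_or_eq_top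
    rcases hker with e | e
    · have := (mem_charKernel (isCharacter_of_irr χ.2) v).2 h1
      rw [e, mem_bot] at this
      rw [this]; exact one_mem _
    · exact absurd (Subtype.ext (irr_eq_one_of_kernel_top χ.2 fun g =>
        (mem_charKernel (isCharacter_of_irr χ.2) g).1 (e ▸ mem_top g))) hχ
  have hgap : ∀ θ : IrrCharacter H, (∃ k ∈ Q.subgroupOf H, (θ : H → ℂ) k ≠ (θ : H → ℂ) 1) →
      aθ θ + (p - 2) ≤ dθ θ ∧
        ((∀ g, conj ((θ : H → ℂ) g) = (θ : H → ℂ) g) → aθ θ + (p - 1) ≤ dθ θ) := by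
    intro θ hθ
    obtain ⟨b, hb, hb1, hb2⟩ := irr_fix_bound hp hox hxQ0 hcard hcover hlin θ hθ
    have : b = aθ θ := by
      have h1 := hb.symm.trans (haθ θ)
      exact_mod_cast mul_left_cancel₀ (Nat.cast_ne_zero.2 hp'.ne_zero) h1
    exact this ▸ ⟨hb1, hb2⟩
  obtain ⟨h₀, h₀r⟩ := hgap θ₀ hθ₀
  have hkey : ∀ (s : Finset (IrrCharacter H)) (δ : IrrCharacter H → ℕ),
      (∀ θ ∈ s, n θ ≠ 0 ∧ aθ θ + δ θ ≤ dθ θ) → a + ∑ θ ∈ s, δ θ ≤ d := by
    intro s δ hs
    rw [hsuma, hsumd, ← Finset.sum_add_sum_compl s (fun θ => n θ * aθ θ),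
      ← Finset.sum_add_sum_compl s (fun θ => n θ * dθ θ)]
    have h1 : ∑ θ ∈ s, n θ * aθ θ + ∑ θ ∈ s, δ θ ≤ ∑ θ ∈ s, n θ * dθ θ := by
      rw [← Finset.sum_add_distrib]
      refine Finset.sum_le_sum fun θ hθ => ?_
      obtain ⟨h1, h2⟩ := hs θ hθ
      calc n θ * aθ θ + δ θ ≤ n θ * aθ θ + n θ * δ θ :=
            Nat.add_le_add_left (Nat.le_mul_of_pos_left _ (Nat.pos_of_ne_zero h1)) _
        _ = n θ * (aθ θ + δ θ) := (mul_add _ _ _).symm
        _ ≤ _ := Nat.mul_le_mul_left _ h2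
    have h2 : ∑ θ ∈ sᶜ, n θ * aθ θ ≤ ∑ θ ∈ sᶜ, n θ * dθ θ :=
      Finset.sum_le_sum fun θ _ => Nat.mul_le_mul_left _ (hale θ)
    omega
  refine ⟨by simpa using hkey {θ₀} (fun _ => p - 2) (by simpa using ⟨hn₀, h₀⟩), fun hreal => ?_⟩
  by_cases hr : ∀ g, conj ((θ₀ : H → ℂ) g) = (θ₀ : H → ℂ) g
  · simpa using hkey {θ₀} (fun _ => p - 1) (by simpa using ⟨hn₀, h₀r hr⟩)
  set θ₁ := conjIrr θ₀ with hθ₁
  have hne : θ₀ ≠ θ₁ := fun e => hr fun g => by
    have := congrFun (congrArg Subtype.val e) g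
    rw [hθ₁, conjIrr_apply] at this
    exact this.symm
  have hn₁ : n θ₁ = n θ₀ := by
    have h1 : classInner ψ₀ (θ₁ : H → ℂ) = conj (classInner ψ₀ (θ₀ : H → ℂ)) := by
      unfold classInner
      rw [map_mul, map_inv₀, map_natCast, map_sum]
      congr 1
      refine Finset.sum_congr rfl fun g _ => ?_
      rw [map_mul, hθ₁, conjIrr_apply, Complex.conj_conj]
      simp only [hψ₀, hreal, Complex.conj_conj]
    rw [hn, hn, map_natCast] at h1
    exact_mod_cast h1
  obtain ⟨h₁, -⟩ := hgap θ₁ (by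
    obtain ⟨k, hk, hne'⟩ := hθ₀
    refine ⟨k, hk, fun e => hne' ?_⟩
    rw [hθ₁, conjIrr_apply, conjIrr_apply] at e
    exact (starRingEnd ℂ).injective e)
  have h2 := hkey {θ₀, θ₁} (fun _ => p - 2) (by
    intro θ hθ
    rcases Finset.mem_insert.1 hθ with rfl | hθ
    · exact ⟨hn₀, h₀⟩
    · rw [Finset.mem_singleton.1 hθ]; exact ⟨hn₁ ▸ hn₀, h₁⟩)
  rw [Finset.sum_pair hne] at h2
  omega

end CfsgLib.PairSol
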