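import Cfsg.Agent.Lib.Blocks.Central
import Cfsg.Agent.Lib.Blocks.Principal
import Cfsg.Agent.Lib.CharTheory.More
import Cfsg.Agent.Lib.CharTheory.AbelianInertia

/-!
An element of order `p` acting on a `p'`-group whose fixed points are central: how many times the eigenvalue one
occurs in a faithful enough irreducible character.
-/

set_option autoImplicit false
set_option linter.unusedSectionVars false
set_option linter.style.haveILetI false

namespace CfsgLib.PairSol

open Cfsg CfsgLib.CharTheory CfsgLib.Blocks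
open scoped ComplexConjugate

universe u

variable {L : Type u} [Group L]

/-- Multiplying by a central element keeps the absolute values. -/
theorem norm_char_central_mul [Fintype L] (χ : IrrCharacter L) {z : L} (hz : z ∈ Subgroup.center L) (y : L) :
    ‖(χ : L → ℂ) (z * y)‖ = ‖(χ : L → ℂ) y‖ := by
  classical
  set f : L → ℂ := fun g => if g = z then 1 else 0 with hf
  have hfc : IsClassFunction L f := by
    intro g k
    simp only [hf]
    have hk : k * z * k⁻¹ = z := by rw [Subgroup.mem_center_iff.1 hz k, mul_inv_cancel_right]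
    by_cases hg : g = z
    · rw [if_pos hg, if_pos (by rw [hg, hk])]
    · rw [if_neg hg, if_neg]
      intro e
      apply hg
      calc g = k⁻¹ * (k * g * k⁻¹) * k := by group
        _ = k⁻¹ * (k * z * k⁻¹) * k := by rw [e, hk]
        _ = z := by group
  have key : ∀ y : L, (χ : L → ℂ) (z * y) = (χ : L → ℂ) z / (χ : L → ℂ) 1 * (χ : L → ℂ) y := fun y => by
    have h := sum_classFun_mul_shift hfc χ y
    simp only [hf, ite_mul, one_mul, zero_mul, Finset.sum_ite_eq', Finset.mem_univ, if_true] at h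
    rw [h, omega]
    simp
  obtain ⟨hd, hd0⟩ := charDegree_spec' χ.2
  have hne : (χ : L → ℂ) 1 ≠ 0 := by rw [hd]; exact Nat.cast_ne_zero.2 hd0.ne'
  have h1 := congrArg (‖·‖) (key z⁻¹)
  rw [mul_inv_cancel, irr_inv] at h1
  simp only [norm_mul, norm_div, Complex.norm_conj] at h1
  have h2 : ‖(χ : L → ℂ) z‖ / ‖(χ : L → ℂ) 1‖ = 1 := by
    have hpos : 0 < ‖(χ : L → ℂ) 1‖ := norm_pos_iff.2 hne
    rw [div_mul_eq_mul_div, eq_div_iff hpos.ne'] at h1
    rw [div_eq_one_iff_eq hpos.ne']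
    nlinarith [norm_nonneg ((χ : L → ℂ) z)]
  rw [key, norm_mul, norm_div, h2, one_mul]

theorem sum_zpowers [Finite L] {x : L} {p : ℕ} (hx : orderOf x = p) [Fintype (Subgroup.zpowers x)] (f : L → ℂ) :
    ∑ v : Subgroup.zpowers x, f v = ∑ i ∈ Finset.range p, f (x ^ i) := by
  subst hx
  rw [← Fin.sum_univ_eq_sum_range (fun i => f (x ^ i))]
  exact (Fintype.sum_equiv (finEquivZPowers (isOfFinOrder_of_finite x)) (fun i => f (x ^ (i : ℕ))) (fun v => f v)
    fun i => rfl).symm

/-- The average over a cyclic subgroup is the multiplicity of the trivial character. -/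
theorem exists_fix_mult [Finite L] {x : L} {p : ℕ} (hp : 0 < p) (hx : orderOf x = p) {χ : L → ℂ}
    (hχ : IsCharacter L χ) :
    ∃ a : ℕ, ∑ i ∈ Finset.range p, χ (x ^ i) = (p : ℂ) * a := by
  letI := Fintype.ofFinite (Subgroup.zpowers x)
  obtain ⟨a, ha⟩ := classInner_char_nat (isCharacter_restrict hχ (Subgroup.zpowers x))
    (isCharacter_one (G := Subgroup.zpowers x))
  refine ⟨a, ?_⟩
  unfold classInner at ha
  simp only [map_one, mul_one] at ha
  rw [Nat.card_zpowers, hx, inv_mul_eq_iff_eq_mul₀ (Nat.cast_ne_zero.2 hp.ne')] at ha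
  rw [← sum_zpowers hx]
  exact ha

theorem fix_mult_le [Finite L] {x : L} {p : ℕ} (hp : 0 < p) {χ : L → ℂ} (hχ : IsCharacter L χ) {d a : ℕ}
    (hd : χ 1 = d) (ha : ∑ i ∈ Finset.range p, χ (x ^ i) = (p : ℂ) * a) : a ≤ d := by
  have h1 : ‖∑ i ∈ Finset.range p, χ (x ^ i)‖ ≤ (p : ℝ) * d := by
    refine (norm_sum_le _ _).trans ((Finset.sum_le_sum fun i _ => norm_char_le hχ (x ^ i)).trans ?_)
    rw [hd, Complex.norm_natCast, Finset.sum_const, Finset.card_range, nsmul_eq_mul]
  rw [ha, norm_mul, Complex.norm_natCast, Complex.norm_natCast] at h1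
  exact_mod_cast le_of_mul_le_mul_left h1 (by exact_mod_cast hp)

open Classical in
/-- The local eigenvalue bound. -/
theorem irr_fix_bound [Fintype L] {p : ℕ} [Fact p.Prime] (hp : 5 ≤ p) {Q : Subgroup L} [Q.Normal] {x : L}
    (hx : orderOf x = p) (hxQ : ∀ i, i < p → x ^ i ∈ Q → i = 0) (hcard : Nat.card L = p * Nat.card Q)
    (hcover : ∀ i, 0 < i → i < p → ∀ h ∈ Q, ∃ w : L, ∃ z ∈ Subgroup.center L,
      h * x ^ i = z * (w * x ^ i * w⁻¹))
    (hlin : ∀ φ : L →* ℂˣ, ∀ h ∈ Q, φ h = 1)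
    (θ : IrrCharacter L) (hθQ : ∃ h ∈ Q, (θ : L → ℂ) h ≠ (θ : L → ℂ) 1) :
    ∃ a : ℕ, (∑ i ∈ Finset.range p, (θ : L → ℂ) (x ^ i)) = (p : ℂ) * a ∧
      a + (p - 2) ≤ charDegree (θ : L → ℂ) ∧
      ((∀ g, conj ((θ : L → ℂ) g) = (θ : L → ℂ) g) → a + (p - 1) ≤ charDegree (θ : L → ℂ)) := by
  have hp' : p.Prime := Fact.out
  have hθ := isCharacter_of_irr θ.2
  obtain ⟨hd, hd0⟩ := charDegree_spec' θ.2
  set d := charDegree (θ : L → ℂ) with hddef
  obtain ⟨a, ha⟩ := exists_fix_mult hp'.pos hx hθ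
  refine ⟨a, ha, ?_⟩
  have hxp : x ^ p = 1 := by rw [← hx, pow_orderOf_eq_one]
  -- degree at least two
  have hd2 : 2 ≤ d := by
    by_contra hlt
    obtain ⟨φ, hφ⟩ := exists_hom_of_degree_one hθ (by rw [hd]; norm_cast; omega)
    obtain ⟨h, hh, hne⟩ := hθQ
    apply hne
    rw [hφ]
    simp [hlin φ h hh]
  -- the covering of `L`
  let e : Fin p × Q → L := fun v => (v.2 : L) * x ^ (v.1 : ℕ)
  have he : Function.Bijective e := by
    refine (Fintype.bijective_iff_injective_and_card e).2 ⟨?_, ?_⟩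
    · rintro ⟨i, h⟩ ⟨j, k⟩ hij
      have hij' : (h : L) * x ^ (i : ℕ) = k * x ^ (j : ℕ) := hij
      have key : ∀ (i j : Fin p) (h k : Q), (h : L) * x ^ (i : ℕ) = k * x ^ (j : ℕ) → (i : ℕ) ≤ j → i = j := by
        intro i j h k e hle
        have h1 : x ^ ((j : ℕ) - i) ∈ Q := by
          have e2 : x ^ ((j : ℕ) - i) = (k : L)⁻¹ * h := by
            rw [eq_inv_mul_iff_mul_eq]
            refine mul_right_cancel (b := x ^ (i : ℕ)) ?_
            rw [mul_assoc, ← pow_add, Nat.sub_add_cancel hle, e]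
          rw [e2]; exact Q.mul_mem (Q.inv_mem k.2) h.2
        have := hxQ _ (by omega) h1
        exact Fin.ext (by omega)
      have hii : i = j := by
        rcases le_total (i : ℕ) j with hle | hle
        · exact key i j h k hij' hle
        · exact (key j i k h hij'.symm hle).symm
      subst hii
      exact Prod.ext rfl (Subtype.ext (mul_right_cancel hij'))
    · rw [Fintype.card_prod, Fintype.card_fin, ← Nat.card_eq_fintype_card, ← Nat.card_eq_fintype_card,
        hcard]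
  have hsum : ∀ f : L → ℂ, ∑ g : L, f g = ∑ i : Fin p, ∑ h : Q, f ((h : L) * x ^ (i : ℕ)) := fun f => by
    rw [← Fintype.sum_prod_type']
    exact (Fintype.sum_bijective e he _ _ fun v => rfl).symm
  -- a linear character detecting `x`
  obtain ⟨lam, hlamQ, hlamx⟩ : ∃ lam : L →* ℂˣ, (∀ h ∈ Q, lam h = 1) ∧ lam x ≠ 1 := by
    have hidx : Q.index = p := by
      have := Q.card_mul_index
      rw [hcard, mul_comm p] at this
      exact Nat.eq_of_mul_eq_mul_left Nat.card_pos this
    haveI : IsCyclic (L ⧸ Q) := isCyclic_of_prime_card (p := p) hidx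
    letI := IsCyclic.commGroup (α := L ⧸ Q)
    have hx1 : QuotientGroup.mk' Q x ≠ 1 := fun e => absurd (hxQ 1 hp'.one_lt (by
      rw [pow_one]; exact (QuotientGroup.eq_one_iff x).1 e)) one_ne_zero
    obtain ⟨φ, hφ⟩ := CommGroup.exists_apply_ne_one_of_hasEnoughRootsOfUnity (L ⧸ Q) ℂ hx1
    exact ⟨φ.comp (QuotientGroup.mk' Q), fun h hh => by
      simp [(QuotientGroup.eq_one_iff h).2 hh], hφ⟩
  have hlame : ∀ (i : Fin p) (h : Q), lam ((h : L) * x ^ (i : ℕ)) = lam x ^ (i : ℕ) := fun i h => by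
    rw [map_mul, map_pow, hlamQ h h.2, one_mul]
  have hω : orderOf (lam x : ℂˣ) = p :=
    orderOf_eq_prime (by rw [← map_pow, hxp, map_one]) hlamx
  -- dichotomy
  by_cases hvan : ∀ g, g ∉ Q → (θ : L → ℂ) g = 0
  · have hS : ∑ i ∈ Finset.range p, (θ : L → ℂ) (x ^ i) = d := by
      rw [Finset.sum_eq_single 0, pow_zero, hd]
      · intro i hi hi0
        exact hvan _ fun hm => hi0 (hxQ i (Finset.mem_range.1 hi) hm)
      · intro h; exact absurd (Finset.mem_range.2 hp'.pos) h
    have hpa : p * a = d := by exact_mod_cast ha.symm.trans hS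
    have hle : a + (p - 1) ≤ d := by
      rcases a with _ | a
      · omega
      · rw [← hpa]
        obtain ⟨m, rfl⟩ : ∃ m, p = m + 1 := ⟨p - 1, by omega⟩
        simp only [Nat.add_sub_cancel]
        nlinarith
    exact ⟨le_trans (by omega) hle, fun _ => hle⟩
  obtain ⟨g0, hg0Q, hg0⟩ : ∃ g, g ∉ Q ∧ (θ : L → ℂ) g ≠ 0 := by
    simpa using hvan
  -- the inner sum over `Q`
  have horth : ∀ t, 0 < t → t < p → ∑ g : L, (θ : L → ℂ) g * conj ((θ : L → ℂ) g) * ((lam g : ℂ) ^ t) = 0 := by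
    intro t ht htp
    set φ : L → ℂ := fun g => ((lam g : ℂ) ^ t) with hφ
    have hφi : IsIrrCharacter L φ := by
      have := isIrrCharacter_linear (lam ^ t)
      simpa [hφ] using this
    have hirr := isIrrCharacter_mul_linear θ.2 hφi (by simp [hφ])
    have hne : (θ : L → ℂ) * φ ≠ (θ : L → ℂ) := by
      intro hEq
      obtain ⟨⟨i, h⟩, hih⟩ := he.2 g0
      have h1 := congrFun hEq g0
      rw [Pi.mul_apply, mul_right_eq_self₀] at h1
      refine h1.elim (fun h2 => ?_) hg0
      simp only [hφ] at h2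
      rw [← hih] at h2
      simp only [e] at h2
      rw [hlame, ← Units.val_pow_eq_pow_val, ← pow_mul, Units.val_eq_one, ← orderOf_dvd_iff_pow_eq_one, hω,
        hp'.dvd_mul] at h2
      have hi0 : (i : ℕ) ≠ 0 := fun e0 => hg0Q (by
        rw [← hih]; simp only [e]; rw [e0, pow_zero, mul_one]; exact h.2)
      rcases h2 with h2 | h2
      · have := Nat.le_of_dvd (Nat.pos_of_ne_zero hi0) h2
        omega
      · have := Nat.le_of_dvd ht h2
        omega
    have h1 := classInner_irr_ne hirr θ.2 hne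
    unfold classInner at h1
    rw [mul_eq_zero] at h1
    rcases h1 with h1 | h1
    · exact absurd h1 (inv_ne_zero (Nat.cast_ne_zero.2 Nat.card_pos.ne'))
    · rw [← h1]
      refine Finset.sum_congr rfl fun g _ => ?_
      simp only [hφ, Pi.mul_apply]
      ring
  set A : Fin p → ℝ := fun i => ∑ h : Q, ‖(θ : L → ℂ) ((h : L) * x ^ (i : ℕ))‖ ^ 2 with hA
  have hAtot : ∑ i : Fin p, A i = (p : ℝ) * Nat.card Q := by
    have h1 := sum_norm_sq_irr θ.2
    rw [hcard, Nat.cast_mul] at h1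
    rw [← h1]
    have := hsum fun g => ((‖(θ : L → ℂ) g‖ ^ 2 : ℝ) : ℂ)
    simp only [← Complex.ofReal_sum] at this
    exact (Complex.ofReal_inj.1 this).symm
  have hA0 : A ⟨0, hp'.pos⟩ = Nat.card Q := by
    have h0 : ∑ t ∈ Finset.range p, ∑ g : L, (θ : L → ℂ) g * conj ((θ : L → ℂ) g) * ((lam g : ℂ) ^ t) =
        (Nat.card L : ℂ) := by
      rw [Finset.sum_eq_single 0]
      · simp only [pow_zero, mul_one]
        exact sum_mul_conj_irr θ.2
      · intro t ht ht0
        exact horth t (Nat.pos_of_ne_zero ht0) (Finset.mem_range.1 ht)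
      · intro h; exact absurd (Finset.mem_range.2 hp'.pos) h
    rw [Finset.sum_comm, hsum] at h0
    simp only [← Finset.mul_sum, hlame] at h0
    have hgeo : ∀ i : Fin p, ∑ t ∈ Finset.range p, (((lam x : ℂˣ) ^ (i : ℕ) : ℂˣ) : ℂ) ^ t =
        if i = ⟨0, hp'.pos⟩ then (p : ℂ) else 0 := by
      intro i
      by_cases hi : i = ⟨0, hp'.pos⟩
      · subst hi; simp
      rw [if_neg hi]
      have hi0 : (i : ℕ) ≠ 0 := fun e0 => hi (Fin.ext e0)
      have hne : (((lam x : ℂˣ) ^ (i : ℕ) : ℂˣ) : ℂ) ≠ 1 := by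
        rw [Ne, Units.val_eq_one, ← orderOf_dvd_iff_pow_eq_one, hω]
        intro hd'
        have := Nat.le_of_dvd (Nat.pos_of_ne_zero hi0) hd'
        omega
      rw [geom_sum_eq hne]
      have : ((((lam x : ℂˣ) ^ (i : ℕ) : ℂˣ) : ℂ)) ^ p = 1 := by
        rw [← Units.val_pow_eq_pow_val, Units.val_eq_one, ← pow_mul, mul_comm, pow_mul, ← map_pow, hxp,
          map_one, one_pow]
      rw [this, sub_self, zero_div]
    simp only [hgeo, mul_ite, mul_zero] at h0
    rw [Finset.sum_eq_single ⟨0, hp'.pos⟩] at h0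
    · simp only [if_pos, ← Finset.sum_mul, pow_zero, mul_one] at h0
      rw [hcard, Nat.cast_mul, mul_comm] at h0
      have h1 := mul_left_cancel₀ (Nat.cast_ne_zero.2 hp'.ne_zero) h0
      simp only [hA, pow_zero, mul_one]
      apply Complex.ofReal_inj.1
      push_cast
      rw [← h1]
      refine Finset.sum_congr rfl fun h _ => ?_
      rw [Complex.mul_conj']
    · intro i _ hi
      exact Finset.sum_eq_zero fun h _ => if_neg hi
    · intro h; exact absurd (Finset.mem_univ _) h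
  have hAi : ∀ i : Fin p, i ≠ ⟨0, hp'.pos⟩ → A i = (Nat.card Q : ℝ) * ‖(θ : L → ℂ) (x ^ (i : ℕ))‖ ^ 2 := by
    intro i hi
    have hi0 : 0 < (i : ℕ) := Nat.pos_of_ne_zero fun e0 => hi (Fin.ext e0)
    simp only [hA]
    rw [Finset.sum_congr rfl (g := fun _ => ‖(θ : L → ℂ) (x ^ (i : ℕ))‖ ^ 2) fun h _ => ?_, Finset.sum_const,
      Finset.card_univ, nsmul_eq_mul, Nat.card_eq_fintype_card]
    obtain ⟨w, z, hz, hw⟩ := hcover i hi0 i.2 h h.2
    rw [hw, norm_char_central_mul θ hz, isClassFunction_irr θ.2 (x ^ (i : ℕ)) w]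
  -- the squares over the nontrivial powers sum to `p - 1`
  set T := (Finset.range p).erase 0 with hT
  have hsq : ∑ i ∈ T, ‖(θ : L → ℂ) (x ^ i)‖ ^ 2 = (p : ℝ) - 1 := by
    have h1 := Finset.add_sum_erase Finset.univ A (Finset.mem_univ (⟨0, hp'.pos⟩ : Fin p))
    rw [hA0, hAtot, Finset.sum_congr rfl fun i hi => hAi i (Finset.ne_of_mem_erase hi), ← Finset.mul_sum] at h1
    have h2 : (Nat.card Q : ℝ) ≠ 0 := Nat.cast_ne_zero.2 Nat.card_pos.ne'
    have h3 : ∑ i ∈ (Finset.univ : Finset (Fin p)).erase ⟨0, hp'.pos⟩, ‖(θ : L → ℂ) (x ^ (i : ℕ))‖ ^ 2 =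
        (p : ℝ) - 1 := mul_left_cancel₀ h2 (by linear_combination h1)
    rw [← h3, hT]
    symm
    refine Finset.sum_bij (fun i _ => (i : ℕ)) (fun i hi => ?_) (fun i _ j _ e0 => Fin.ext e0) (fun n hn => ?_)
      (fun i _ => rfl)
    · exact Finset.mem_erase.2 ⟨fun e0 => Finset.ne_of_mem_erase hi (Fin.ext e0), Finset.mem_range.2 i.2⟩
    · exact ⟨⟨n, Finset.mem_range.1 (Finset.mem_of_mem_erase hn)⟩, Finset.mem_erase.2
        ⟨fun e0 => Finset.ne_of_mem_erase hn (congrArg Fin.val e0), Finset.mem_univ _⟩, rfl⟩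
  have hsplit : (d : ℂ) + ∑ i ∈ T, (θ : L → ℂ) (x ^ i) = (p : ℂ) * a := by
    rw [← ha, ← Finset.add_sum_erase _ _ (Finset.mem_range.2 hp'.pos), pow_zero, hd]
  -- `p ∣ d² - 1`
  have hcong : (p : ℤ) ∣ (d : ℤ) ^ 2 - 1 := by
    letI := Fintype.ofFinite (Subgroup.zpowers x)
    obtain ⟨m, hm⟩ := classInner_char_nat (isCharacter_restrict hθ (Subgroup.zpowers x))
      (isCharacter_restrict hθ (Subgroup.zpowers x))
    unfold classInner at hm
    rw [Nat.card_zpowers, hx, inv_mul_eq_iff_eq_mul₀ (Nat.cast_ne_zero.2 hp'.ne_zero),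
      sum_zpowers hx (fun g => (θ : L → ℂ) g * conj ((θ : L → ℂ) g)),
      ← Finset.add_sum_erase _ _ (Finset.mem_range.2 hp'.pos), pow_zero, hd] at hm
    simp only [Complex.mul_conj', map_natCast] at hm
    have h1 : ∑ i ∈ T, ((‖(θ : L → ℂ) (x ^ i)‖ : ℂ) ^ 2) = ((p : ℂ) - 1) := by
      have := congrArg (fun r : ℝ => (r : ℂ)) hsq
      push_cast at this
      exact this
    rw [h1] at hm
    refine ⟨(m : ℤ) - 1, ?_⟩
    have : ((d : ℂ) * d - 1) = (p : ℂ) * ((m : ℂ) - 1) := by linear_combination hm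
    rw [sq]
    exact_mod_cast this
  -- the bound
  have hre : (p : ℝ) * a ≤ d + ((p : ℝ) - 1) := by
    have h1 := congrArg Complex.re hsplit
    simp only [Complex.add_re, Complex.natCast_re, Complex.re_sum, Complex.mul_re, Complex.natCast_im,
      mul_zero, sub_zero] at h1
    rw [← h1]
    have h2 : ∀ u : ℂ, u.re ≤ (‖u‖ ^ 2 + 1) / 2 := fun u => by
      have := Complex.re_le_norm u
      nlinarith [sq_nonneg (‖u‖ - 1)]
    have h3 := Finset.sum_le_sum fun i (_ : i ∈ T) => h2 ((θ : L → ℂ) (x ^ i))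
    rw [← Finset.sum_div, Finset.sum_add_distrib, hsq, Finset.sum_const, nsmul_eq_mul, mul_one, hT,
      Finset.card_erase_of_mem (Finset.mem_range.2 hp'.pos), Finset.card_range,
      Nat.cast_sub hp'.one_le] at h3
    push_cast at h3
    linarith
  have hpa : p * a + 1 ≤ d + p := by
    have : ((p * a + 1 : ℕ) : ℝ) ≤ ((d + p : ℕ) : ℝ) := by push_cast; linarith
    exact_mod_cast this
  obtain ⟨m, hm⟩ : ∃ m, p = m + 5 := ⟨p - 5, by omega⟩
  by_cases hbig : p + 1 ≤ d
  · have hle : a + (p - 1) ≤ d := by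
      have h1 : p * (a + (p - 1)) ≤ p * d := by
        obtain ⟨k, hk⟩ : ∃ k, d = p + 1 + k := ⟨d - (p + 1), by omega⟩
        rw [show p - 1 = m + 4 by omega]
        subst hm
        rw [hk]
        nlinarith
      exact Nat.le_of_mul_le_mul_left h1 hp'.pos
    exact ⟨le_trans (by omega) hle, fun _ => hle⟩
  have hdp : d + 1 = p := by
    have h1 := (Nat.prime_iff_prime_int.1 hp').dvd_mul.1
      (show (p : ℤ) ∣ ((d : ℤ) - 1) * ((d : ℤ) + 1) by
        rw [show ((d : ℤ) - 1) * ((d : ℤ) + 1) = (d : ℤ) ^ 2 - 1 by ring]; exact hcong)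
    rcases h1 with h1 | h1
    · have h2 : p ∣ d - 1 := by
        have h3 : ((d : ℤ) - 1) = ((d - 1 : ℕ) : ℤ) := by omega
        rw [h3] at h1
        exact_mod_cast h1
      have := Nat.le_of_dvd (by omega) h2
      omega
    · have h2 : p ∣ d + 1 := by exact_mod_cast h1
      have := Nat.le_of_dvd (by omega) h2
      rcases Nat.lt_or_ge (d + 1) (p + p) with hlt | hge
      · obtain ⟨k, hk⟩ := h2
        rcases k with _ | _ | k
        · omega
        · omega
        · nlinarith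
      · omega
  have ha1 : a ≤ 1 := by
    by_contra h2
    have : p * 2 ≤ p * a := Nat.mul_le_mul_left _ (by omega)
    omega
  refine ⟨by omega, fun hreal => ?_⟩
  by_contra hcon
  have ha1' : a = 1 := by omega
  -- the real case: `1` would be twice an algebraic integer
  have h1 : ∑ i ∈ T, (θ : L → ℂ) (x ^ i) = 1 := by
    have hd' : (d : ℂ) + 1 = p := by exact_mod_cast hdp
    rw [ha1', Nat.cast_one] at hsplit
    linear_combination hsplit - hd'
  have hpair : ∀ i ∈ T, (θ : L → ℂ) (x ^ (p - i)) = (θ : L → ℂ) (x ^ i) := by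
    intro i hi
    have hi' := Finset.mem_range.1 (Finset.mem_of_mem_erase hi)
    rw [pow_sub x hi'.le, hxp, one_mul, irr_inv θ, hreal]
  set U := T.filter (fun i => 2 * i < p) with hU
  have h2 : ∑ i ∈ T.filter (fun i => ¬ 2 * i < p), (θ : L → ℂ) (x ^ i) = ∑ i ∈ U, (θ : L → ℂ) (x ^ i) := by
    have hodd := hp'.eq_two_or_odd.resolve_left (by omega)
    refine Finset.sum_bij' (fun i _ => p - i) (fun i _ => p - i) ?_ ?_ ?_ ?_ ?_
    · intro i hi
      simp only [hU, hT, Finset.mem_filter, Finset.mem_erase, Finset.mem_range] at hi ⊢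
      omega
    · intro i hi
      simp only [hU, hT, Finset.mem_filter, Finset.mem_erase, Finset.mem_range] at hi ⊢
      omega
    · intro i hi
      simp only [hT, Finset.mem_filter, Finset.mem_erase, Finset.mem_range] at hi
      omega
    · intro i hi
      simp only [hU, hT, Finset.mem_filter, Finset.mem_erase, Finset.mem_range] at hi
      omega
    · intro i hi
      exact (hpair i (Finset.mem_filter.1 hi).1).symm
  rw [← Finset.sum_filter_add_sum_filter_not T (fun i => 2 * i < p), h2, ← two_mul] at h1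
  have h3 : IsIntegral ℤ (((1 / 2 : ℚ)) : ℂ) := by
    have : (((1 / 2 : ℚ)) : ℂ) = ∑ i ∈ U, (θ : L → ℂ) (x ^ i) := by
      push_cast
      linear_combination (-1 / 2 : ℂ) * h1
    rw [this]
    exact IsIntegral.sum _ fun i _ => isIntegral_of_char hθ _
  obtain ⟨z, hz⟩ := exists_int_of_isIntegral_ratCast h3
  have h4 : (2 * z : ℤ) = 1 := by
    have h5 : ((2 * z : ℤ) : ℂ) = 1 := by
      have : (((1 / 2 : ℚ)) : ℂ) = (z : ℂ) := by rw [hz]; push_cast; rfl
      push_cast at this ⊢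
      rw [← this]; norm_num
    exact_mod_cast h5
  omega

end CfsgLib.PairSol
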