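import Cfsg.Agent.Lib.PairSol.Basic
import Cfsg.Agent.Lib.SolvSF.CoreBalance
import Cfsg.Agent.Lib.HallPi

/-!
A minimal counterexample to the pairs criterion of solvability: local facts.
-/

set_option autoImplicit false
set_option linter.unusedSectionVars false
set_option linter.style.haveILetI false

namespace CfsgLib.PairSol

open Cfsg Subgroup
open scoped Pointwise commutatorElement

universe u

/-- A nonabelian simple group with all proper subgroups solvable and all pairs generating solvable subgroups. -/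
structure Cex (G : Type u) [Group G] : Prop where
  simple : IsSimpleGroup G
  noncomm : ¬ IsMulCommutative G
  sol : ∀ H : Subgroup G, H ≠ ⊤ → Group.IsSolvable H
  pairs : ∀ a b : G, Group.IsSolvable (closure ({a, b} : Set G))

variable {G : Type u} [Group G] [Finite G] {p : ℕ} [Fact p.Prime]

/-- `O_{p'}(H)` inside `G`. -/
def coreIn (p : ℕ) (H : Subgroup G) : Subgroup G := (pPrimeCore p H).map H.subtype

/-- `O_{p',p}(H)` inside `G`. -/
def ppIn (p : ℕ) (H : Subgroup G) : Subgroup G := (pPrimePCore p H).map H.subtype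

theorem coreIn_le (H : Subgroup G) : coreIn p H ≤ H := map_subtype_le _

theorem ppIn_le (H : Subgroup G) : ppIn p H ≤ H := map_subtype_le _

theorem mem_coreIn {H : Subgroup G} {g : G} : g ∈ coreIn p H ↔ ∃ hg : g ∈ H, (⟨g, hg⟩ : H) ∈ pPrimeCore p H :=
  ⟨fun ⟨y, hy, e⟩ => e ▸ ⟨y.2, hy⟩, fun ⟨hg, h⟩ => ⟨⟨g, hg⟩, h, rfl⟩⟩

theorem mem_ppIn {H : Subgroup G} {g : G} : g ∈ ppIn p H ↔ ∃ hg : g ∈ H, (⟨g, hg⟩ : H) ∈ pPrimePCore p H :=
  ⟨fun ⟨y, hy, e⟩ => e ▸ ⟨y.2, hy⟩, fun ⟨hg, h⟩ => ⟨⟨g, hg⟩, h, rfl⟩⟩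

theorem coreIn_centralizer (z : G) : coreIn p (centralizer ({z} : Set G)) = centralizerPPrimeCore p z := rfl

theorem coreIn_le_ppIn (H : Subgroup G) : coreIn p H ≤ ppIn p H := map_mono core_le_pPrimePCore

theorem card_coreIn (H : Subgroup G) : (Nat.card (coreIn p H)).Coprime p := by
  rw [coreIn, card_map_of_injective H.subtype_injective]; exact CfsgLib.card_pPrimeCore_coprime p

theorem orderOf_coprime_of_mem {K : Subgroup G} (hK : (Nat.card K).Coprime p) {k : G} (hk : k ∈ K) :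
    (orderOf k).Coprime p := hK.coprime_dvd_left (orderOf_dvd_natCard K hk)

theorem isPGroup_zpowers {x : G} (hx : ∃ k, x ^ p ^ k = 1) : IsPGroup p (zpowers x) := by
  obtain ⟨k, hk⟩ := hx
  obtain ⟨j, -, hj⟩ := (Nat.dvd_prime_pow (Fact.out : p.Prime)).1 (orderOf_dvd_of_pow_eq_one hk)
  exact IsPGroup.iff_card.2 ⟨j, by rw [Nat.card_zpowers, hj]⟩

theorem pGroup_coprime {A K : Subgroup G} (hA : IsPGroup p A) (hK : (Nat.card K).Coprime p) :
    (Nat.card A).Coprime (Nat.card K) := by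
  obtain ⟨k, hk⟩ := IsPGroup.iff_card.1 hA
  rw [hk]; exact (hK.pow_right k).symm

theorem le_normalizer_coreIn (H : Subgroup G) : H ≤ normalizer (coreIn p H : Set G) := by
  intro g hg
  rw [mem_normalizer_iff]
  have key : ∀ g ∈ H, ∀ y ∈ coreIn p H, g * y * g⁻¹ ∈ coreIn p H := by
    rintro g hg _ ⟨y, hy, rfl⟩
    exact ⟨⟨g, hg⟩ * y * ⟨g, hg⟩⁻¹, (inferInstance : (pPrimeCore p H).Normal).conj_mem y hy _, rfl⟩
  exact fun y => ⟨key g hg y, fun h => by simpa [mul_assoc] using key g⁻¹ (inv_mem hg) _ h⟩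

theorem conj_mem_ppIn {H : Subgroup G} {g y : G} (hg : g ∈ H) (hy : y ∈ ppIn p H) : g * y * g⁻¹ ∈ ppIn p H := by
  obtain ⟨y, hy, rfl⟩ := hy
  haveI : (pPrimePCore p H).Normal := normal_comap _
  exact ⟨⟨g, hg⟩ * y * ⟨g, hg⟩⁻¹, Subgroup.Normal.conj_mem inferInstance y hy _, rfl⟩

/-- A normal `p'`-subgroup of `H` lies in `O_{p'}(H)`. -/
theorem le_coreIn {H K : Subgroup G} (hKH : K ≤ H) (hHK : H ≤ normalizer (K : Set G))
    (hK : (Nat.card K).Coprime p) : K ≤ coreIn p H := by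
  haveI : (K.subgroupOf H).Normal := (normal_subgroupOf_iff_le_normalizer hKH).2 hHK
  intro k hk
  exact ⟨⟨k, hKH hk⟩, CfsgLib.le_pPrimeCore (N := K.subgroupOf H)
    (by rw [Nat.card_congr (subgroupOfEquivOfLe hKH).toEquiv]; exact hK) hk, rfl⟩

theorem mem_coreIn_of_ppIn {H : Subgroup G} {g : G} (hg : g ∈ ppIn p H) (ho : (orderOf g).Coprime p) :
    g ∈ coreIn p H := by
  obtain ⟨hgH, hg'⟩ := mem_ppIn.1 hg
  exact mem_coreIn.2 ⟨hgH, mem_core_of_mem_pPrimePCore hg' (by rwa [orderOf_mk])⟩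

theorem mem_ppIn_of_rank {H : Subgroup G} (hs : Group.IsSolvable H) (hp : 5 ≤ p) (hrk : PRankLE p 2 G)
    {g : G} (hg : g ∈ H) (hgp : ∃ k, g ^ p ^ k = 1) : g ∈ ppIn p H := by
  haveI := hs
  refine mem_ppIn.2 ⟨hg, mem_pPrimePCore_of_rank hp (fun A hAc hAe => ?_)
    (hgp.imp fun k hk => Subtype.ext hk)⟩
  rw [← card_map_of_injective H.subtype_injective]
  refine hrk _ (haveI := hAc; inferInstance) ?_
  rintro _ ⟨a, ha, rfl⟩
  exact congrArg Subtype.val (hAe a ha)

theorem mem_ppIn_of_quad {H S : Subgroup G} (hs : Group.IsSolvable H) (hp : 5 ≤ p) (hSH : S ≤ H)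
    (hS : IsPGroup p S) (hmax : ∀ T : Subgroup G, IsPGroup p T → T ≤ H → S ≤ T → T ≤ S) {x : G}
    (hx : x ∈ S) (hq : ⁅⁅S, zpowers x⁆, zpowers x⁆ = ⊥) : x ∈ ppIn p H := by
  haveI := hs
  obtain ⟨T, hT⟩ := (hS.comap_of_injective H.subtype H.subtype_injective).exists_le_sylow
  have hTS : (T : Subgroup H).map H.subtype = S := by
    have h1 : S ≤ (T : Subgroup H).map H.subtype := fun s hs' => ⟨⟨s, hSH hs'⟩, hT hs', rfl⟩
    exact le_antisymm (hmax _ (T.2.map _) (map_subtype_le _) h1) h1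
  have hxT : (⟨x, hSH hx⟩ : H) ∈ (T : Subgroup H) := by
    obtain ⟨y, hy, hyx⟩ := hTS.ge hx
    rwa [show (⟨x, hSH hx⟩ : H) = y from Subtype.ext hyx.symm]
  refine mem_ppIn.2 ⟨hSH hx, mem_pPrimePCore_of_quad hp T hxT (Subgroup.map_injective H.subtype_injective ?_)⟩
  rw [map_commutator, map_commutator, MonoidHom.map_zpowers, hTS, Subgroup.map_bot]
  exact hq

theorem zj_frattini_in {H : Subgroup G} (hs : Group.IsSolvable H) (hp : 5 ≤ p) (S : Sylow p H) {g : G}
    (hg : g ∈ H) : ∃ o ∈ coreIn p H, ∃ n ∈ H,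
      n ∈ normalizer (ZJ.zj p ((S : Subgroup H).map H.subtype) : Set G) ∧ g = o * n := by
  haveI := hs
  obtain ⟨o, ho, n, hn, h⟩ := zj_frattini hp S ⟨g, hg⟩
  refine ⟨o, ⟨o, ho, rfl⟩, n, n.2, ?_, congrArg Subtype.val h⟩
  rw [ZJ.zj_map p H.subtype_injective]
  exact le_normalizer_map H.subtype ⟨n, hn, rfl⟩

theorem core_frattini_in {H : Subgroup G} (P : Sylow p G) (hPH : (P : Subgroup G) ≤ H) {g : G}
    (hg : g ∈ H) : ∃ o ∈ coreIn p H, ∃ n ∈ H,
      n ∈ normalizer (((P : Subgroup G) ⊓ ppIn p H : Subgroup G) : Set G) ∧ g = o * n := by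
  obtain ⟨o, ho, n, hn, h⟩ := core_frattini (P.subtype hPH) ⟨g, hg⟩
  refine ⟨o, ⟨o, ho, rfl⟩, n, n.2, ?_, congrArg Subtype.val h⟩
  have e : (((P.subtype hPH : Sylow p H) : Subgroup H) ⊓ pPrimePCore p H).map H.subtype =
      (P : Subgroup G) ⊓ ppIn p H := by
    rw [map_inf _ _ _ H.subtype_injective, Sylow.coe_subtype, map_subgroupOf_eq_of_le hPH, ppIn]
  rw [← e]
  exact le_normalizer_map H.subtype ⟨n, hn, rfl⟩

/-- Balance inside `G`. -/
theorem core_balance {H : Subgroup G} (hs : Group.IsSolvable H) {D K : Subgroup G} (hDH : D ≤ H)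
    (hD : IsPGroup p D) (hK : (Nat.card K).Coprime p) (hKH : K ≤ H ⊓ centralizer (D : Set G))
    (hn : H ⊓ centralizer (D : Set G) ≤ normalizer (K : Set G)) : K ≤ coreIn p H := by
  haveI := hs
  intro k hk
  set D' := D.subgroupOf H with hD'
  have hD'p : IsPGroup p D' := hD.comap_of_injective H.subtype H.subtype_injective
  set C := centralizer (D' : Set H) with hC
  set K' := (K.subgroupOf H).subgroupOf C with hK'
  have hmemC : ∀ c : H, c ∈ C ↔ (c : G) ∈ centralizer (D : Set G) := fun c =>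
    ⟨fun h d hd => congrArg Subtype.val (h ⟨d, hDH hd⟩ hd), fun h d hd => Subtype.ext (h d hd)⟩
  haveI : K'.Normal := ⟨fun y hy c => by
    show ((c : H) : G) * ((y : H) : G) * ((c : H) : G)⁻¹ ∈ K
    exact (mem_normalizer_iff.1 (hn ⟨(c : H).2, (hmemC c).1 c.2⟩) _).1 hy⟩
  have hcard : (Nat.card K').Coprime p := by
    refine hK.coprime_dvd_left ?_
    rw [← card_map_of_injective C.subtype_injective, ← card_map_of_injective H.subtype_injective]
    refine card_dvd_of_le ?_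
    rintro _ ⟨_, ⟨y, hy, rfl⟩, rfl⟩
    exact hy
  have hkH : k ∈ H := (hKH hk).1
  have hkC : (⟨k, hkH⟩ : H) ∈ C := (hmemC _).2 (hKH hk).2
  exact ⟨⟨k, hkH⟩, core_centralizer_le hD'p
    ⟨⟨⟨k, hkH⟩, hkC⟩, CfsgLib.le_pPrimeCore (N := K') hcard hk, rfl⟩, rfl⟩

theorem normalizer_ne_top (h : Cex G) {Q : Subgroup G} (hQ : IsPGroup p Q) (hne : Q ≠ ⊥) :
    normalizer (Q : Set G) ≠ ⊤ := by
  intro e
  haveI := h.simple
  haveI hn : Q.Normal := normalizer_eq_top_iff.1 e
  rcases hn.eq_bot_or_eq_top with h1 | h1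
  · exact hne h1
  · subst h1
    haveI : Group.IsNilpotent G := by
      haveI := (hQ.of_surjective (Subgroup.topEquiv (G := G)).toMonoidHom Subgroup.topEquiv.surjective)
      exact this.isNilpotent
    exact h.noncomm ⟨⟨fun a b => by
      rcases (inferInstance : (center G).Normal).eq_bot_or_eq_top with h2 | h2
      · haveI : Nontrivial G := IsSimpleGroup.toNontrivial
        exact absurd h2 (Group.IsNilpotent.center_ne_bot (G := G))
      · exact (mem_center_iff.1 (h2 ▸ mem_top b) a)⟩⟩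

theorem centralizer_ne_top (h : Cex G) {z : G} (hz : z ≠ 1) : centralizer ({z} : Set G) ≠ ⊤ := by
  intro e
  haveI := h.simple
  have hzc : z ∈ center G := mem_center_iff.2 fun g => mem_centralizer_singleton_iff.1 (e ▸ mem_top g)
  rcases (inferInstance : (center G).Normal).eq_bot_or_eq_top with h2 | h2
  · exact hz (mem_bot.1 (h2 ▸ hzc))
  · exact h.noncomm ⟨⟨fun a b => mem_center_iff.1 (h2 ▸ mem_top b) a⟩⟩

theorem sol_centralizer (h : Cex G) {z : G} (hz : z ≠ 1) : Group.IsSolvable (centralizer ({z} : Set G)) :=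
  h.sol _ (centralizer_ne_top h hz)

theorem closure_pair_ne_top (h : Cex G) (a b : G) : closure ({a, b} : Set G) ≠ ⊤ := by
  intro e
  haveI := h.simple
  have hs := h.pairs a b
  rw [e] at hs
  haveI : Group.IsSolvable G := Group.isSolvable_of_surjective (f := (⊤ : Subgroup G).subtype)
    (fun g => ⟨⟨g, mem_top g⟩, rfl⟩)
  exact h.noncomm ((IsSimpleGroup.comm_iff_isSolvable).2 inferInstance |> fun hc => ⟨⟨hc⟩⟩)

/-- A conjugate of `x` by an element of an invariant `p'`-group is reached inside the subgroup they generate. -/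
theorem exists_closed_conj {O : Subgroup G} {x : G} (hxO : x ∈ normalizer (O : Set G))
    (hcop : (Nat.card O).Coprime p) (hxp : ∃ k, x ^ p ^ k = 1) {o : G} (ho : o ∈ O) :
    ∃ b ∈ O, b ∈ closure ({x, o * x * o⁻¹} : Set G) ∧ b * x * b⁻¹ = o * x * o⁻¹ := by
  set B := closure ({x, o * x * o⁻¹} : Set G) with hB
  set W := O ⊓ B with hW
  have hxB : x ∈ B := subset_closure (by simp)
  have hyB : o * x * o⁻¹ ∈ B := subset_closure (by simp)
  set A := zpowers x with hA
  have hAW : A ≤ normalizer (W : Set G) := by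
    intro a ha
    have haO : a ∈ normalizer (O : Set G) := zpowers_le.2 hxO ha
    have haB : a ∈ B := zpowers_le.2 hxB ha
    rw [mem_normalizer_iff]
    intro y
    constructor
    · rintro ⟨h1, h2⟩
      exact ⟨(mem_normalizer_iff.1 haO y).1 h1, B.mul_mem (B.mul_mem haB h2) (B.inv_mem haB)⟩
    · rintro ⟨h1, h2⟩
      exact ⟨(mem_normalizer_iff.1 haO y).2 h1, by
        simpa [mul_assoc] using B.mul_mem (B.mul_mem (B.inv_mem haB) h2) haB⟩
  have hwy : o * x * o⁻¹ * x⁻¹ ∈ W := by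
    refine ⟨?_, B.mul_mem hyB (B.inv_mem hxB)⟩
    have h1 : x * o⁻¹ * x⁻¹ ∈ O := (mem_normalizer_iff.1 hxO _).1 (inv_mem ho)
    simpa [mul_assoc] using mul_mem ho h1
  have hAp : IsPGroup p A := isPGroup_zpowers hxp
  have hWc : (Nat.card W).Coprime p := hcop.coprime_dvd_left (card_dvd_of_le inf_le_left)
  have hle : A.map (MulAut.conj o).toMonoidHom ≤ W ⊔ A := by
    rw [hA, MonoidHom.map_zpowers, zpowers_le]
    show o * x * o⁻¹ ∈ W ⊔ zpowers x
    have := mul_mem_sup hwy (mem_zpowers x)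
    simpa [mul_assoc] using this
  obtain ⟨g, hg, hgA⟩ := exists_conj_complement hAW (pGroup_coprime hAp hWc)
    (Or.inl (by haveI := hAp.isNilpotent; infer_instance)) hle
    (card_map_of_injective (MulAut.conj o).injective)
  refine ⟨g, hg.1, hg.2, ?_⟩
  have h1 : g * x * g⁻¹ ∈ A.map (MulAut.conj o).toMonoidHom := by
    rw [← hgA, pointwise_smul_def]
    exact ⟨x, mem_zpowers x, rfl⟩
  obtain ⟨y, hy, hyg⟩ := h1
  have hyg' : o * y * o⁻¹ = g * x * g⁻¹ := hyg
  set e := o⁻¹ * g with he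
  have heO : e ∈ O := mul_mem (inv_mem ho) hg.1
  have hy1 : y = e * x * e⁻¹ := by
    calc y = o⁻¹ * (o * y * o⁻¹) * o := by group
      _ = o⁻¹ * (g * x * g⁻¹) * o := by rw [hyg']
      _ = e * x * e⁻¹ := by rw [he]; group
  have hyx : y = x := by
    have h2 : y * x⁻¹ ∈ O := by
      have h1 : x * e⁻¹ * x⁻¹ ∈ O := (mem_normalizer_iff.1 hxO _).1 (inv_mem heO)
      rw [hy1]
      simpa [mul_assoc] using mul_mem heO h1
    have h3 : y * x⁻¹ ∈ A := mul_mem hy (inv_mem (mem_zpowers x))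
    exact mul_inv_eq_one.1
      (disjoint_def.1 (disjoint_of_coprime_natCard (pGroup_coprime hAp hcop)) h3 h2)
  rw [← hyg', hyx]

/-- The trick: a closed pair and an element of `C(x)` lie in a two-generated subgroup. -/
theorem mem_closed {x y b e : G} (hb : b ∈ closure ({x, y} : Set G)) (hy : b * x * b⁻¹ = y)
    (he : e * x = x * e) : y ∈ closure ({x, b * e} : Set G) ∧ b ∈ closure ({x, b * e} : Set G) ∧
      e ∈ closure ({x, b * e} : Set G) := by
  have hx : x ∈ closure ({x, b * e} : Set G) := subset_closure (by simp)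
  have hbe : b * e ∈ closure ({x, b * e} : Set G) := subset_closure (by simp)
  have hy' : y ∈ closure ({x, b * e} : Set G) := by
    have e2 : (b * e) * x * (b * e)⁻¹ = y := by
      rw [← hy]
      calc b * e * x * (b * e)⁻¹ = b * (e * x) * e⁻¹ * b⁻¹ := by group
        _ = b * x * b⁻¹ := by rw [he]; group
    rw [← e2]
    exact mul_mem (mul_mem hbe hx) (inv_mem hbe)
  have hb' : b ∈ closure ({x, b * e} : Set G) := by
    refine (closure_le _).2 ?_ hb
    rintro z (rfl | rfl)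
    · exact hx
    · exact hy'
  exact ⟨hy', hb', by simpa using mul_mem (inv_mem hb') hbe⟩

/-- A `p`-subgroup of `H` lies in a maximal one. -/
theorem exists_max_pGroup {H S : Subgroup G} (hS : IsPGroup p S) (hSH : S ≤ H) :
    ∃ T : Sylow p H, S ≤ (T : Subgroup H).map H.subtype := by
  obtain ⟨T, hT⟩ := (hS.comap_of_injective H.subtype H.subtype_injective).exists_le_sylow
  exact ⟨T, fun s hs => ⟨⟨s, hSH hs⟩, hT hs, rfl⟩⟩

end CfsgLib.PairSol
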