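import Cfsg.Agent.Lib.PairSol.CentCore
import Cfsg.Agent.Lib.Blocks.Sections

/-!
The set of products `z k` and the pairs of it whose product leaves it.
-/

set_option autoImplicit false
set_option linter.unusedSectionVars false
set_option linter.style.haveILetI false

namespace CfsgLib.PairSol

open Cfsg Subgroup
open scoped Pointwise commutatorElement

universe u

variable {G : Type u} [Group G] [Finite G] {p : ℕ} [Fact p.Prime]

/-- The products of a nontrivial `p`-element with an element of its signalizer. -/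
def InF (p : ℕ) (g : G) : Prop :=
  ∃ z k : G, z ≠ 1 ∧ (∃ i, z ^ p ^ i = 1) ∧ k ∈ centralizerPPrimeCore p z ∧ g = z * k

theorem exists_orderOf_of_pel {z : G} (hz : ∃ i, z ^ p ^ i = 1) : ∃ i, orderOf z = p ^ i := by
  obtain ⟨i, hi⟩ := hz
  obtain ⟨j, -, hj⟩ := (Nat.dvd_prime_pow (Fact.out : p.Prime)).1 (orderOf_dvd_of_pow_eq_one hi)
  exact ⟨j, hj⟩

theorem pel_of_orderOf {z : G} (hz : ∃ i, orderOf z = p ^ i) : ∃ i, z ^ p ^ i = 1 :=
  hz.imp fun i hi => by rw [← hi, pow_orderOf_eq_one]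

theorem not_dvd_orderOf_of_theta {z k : G} (hk : k ∈ centralizerPPrimeCore p z) : ¬ p ∣ orderOf k :=
  (Fact.out : p.Prime).coprime_iff_not_dvd.1 (orderOf_coprime_of_mem (K := centralizerPPrimeCore p z)
    (card_coreIn (centralizer ({z} : Set G))) hk).symm

theorem pel_pow {z : G} (hz : ∃ i, z ^ p ^ i = 1) (t : ℕ) : ∃ i, (z ^ t) ^ p ^ i = 1 :=
  hz.imp fun i hi => by rw [← pow_mul, mul_comm, pow_mul, hi, one_pow]

theorem centralizer_pow_of_coprime {z : G} {t : ℕ} (ht : t.Coprime (orderOf z)) :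
    centralizer ({z ^ t} : Set G) = centralizer ({z} : Set G) := by
  obtain ⟨m, hm⟩ := exists_pow_eq_self_of_coprime ht
  ext g
  rw [mem_centralizer_singleton_iff, mem_centralizer_singleton_iff]
  exact ⟨fun hg => by rw [← hm]; exact ((show Commute g (z ^ t) from hg).pow_right m).eq,
    fun hg => ((show Commute g z from hg).pow_right t).eq⟩

theorem coprime_of_not_dvd {z : G} (hz : ∃ i, z ^ p ^ i = 1) {t : ℕ} (ht : ¬ p ∣ t) :
    t.Coprime (orderOf z) := by
  obtain ⟨i, hi⟩ := exists_orderOf_of_pel hz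
  rw [hi]
  exact ((Fact.out : p.Prime).coprime_iff_not_dvd.2 ht).symm.pow_right i

theorem theta_pow {z : G} (hz : ∃ i, z ^ p ^ i = 1) {t : ℕ} (ht : ¬ p ∣ t) :
    centralizerPPrimeCore p (z ^ t) = centralizerPPrimeCore p z := by
  rw [← coreIn_centralizer, ← coreIn_centralizer, centralizer_pow_of_coprime (coprime_of_not_dvd hz ht)]

theorem pow_ne_one_of_not_dvd {z : G} (hz : ∃ i, z ^ p ^ i = 1) (hz1 : z ≠ 1) {t : ℕ} (ht : ¬ p ∣ t) :
    z ^ t ≠ 1 := fun e => hz1 (orderOf_eq_one_iff.1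
  (Nat.eq_one_of_dvd_coprimes (coprime_of_not_dvd hz ht).symm dvd_rfl (orderOf_dvd_of_pow_eq_one e)))

theorem inF_pow {z k : G} (hz1 : z ≠ 1) (hz : ∃ i, z ^ p ^ i = 1) (hk : k ∈ centralizerPPrimeCore p z)
    {t : ℕ} (ht : ¬ p ∣ t) : InF p (z ^ t * k) :=
  ⟨z ^ t, k, pow_ne_one_of_not_dvd hz hz1 ht, pel_pow hz t, by rw [theta_pow hz ht]; exact hk, rfl⟩

theorem inF_conj {g : G} (hg : InF p g) (c : G) : InF p (c * g * c⁻¹) := by
  obtain ⟨z, k, hz1, hz, hk, rfl⟩ := hg
  exact ⟨c * z * c⁻¹, c * k * c⁻¹, fun e => hz1 (conj_eq_one_iff.1 e),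
    hz.imp fun i hi => by rw [conj_pow, hi, mul_one, mul_inv_cancel],
    SolvSF.conj_mem_centralizerPPrimeCore c z hk, by group⟩

theorem inF_inv {g : G} (hg : InF p g) : InF p g⁻¹ := by
  obtain ⟨z, k, hz1, hz, hk, rfl⟩ := hg
  have e : centralizer ({z⁻¹} : Set G) = centralizer ({z} : Set G) := by
    ext c
    rw [mem_centralizer_singleton_iff, mem_centralizer_singleton_iff]
    exact ⟨fun h => by simpa using (show Commute c z⁻¹ from h).inv_right.eq,
      fun h => (show Commute c z from h).inv_right.eq⟩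
  refine ⟨z⁻¹, k⁻¹, fun h => hz1 (inv_eq_one.1 h), hz.imp fun i hi => by rw [inv_pow, hi, inv_one], ?_, ?_⟩
  · rw [← coreIn_centralizer, e, coreIn_centralizer]; exact inv_mem hk
  · rw [mul_inv_rev]
    exact (show Commute k z from mem_centralizerPPrimeCore_le z hk).inv_inv.eq

/-- The two parts of an element of the set lie among its powers. -/
theorem parts_mem {z k : G} (hz : ∃ i, z ^ p ^ i = 1) (hk : k ∈ centralizerPPrimeCore p z) :
    z ∈ zpowers (z * k) ∧ k ∈ zpowers (z * k) := by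
  letI := Fintype.ofFinite G
  obtain ⟨a, b, hab, hc, ha, hb, haz, hbz⟩ := CfsgLib.Blocks.exists_pPart (Fact.out : p.Prime) (z * k)
  obtain ⟨rfl, rfl⟩ := CfsgLib.Blocks.pPart_unique (Fact.out : p.Prime) hc
    (show Commute z k from (mem_centralizerPPrimeCore_le z hk).symm) ha (exists_orderOf_of_pel hz) hb
    (not_dvd_orderOf_of_theta hk) hab
  exact ⟨haz, hbz⟩

/-- In a two-generated subgroup an element is bad only if its `p`-part is trivial. -/
theorem mem_core_or_inF (h : Cex G) (hp : 5 ≤ p) (hrk : PRankLE p 2 G) {K : Subgroup G} {z k z' k' : G}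
    (D : PairData p K z k z' k') {y : G} (hy : y ∈ K) : y ∈ coreIn p K ∨ InF p y := by
  obtain ⟨w, r, hwr, hc, hw, hr, hwy, hry⟩ := CfsgLib.Blocks.exists_pPart (Fact.out : p.Prime) y
  have hrK : r ∈ K := zpowers_le.2 hy hry
  have hrO : r ∈ coreIn p K := mem_coreIn_of_ppIn (D.le_ppIn h hp hrk hrK)
    ((Fact.out : p.Prime).coprime_iff_not_dvd.2 hr).symm
  by_cases hw1 : w = 1
  · left; rw [← hwr, hw1, one_mul]; exact hrO
  exact Or.inr ⟨w, r, hw1, pel_of_orderOf hw, cent_core h hp hrk D (zpowers_le.2 hy hwy) hw1 (pel_of_orderOf hw)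
    (mem_inf.2 ⟨hrO, mem_centralizer_singleton_iff.2 hc.symm.eq⟩), hwr.symm⟩

/-- At most one residue gives a bad product. -/
theorem bad_unique (h : Cex G) (hp : 5 ≤ p) (hrk : PRankLE p 2 G) {z k z' k' : G} (hz1 : z ≠ 1)
    (hz : ∃ i, z ^ p ^ i = 1) (hk : k ∈ centralizerPPrimeCore p z) (hz'1 : z' ≠ 1)
    (hz' : ∃ i, z' ^ p ^ i = 1) (hk' : k' ∈ centralizerPPrimeCore p z') {i j : ℕ} (hi : i < p) (hj : j < p)
    (hib : ¬ InF p (z * k * (z' ^ i * k'))) (hjb : ¬ InF p (z * k * (z' ^ j * k'))) : i = j := by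
  set K := closure ({z * k, z' * k'} : Set G) with hK
  have hzK : z * k ∈ K := subset_closure (by simp)
  have hz'K : z' * k' ∈ K := subset_closure (by simp)
  obtain ⟨h1, h2⟩ := parts_mem hz hk
  obtain ⟨h3, h4⟩ := parts_mem hz' hk'
  have D : PairData p K z k z' k' :=
    ⟨closure_pair_ne_top h _ _, (closure_le _).2 (by
      rintro g (rfl | rfl)
      · exact mul_mem (subset_closure (by simp)) (subset_closure (by simp))
      · exact mul_mem (subset_closure (by simp)) (subset_closure (by simp))),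
      ⟨zpowers_le.2 hzK h1, hz1, hz⟩, ⟨zpowers_le.2 hzK h2, hk⟩,
      ⟨zpowers_le.2 hz'K h3, hz'1, hz'⟩, ⟨zpowers_le.2 hz'K h4, hk'⟩⟩
  have hO : ∀ t : ℕ, ¬ InF p (z * k * (z' ^ t * k')) → z * z' ^ t ∈ coreIn p K := by
    intro t ht
    have hy : z * k * (z' ^ t * k') ∈ K := mul_mem hzK (mul_mem (pow_mem D.hz'.1 t) D.hk'.1)
    have h5 := (mem_core_or_inF h hp hrk D hy).resolve_right ht
    have h6 : z * k * z' ^ t ∈ coreIn p K := by
      have := mul_mem h5 (inv_mem (D.core_right h))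
      rwa [show z * k * (z' ^ t * k') * k'⁻¹ = z * k * z' ^ t by group] at this
    have h7 := (mem_normalizer_iff.1 (le_normalizer_coreIn (p := p) K (inv_mem (pow_mem D.hz'.1 t))) _).1
      (inv_mem (D.core_left h))
    have h8 := mul_mem h6 h7
    rwa [show z * k * z' ^ t * ((z' ^ t)⁻¹ * k⁻¹ * ((z' ^ t)⁻¹)⁻¹) = z * z' ^ t by group] at h8
  wlog hij : i ≤ j generalizing i j
  · exact (this hj hi hjb hib (by omega)).symm
  have hd : z' ^ (j - i) ∈ coreIn p K := by
    have h9 := mul_mem (inv_mem (hO i hib)) (hO j hjb)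
    rwa [show (z * z' ^ i)⁻¹ * (z * z' ^ j) = z' ^ (j - i) by
      rw [← Nat.add_sub_cancel' hij, pow_add, Nat.add_sub_cancel_left]; group] at h9
  have h10 : z' ^ (j - i) = 1 := disjoint_def.1 (disjoint_of_coprime_natCard
    (pGroup_coprime (isPGroup_zpowers hz') (card_coreIn (p := p) K))) (pow_mem (mem_zpowers z') _) hd
  by_contra hne
  refine pow_ne_one_of_not_dvd hz' hz'1 (t := j - i) (fun hdvd => ?_) h10
  have := Nat.le_of_dvd (by omega) hdvd
  omega

end CfsgLib.PairSol
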